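import Cfsg.Agent.Suzuki.SzTori
import Cfsg.Prelude.Def_KGroupFacts

/-!
Automorphisms of the Suzuki group.
-/

set_option autoImplicit false

namespace Cfsg.Agent.Suzuki

open scoped Matrix

section Field

variable {F : Type*} [Field F] {m : ℕ}

theorem th_map (σ : F ≃+* F) (x : F) : σ (th m x) = th m (σ x) := by simp [th]

theorem th'_map (σ : F ≃+* F) (x : F) : σ (th' m x) = th' m (σ x) := by simp [th']

/-- The action of a field automorphism on `SL₄`. -/
def slMap (σ : F ≃+* F) : Matrix.SpecialLinearGroup (Fin 4) F →* Matrix.SpecialLinearGroup (Fin 4) F :=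
  Matrix.SpecialLinearGroup.map (σ : F →+* F)

theorem slMap_val (σ : F ≃+* F) (A : Matrix.SpecialLinearGroup (Fin 4) F) :
    (slMap σ A).1 = A.1.map σ := rfl

theorem slMap_uMat (σ : F ≃+* F) (a b : F) : slMap σ (uMat m a b) = uMat m (σ a) (σ b) := by
  apply Subtype.ext
  rw [slMap_val]
  ext i j
  fin_cases i <;> fin_cases j <;> simp [uMat, ovf, th_map, map_ofNat]

theorem slMap_hMat (σ : F ≃+* F) (k : Fˣ) :
    slMap σ (hMat m k) = hMat m (Units.map (σ : F →* F) k) := by
  apply Subtype.ext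
  rw [slMap_val]
  ext i j
  fin_cases i <;> fin_cases j <;> simp [hMat, th'_map]

theorem slMap_wMat (σ : F ≃+* F) : slMap σ (wMat (F := F)) = wMat := by
  apply Subtype.ext
  rw [slMap_val]
  ext i j
  fin_cases i <;> fin_cases j <;> simp [wMat]

variable (h : Ctx F m)
include h

theorem slMap_mem (σ : F ≃+* F) (g : Cfsg.Sz F m) : slMap σ g.1 ∈ Cfsg.Sz F m := by
  rcases element_cases h g with ⟨a, b, k, rfl⟩ | ⟨a, b, c, d, k, rfl⟩
  · show slMap σ (uMat m a b * hMat m k) ∈ _
    rw [map_mul, slMap_uMat, slMap_hMat]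
    exact mul_mem (uMat_mem h _ _) (hMat_mem h _)
  · show slMap σ (uMat m a b * wMat * uMat m c d * hMat m k) ∈ _
    rw [map_mul, map_mul, map_mul, slMap_uMat, slMap_hMat, slMap_wMat, slMap_uMat]
    exact mul_mem (mul_mem (mul_mem (uMat_mem h _ _) (wMat_mem h)) (uMat_mem h _ _)) (hMat_mem h _)

/-- Field automorphisms act on the Suzuki group. -/
noncomputable def fieldAut : (F ≃+* F) →* MulAut (Cfsg.Sz F m) where
  toFun σ :=
    { toFun := fun g => ⟨slMap σ g.1, slMap_mem h σ g⟩
      invFun := fun g => ⟨slMap σ.symm g.1, slMap_mem h σ.symm g⟩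
      left_inv := fun g => Subtype.ext (Subtype.ext (by ext i j; simp [slMap_val]))
      right_inv := fun g => Subtype.ext (Subtype.ext (by ext i j; simp [slMap_val]))
      map_mul' := fun x y => Subtype.ext (map_mul (slMap σ) x.1 y.1) }
  map_one' := MulEquiv.ext fun g => Subtype.ext (Subtype.ext (by ext i j; simp [slMap_val]))
  map_mul' σ τ := MulEquiv.ext fun g => Subtype.ext (Subtype.ext (by ext i j; simp [slMap_val]))

theorem fieldAut_uEl (σ : F ≃+* F) (a b : F) :
    fieldAut h σ (uEl h a b) = uEl h (σ a) (σ b) := Subtype.ext (slMap_uMat σ a b)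

theorem fieldAut_hEl (σ : F ≃+* F) (k : Fˣ) :
    fieldAut h σ (hEl h k) = hEl h (Units.map (σ : F →* F) k) := Subtype.ext (slMap_hMat σ k)

theorem fieldAut_wEl (σ : F ≃+* F) : fieldAut h σ (wEl h) = wEl h := Subtype.ext (slMap_wMat σ)

omit h in
theorem conj_apply' {G : Type*} [Group G] (g x : G) : MulAut.conj g x = g * x * g⁻¹ := rfl

/-- A field automorphism inducing an inner automorphism is trivial. -/
theorem fieldAut_inner {σ : F ≃+* F} (hσ : fieldAut h σ ∈ Cfsg.Inn (Cfsg.Sz F m)) : σ = 1 := by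
  obtain ⟨g, hg⟩ := hσ
  have hu : ∀ a b : F, g * uEl h a b * g⁻¹ = uEl h (σ a) (σ b) := fun a b => by
    rw [← fieldAut_uEl, ← hg, conj_apply']
  have hgn : g ∈ MulAction.stabilizer (Cfsg.Sz F m) (inf' F m) := by
    rw [← normalizer_uGrp h, Subgroup.mem_normalizer_iff]
    intro x
    constructor
    · rintro ⟨a, b, rfl⟩; exact ⟨_, _, hu a b⟩
    · rintro ⟨a, b, e⟩
      refine ⟨σ.symm a, σ.symm b, ?_⟩
      rw [show uEl h a b = g * uEl h (σ.symm a) (σ.symm b) * g⁻¹ by rw [hu]; simp] at e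
      simpa using e
  obtain ⟨a, b, l, rfl⟩ := fix_inf h hgn
  refine RingEquiv.ext fun x => ?_
  by_cases hx : x = 0
  · simp [hx]
  have hk : uEl h a b * hEl h l * hEl h (Units.mk0 x hx) * (uEl h a b * hEl h l)⁻¹ =
      hEl h (Units.map (σ : F →* F) (Units.mk0 x hx)) := by
    rw [← fieldAut_hEl, ← hg, conj_apply']
  rw [mul_inv_eq_iff_eq_mul] at hk
  have e : uEl h a b * hEl h l * (uEl h 0 0 * hEl h (Units.mk0 x hx)) =
      uEl h 0 0 * hEl h (Units.map (σ : F →* F) (Units.mk0 x hx)) * (uEl h a b * hEl h l) := by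
    simpa [uEl_zero] using hk
  rw [uhEl_mul, uhEl_mul] at e
  have := congrArg Units.val (uhEl_inj h e).2.2
  simp only [Units.val_mul, Units.val_mk0, Units.coe_map, MonoidHom.coe_coe] at this
  rw [mul_comm] at this
  exact (mul_right_cancel₀ l.ne_zero this).symm

/-! ### Normalising an automorphism -/

theorem exists_th_mul (b : F) : ∃ a : F, th m a * a = b := by
  have := h.finite
  have hinj : Function.Injective (fun a : F => th m a * a) := by
    intro x y e
    simp only at e
    by_cases hy : y = 0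
    · subst hy
      rw [th_zero, mul_zero, mul_eq_zero] at e
      rcases e with e | e
      · exact pow_eq_zero_iff (by positivity) |>.1 e
      · exact e
    have hty : th m y ≠ 0 := pow_ne_zero _ hy
    have : (x / y) * th m (x / y) = 1 := by
      rw [show th m (x / y) = th m x / th m y from div_pow x y _]
      field_simp
      linear_combination e
    exact (div_eq_one_iff_eq hy).1 (h.mul_th_eq_one this)
  exact (Finite.injective_iff_surjective.1 hinj) b

/-- The unipotent elements with square one. -/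
theorem uEl_sq_eq_one {a b : F} : uEl h a b * uEl h a b = 1 ↔ a = 0 := by
  rw [uEl_sq, ← uEl_zero h]
  constructor
  · intro e
    rcases mul_eq_zero.1 (uEl_inj h e).2 with e' | e'
    · exact pow_eq_zero_iff (by positivity) |>.1 e'
    · exact e'
  · rintro rfl; rw [mul_zero]

/-- Up to an inner automorphism an automorphism preserves the unipotent subgroup and the torus. -/
theorem normalise (φ : MulAut (Cfsg.Sz F m)) : ∃ g : Cfsg.Sz F m,
    (∀ a b : F, ∃ c d : F, (MulAut.conj g * φ) (uEl h a b) = uEl h c d) ∧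
      ∀ k : Fˣ, ∃ l : Fˣ, (MulAut.conj g * φ) (hEl h k) = hEl h l := by
  have := finite_sz h
  have := h.finite
  -- move the Sylow 2-subgroup
  let P : Sylow 2 (Cfsg.Sz F m) := uSylow h
  let Q : Sylow 2 (Cfsg.Sz F m) := Sylow.ofCard ((uGrp h).map φ.toMonoidHom) (by
    rw [← Nat.card_congr (Subgroup.equivMapOfInjective _ _ φ.injective).toEquiv, factorization_two h,
      card_uGrp, ← pow_mul, mul_comm])
  obtain ⟨g, hg⟩ := MulAction.exists_smul_eq (Cfsg.Sz F m) Q P
  let ψ := MulAut.conj g * φ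
  have hU : ∀ x, ψ x ∈ uGrp h ↔ x ∈ uGrp h := by
    intro x
    have e : ((uGrp h).map φ.toMonoidHom).map (MulAut.conj g).toMonoidHom = uGrp h := by
      have := congrArg (fun R : Sylow 2 (Cfsg.Sz F m) => (R : Subgroup (Cfsg.Sz F m))) hg
      simp only [P, uSylow_coe, Sylow.coe_subgroup_smul] at this
      exact this
    rw [Subgroup.map_map] at e
    constructor
    · intro hx
      rw [← e] at hx
      obtain ⟨y, hy, hxy⟩ := Subgroup.mem_map.1 hx
      exact ψ.injective hxy ▸ hy
    · intro hx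
      rw [← e]
      exact Subgroup.mem_map.2 ⟨x, hx, rfl⟩
  have hstab : ∀ x, x ∈ MulAction.stabilizer (Cfsg.Sz F m) (inf' F m) →
      ψ x ∈ MulAction.stabilizer (Cfsg.Sz F m) (inf' F m) := by
    intro x hx
    rw [← normalizer_uGrp h, Subgroup.mem_normalizer_iff] at hx ⊢
    intro y
    obtain ⟨y, rfl⟩ := ψ.surjective y
    rw [hU, hx y, ← hU, map_mul, map_mul, map_inv]
  -- the torus
  obtain ⟨k0, hk0⟩ := IsCyclic.exists_generator (α := Fˣ)
  obtain ⟨a, b, k, hk⟩ := fix_inf h (hstab (hEl h k0) (hEl_smul_inf h k0))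
  have hk1 : k ≠ 1 := by
    rintro rfl
    rw [hEl_one, mul_one] at hk
    have hmem : hEl h k0 ∈ uGrp h := (hU _).1 (hk ▸ uEl_mem h a b)
    obtain ⟨c, d, e⟩ := hmem
    have e2 : hEl h k0 * hEl h k0 * (hEl h k0 * hEl h k0) = 1 := by
      rw [e, ← uEl_pow_four h c d]
      simp [pow_succ, mul_assoc]
    rw [← hEl_mul, ← hEl_mul, ← hEl_one h] at e2
    have e3 := congrArg Units.val (hEl_inj h e2)
    simp only [Units.val_mul, Units.val_one] at e3
    have e4 : (k0 : F) = 1 := by
      have e5 : ((k0 : F) * k0) ^ 2 = (1 : F) ^ 2 := by linear_combination e3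
      have e6 := h.sq_injective e5
      exact h.sq_injective (show (k0 : F) ^ 2 = (1 : F) ^ 2 by linear_combination e6)
    obtain ⟨x, hx0, hx1⟩ := h.exists_ne_zero_one
    obtain ⟨j, hj⟩ := hk0 (Units.mk0 x hx0)
    rw [show k0 = 1 from Units.ext e4] at hj
    simp only [one_zpow] at hj
    exact hx1 (congrArg Units.val hj).symm
  obtain ⟨x, y, hxy⟩ := exists_second_fix h a b hk1
  refine ⟨(uEl h x y)⁻¹ * g, ?_, ?_⟩
  · intro c d
    obtain ⟨c', d', e⟩ := (hU _).2 (uEl_mem h c d)
    have hmem : (MulAut.conj ((uEl h x y)⁻¹ * g) * φ) (uEl h c d) ∈ uGrp h := by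
      rw [map_mul, mul_assoc, MulAut.mul_apply, show (MulAut.conj g * φ) (uEl h c d) = uEl h c' d' from e,
        conj_apply']
      exact mul_mem (mul_mem (inv_mem (uEl_mem h x y)) (uEl_mem h _ _))
        (inv_mem (inv_mem (uEl_mem h x y)))
    exact hmem
  · intro l
    obtain ⟨j, rfl⟩ := hk0 l
    have e1 : (MulAut.conj ((uEl h x y)⁻¹ * g) * φ) (hEl h k0) =
        (uEl h x y)⁻¹ * (uEl h a b * hEl h k) * uEl h x y := by
      rw [map_mul, mul_assoc, MulAut.mul_apply, show (MulAut.conj g * φ) (hEl h k0) = _ from hk,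
        conj_apply', inv_inv]
    obtain ⟨k', hk'⟩ := fix_two h (g := (uEl h x y)⁻¹ * (uEl h a b * hEl h k) * uEl h x y)
      (by rw [mul_smul, mul_smul, uEl_smul_inf, mul_smul, hEl_smul_inf, uEl_smul_inf,
        inv_smul_eq_iff, uEl_smul_inf])
      (by rw [mul_smul, mul_smul, uEl_smul_zero, hxy, inv_smul_eq_iff, uEl_smul_zero])
    let η : Fˣ →* Cfsg.Sz F m := { toFun := hEl h, map_one' := hEl_one h, map_mul' := hEl_mul h }
    refine ⟨k' ^ j, ?_⟩
    show (MulAut.conj ((uEl h x y)⁻¹ * g) * φ) (η (k0 ^ j)) = η (k' ^ j)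
    rw [map_zpow, map_zpow, map_zpow]
    congr 1
    exact e1.trans hk'

/-- An automorphism preserving unipotent subgroup and torus is inner times a field automorphism. -/
theorem field_of_normalised {φ : MulAut (Cfsg.Sz F m)}
    (hU : ∀ a b : F, ∃ c d : F, φ (uEl h a b) = uEl h c d)
    (hH : ∀ k : Fˣ, ∃ l : Fˣ, φ (hEl h k) = hEl h l) :
    ∃ (g : Cfsg.Sz F m) (σ : F ≃+* F), φ = MulAut.conj g * fieldAut h σ := by
  classical
  have := h.finite
  have := finite_sz h
  choose α β hαβ using hU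
  choose π hπ using hH
  -- the centre
  have hcen : ∀ b, α 0 b = 0 := fun b => (uEl_sq_eq_one h).1 (by
    rw [← hαβ, ← map_mul, (uEl_sq_eq_one h).2 rfl, map_one])
  have hprod : ∀ a b c d, α a b + α c d = α (a + c) (b + d + th m a * c) ∧
      β a b + β c d + th m (α a b) * α c d = β (a + c) (b + d + th m a * c) := fun a b c d => by
    apply uEl_inj h
    rw [← uEl_mul, ← hαβ, ← hαβ, ← map_mul, uEl_mul, hαβ]
  have hindep : ∀ a b, α a b = α a 0 := fun a b => by
    have e := (hprod a 0 0 b).1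
    rw [hcen, add_zero, add_zero, mul_zero, add_zero, zero_add] at e
    exact e.symm
  have hadd : ∀ a c, α (a + c) 0 = α a 0 + α c 0 := fun a c => by
    rw [(hprod a 0 c 0).1, hindep (a + c) (0 + 0 + th m a * c)]
  have hconj : ∀ (k : Fˣ) a b, α ((k : F) * a) ((k : F) * th m (k : F) * b) = (π k : F) * α a b ∧
      β ((k : F) * a) ((k : F) * th m (k : F) * b) =
        (π k : F) * th m (π k : F) * β a b := fun k a b => by
    apply uEl_inj h
    rw [← hαβ, ← hEl_conj, ← hEl_conj, map_mul, map_mul, map_inv, hαβ, hπ]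
  have hc : α 1 0 ≠ 0 := by
    intro e
    have h1 : φ (uEl h 1 0 * uEl h 1 0) = 1 := by
      rw [map_mul, hαβ]; exact (uEl_sq_eq_one h).2 e
    exact one_ne_zero ((uEl_sq_eq_one h).1 (φ.injective (h1.trans (map_one φ).symm)))
  -- the field automorphism
  let σ0 : F → F := fun a => α a 0 / α 1 0
  have hσk : ∀ k : Fˣ, σ0 k = π k := fun k => by
    have e := (hconj k 1 0).1
    rw [mul_one, mul_zero] at e
    simp only [σ0, e]
    field_simp
  have hσ0 : σ0 0 = 0 := by simp [σ0, hcen]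
  have hσmul : ∀ a c, σ0 (a * c) = σ0 a * σ0 c := fun a c => by
    by_cases ha : a = 0
    · simp [ha, hσ0]
    have e := (hconj (Units.mk0 a ha) c 0).1
    rw [Units.val_mk0, mul_zero] at e
    simp only [σ0] at *
    rw [e, ← hσk (Units.mk0 a ha), Units.val_mk0]
    field_simp
  have hσ1 : σ0 1 = 1 := by simp [σ0, hc]
  have hσadd : ∀ a c, σ0 (a + c) = σ0 a + σ0 c := fun a c => by simp [σ0, hadd, add_div]
  let σh : F →+* F :=
    { toFun := σ0, map_one' := hσ1, map_mul' := hσmul, map_zero' := hσ0, map_add' := hσadd }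
  let σ : F ≃+* F := RingEquiv.ofBijective σh
    ⟨σh.injective, Finite.injective_iff_surjective.1 σh.injective⟩
  -- compose
  let g0 : Cfsg.Sz F m := hEl h (Units.mk0 (α 1 0) hc)
  let ψ : MulAut (Cfsg.Sz F m) := (fieldAut h σ)⁻¹ * (MulAut.conj g0)⁻¹ * φ
  suffices hψ : ψ = 1 by
    refine ⟨g0, σ, ?_⟩
    calc φ = MulAut.conj g0 * fieldAut h σ * ψ := by simp only [ψ]; group
      _ = MulAut.conj g0 * fieldAut h σ := by rw [hψ, mul_one]
  have happ : ∀ x, φ x = g0 * fieldAut h σ (ψ x) * g0⁻¹ := fun x => by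
    rw [← conj_apply', ← MulAut.mul_apply, ← MulAut.mul_apply]
    congr 1
    simp [ψ, mul_assoc]
  have hψH : ∀ k, ψ (hEl h k) = hEl h k := fun k => by
    apply (fieldAut h σ).injective
    have e := happ (hEl h k)
    rw [hπ] at e
    rw [fieldAut_hEl, show Units.map (σ : F →* F) k = π k from Units.ext (hσk k)]
    apply mul_left_cancel (a := g0)
    apply mul_right_cancel (b := g0⁻¹)
    rw [← e, show g0 * hEl h (π k) * g0⁻¹ = hEl h (π k) from by
      simp only [g0, ← hEl_mul, hEl_inv]; congr 1; rw [mul_comm _ (π k), mul_assoc]; simp]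
  have hψU : ∀ a, ∃ d, ∀ b, ψ (uEl h a b) = uEl h a (d + b) := by
    have h0 : ∀ a b, ∃ d, ψ (uEl h a b) = uEl h a d := fun a b => by
      have hk := (Units.mk0 (α 1 0) hc).ne_zero
      refine ⟨σ.symm (((Units.mk0 (α 1 0) hc)⁻¹ : Fˣ) * th m (((Units.mk0 (α 1 0) hc)⁻¹ : Fˣ) : F) *
        β a b), (fieldAut h σ).injective ?_⟩
      have e := happ (uEl h a b)
      rw [hαβ, hindep] at e
      rw [fieldAut_uEl, RingEquiv.apply_symm_apply]
      have e2 : fieldAut h σ (ψ (uEl h a b)) = g0⁻¹ * uEl h (α a 0) (β a b) * g0⁻¹⁻¹ := by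
        rw [e]; group
      rw [e2, show g0⁻¹ = hEl h (Units.mk0 (α 1 0) hc)⁻¹ from hEl_inv h _, hEl_conj]
      congr 1
      show _ = α a 0 / α 1 0
      rw [Units.val_inv_eq_inv_val, Units.val_mk0, inv_mul_eq_div]
    -- the centre is fixed
    have hz : ∀ b, ψ (uEl h 0 b) = uEl h 0 b := fun b => by
      obtain ⟨a, rfl⟩ := exists_th_mul h b
      rw [← uEl_sq h a 0, map_mul]
      obtain ⟨d, e⟩ := h0 a 0
      rw [e, uEl_sq, uEl_sq]
    intro a
    obtain ⟨d, e⟩ := h0 a 0
    refine ⟨d, fun b => ?_⟩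
    rw [show uEl h a b = uEl h a 0 * uEl h 0 b by rw [uEl_mul]; simp, map_mul, e, hz, uEl_mul]
    simp
  choose f hf using hψU
  have hfadd : ∀ a c, f (a + c) = f a + f c := fun a c => by
    have e : ψ (uEl h a 0 * uEl h c 0) = ψ (uEl h a 0) * ψ (uEl h c 0) := map_mul _ _ _
    rw [uEl_mul, hf, hf, hf, uEl_mul] at e
    have := (uEl_inj h e).2
    simp only [add_zero, zero_add] at this
    linear_combination this
  have hfmul : ∀ k : Fˣ, f k = (k : F) * th m (k : F) * f 1 := fun k => by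
    have e : ψ (hEl h k * uEl h 1 0 * (hEl h k)⁻¹) = ψ (hEl h k) * ψ (uEl h 1 0) * (ψ (hEl h k))⁻¹ := by
      simp
    rw [hψH, hf, hEl_conj, hEl_conj, hf] at e
    simpa using (uEl_inj h e).2
  have hf1 : f 1 = 0 := by
    by_contra hne
    obtain ⟨x, hx0, hx1⟩ := h.exists_ne_zero_one
    have hx1' : x + 1 ≠ 0 := fun e => hx1 (by
      rw [← h.neg_eq (1 : F)]; linear_combination e)
    have e := hfadd x 1
    rw [show x + 1 = ((Units.mk0 _ hx1' : Fˣ) : F) from rfl, hfmul,
      show f x = x * th m x * f 1 from hfmul (Units.mk0 x hx0), Units.val_mk0,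
      show th m (x + 1) = th m x + th m 1 from h.th_add x 1, th_one] at e
    have e2 : (th m x + x) * f 1 = 0 := by linear_combination e
    have e3 : th m x = x := by
      have := (mul_eq_zero.1 e2).resolve_right hne
      linear_combination this - x * h.two_eq_zero
    rcases h.th_fixed e3 with e4 | e4
    · exact hx0 e4
    · exact hx1 e4
  have hUid : ∀ a b, ψ (uEl h a b) = uEl h a b := fun a b => by
    rw [hf]
    congr 1
    by_cases ha : a = 0
    · have := hfadd 0 0
      simp only [add_zero] at this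
      rw [ha, show f 0 = 0 by linear_combination -this, zero_add]
    · rw [show f a = a * th m a * f 1 from hfmul (Units.mk0 a ha), hf1, mul_zero, zero_add]
  -- the involution `w`
  obtain ⟨k1, hk1⟩ : ∃ k1 : Fˣ, k1 ≠ 1 := by
    obtain ⟨x, hx0, hx1⟩ := h.exists_ne_zero_one
    exact ⟨Units.mk0 x hx0, fun e => hx1 (congrArg Units.val e)⟩
  obtain ⟨l, hl⟩ := comm_hEl h hk1 (c := wEl h * ψ (wEl h)) (by
    have e1 : ψ (wEl h) * hEl h k1 = hEl h k1⁻¹ * ψ (wEl h) := by
      have h1 : wEl h * hEl h k1 = hEl h k1⁻¹ * wEl h := by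
        rw [← hEl_inv, ← wEl_conj, mul_assoc, wEl_sq, mul_one]
      calc ψ (wEl h) * hEl h k1 = ψ (wEl h * hEl h k1) := by rw [map_mul, hψH]
        _ = _ := by rw [h1, map_mul, hψH]
    have h2 : wEl h * hEl h k1⁻¹ = hEl h k1 * wEl h := by
      have := wEl_conj h k1⁻¹
      rw [hEl_inv, inv_inv] at this
      rw [← this, mul_assoc, wEl_sq, mul_one]
    rw [mul_assoc, e1, ← mul_assoc, h2, mul_assoc])
  have hw : ψ (wEl h) = wEl h * hEl h l := by rw [← hl, ← mul_assoc, wEl_sq, one_mul]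
  obtain ⟨x', y', hx', hxy'⟩ : ∃ x' y', x' ≠ (0 : F) ∧ wEl h • pt m (0 : F) 1 = pt m x' y' :=
    ⟨_, _, by
      refine div_ne_zero one_ne_zero ?_
      rw [Ne, ovf_eq_zero h]
      simp, wEl_smul_pt h (by simp)⟩
  -- apply `ψ` to an element of the point stabiliser
  have hs : (wEl h * (uEl h x' y')⁻¹ * wEl h * uEl h 0 1 * wEl h) • inf' F m = inf' F m := by
    rw [mul_smul, mul_smul, mul_smul, mul_smul, wEl_smul_inf, uEl_smul_zero, hxy',
      show (uEl h x' y')⁻¹ • pt m x' y' = pt m (0 : F) 0 by rw [inv_smul_eq_iff, uEl_smul_zero],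
      wEl_smul_zero]
  obtain ⟨c, d, j, hj⟩ := fix_inf h hs
  have hs2 : (ψ (wEl h * (uEl h x' y')⁻¹ * wEl h * uEl h 0 1 * wEl h)) • inf' F m = inf' F m := by
    rw [hj, map_mul, hUid, hψH, uhEl_smul_inf]
  rw [map_mul, map_mul, map_mul, map_mul, map_inv, hUid, hUid, hw] at hs2
  simp only [mul_smul] at hs2
  rw [hEl_smul_inf, wEl_smul_inf, uEl_smul_zero] at hs2
  have hback : ∀ q, wEl h • hEl h l • q = inf' F m → q = pt m (0 : F) 0 := by
    intro q hq
    rw [← wEl_smul_zero h] at hq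
    have e := smul_left_cancel (wEl h) hq
    rw [← hEl_smul_zero h l] at e
    exact smul_left_cancel (hEl h l) e
  have e := hback _ hs2
  rw [inv_smul_eq_iff, uEl_smul_zero] at e
  have e' : hEl h l⁻¹ • pt m x' y' = pt m x' y' := by
    rw [← hxy', ← mul_smul, ← hEl_inv, ← wEl_conj, mul_assoc, wEl_sq, mul_one, mul_smul]
    exact e.trans hxy'.symm
  rw [hEl_smul_pt] at e'
  have l1 : l = 1 := by
    have h4 := (pt_inj e').1
    have h5 : (((l⁻¹ : Fˣ) : F) - 1) * x' = 0 := by linear_combination h4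
    have h6 := (mul_eq_zero.1 h5).resolve_right hx'
    exact inv_eq_one.1 (Units.ext (by simpa [sub_eq_zero] using h6))
  rw [l1, hEl_one, mul_one] at hw
  refine MulEquiv.ext fun z => ?_
  rcases element_cases h z with ⟨a, b, k, rfl⟩ | ⟨a, b, c, d, k, rfl⟩
  · simp [hUid, hψH]
  · simp [hUid, hψH, hw]

end Field

end Cfsg.Agent.Suzuki

namespace Cfsg.Agent.Suzuki

open scoped Matrix

/-- The outer automorphism group only depends on the isomorphism type. -/
noncomputable def outCongr {G H : Type*} [Group G] [Group H] (e : G ≃* H) :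
    Cfsg.Out G ≃* Cfsg.Out H :=
  QuotientGroup.congr _ _ (MulAut.congr e) (by
    ext φ
    simp only [Subgroup.mem_map, MonoidHom.mem_range]
    constructor
    · rintro ⟨_, ⟨g, rfl⟩, rfl⟩
      exact ⟨e g, MulEquiv.ext fun x => by simp [MulAut.congr]⟩
    · rintro ⟨g, rfl⟩
      exact ⟨_, ⟨e.symm g, rfl⟩, MulEquiv.ext fun x => by simp [MulAut.congr]⟩)

/-- A field of order `p ^ n` has `n` automorphisms. -/
theorem card_ringEquiv {F : Type*} [Field F] [Finite F] {p n : ℕ} [Fact p.Prime]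
    (hF : Nat.card F = p ^ n) : Nat.card (F ≃+* F) = n := by
  have hn : 1 < p ^ n := hF ▸ Finite.one_lt_card
  have hn0 : n ≠ 0 := fun e => by simp [e] at hn
  have : CharP F p := by
    obtain ⟨r, hr⟩ := CharP.exists F
    have := hr
    have hrp : r.Prime := (CharP.char_is_prime_or_zero F r).resolve_right fun e => by
      subst e
      exact (CharP.char_ne_zero_of_finite F 0) rfl
    let := Fintype.ofFinite F
    obtain ⟨k, hk, hc⟩ := FiniteField.card F r
    rw [← Nat.card_eq_fintype_card, hF] at hc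
    have : p = r := ((Nat.prime_dvd_prime_iff_eq (Fact.out : p.Prime) hk).1
      ((Fact.out : p.Prime).dvd_of_dvd_pow (hc ▸ dvd_pow_self p hn0)))
    exact this ▸ hr
  let := ZMod.algebra F p
  have e : Nat.card (F ≃+* F) = Nat.card (F ≃ₐ[ZMod p] F) := Nat.card_congr
    { toFun := fun σ => AlgEquiv.ofRingEquiv (f := σ) fun x => by
        exact RingHom.congr_fun (RingHom.ext_zmod ((σ : F →+* F).comp (algebraMap (ZMod p) F))
          (algebraMap (ZMod p) F)) x
      invFun := fun σ => σ.toRingEquiv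
      left_inv := fun σ => rfl
      right_inv := fun σ => rfl }
  rw [e, IsGalois.card_aut_eq_finrank]
  have h2 := Module.natCard_eq_pow_finrank (K := ZMod p) (V := F)
  rw [hF, Nat.card_zmod] at h2
  exact (Nat.pow_right_injective (Fact.out : p.Prime).two_le h2).symm

variable {F : Type*} [Field F] {m : ℕ}

theorem card_out (h : Ctx F m) : Nat.card (Cfsg.Out (Cfsg.Sz F m)) = 2 * m + 1 := by
  have := h.finite
  let Ψ : (F ≃+* F) →* Cfsg.Out (Cfsg.Sz F m) :=
    (QuotientGroup.mk' (Cfsg.Inn (Cfsg.Sz F m))).comp (fieldAut h)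
  have hinj : Function.Injective Ψ := (injective_iff_map_eq_one Ψ).2 fun σ hσ =>
    fieldAut_inner h ((QuotientGroup.eq_one_iff _).1 hσ)
  have hsurj : Function.Surjective Ψ := by
    intro x
    obtain ⟨φ, rfl⟩ := QuotientGroup.mk'_surjective _ x
    obtain ⟨g, hU, hH⟩ := normalise h φ
    obtain ⟨g', σ, e⟩ := field_of_normalised h hU hH
    refine ⟨σ, ?_⟩
    have hone : ∀ t, QuotientGroup.mk' (Cfsg.Inn (Cfsg.Sz F m)) (MulAut.conj t) = 1 := fun t =>
      (QuotientGroup.eq_one_iff _).2 ⟨t, rfl⟩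
    have := congrArg (QuotientGroup.mk' (Cfsg.Inn (Cfsg.Sz F m))) e
    rw [map_mul, map_mul, hone, hone, one_mul, one_mul] at this
    exact this.symm
  rw [← Nat.card_eq_of_bijective Ψ ⟨hinj, hsurj⟩]
  have := Fact.mk Nat.prime_two
  exact card_ringEquiv h.card

end Cfsg.Agent.Suzuki
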