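import Mathlib
import Cfsg.Prelude.Def_LieExceptional
import Cfsg.Agent.PermGroups.FrobeniusKernel
import Cfsg.Agent.PermGroups.RegularNormal

/-!
Zassenhaus groups: Frobenius action of a point stabiliser, normal subgroups.
-/

set_option autoImplicit false

namespace Cfsg.Agent.Suzuki

open MulAction

variable {G X : Type*} [Group G] [MulAction G X]

/-- The kernel of a transitive action in which only the identity fixes two points. -/
theorem frob_kernel [Finite G] [IsPretransitive G X] [Nontrivial X]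
    (h : ∀ g : G, g ≠ 1 → ∀ u v : X, g • u = u → g • v = v → u = v) :
    ∃ K : Subgroup G, K.Normal ∧ (∀ g, g ∈ K ↔ g = 1 ∨ ∀ u : X, g • u ≠ u) ∧
      (∀ u : X, K ⊔ stabilizer G u = ⊤) ∧ ∀ u v : X, ∃ k ∈ K, k • u = v := by
  classical
  obtain ⟨x⟩ : Nonempty X := inferInstance
  by_cases hH : stabilizer G x = ⊥
  · refine ⟨⊤, inferInstance, fun g => ⟨fun _ => ?_, fun _ => Subgroup.mem_top g⟩, fun u => top_sup_eq _,
      fun u v => ?_⟩
    · by_cases hg : g = 1
      · exact Or.inl hg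
      · refine Or.inr fun u hu => hg ?_
        obtain ⟨k, rfl⟩ := exists_smul_eq G x u
        have hm : k⁻¹ * g * k ∈ stabilizer G x := by
          rw [mem_stabilizer_iff, mul_smul, mul_smul, hu, inv_smul_smul]
        rw [hH, Subgroup.mem_bot] at hm
        have : g = k * (k⁻¹ * g * k) * k⁻¹ := by group
        rw [this, hm, mul_one, mul_inv_cancel]
    · obtain ⟨k, hk⟩ := exists_smul_eq G u v
      exact ⟨k, Subgroup.mem_top k, hk⟩
  have hconj : ∀ g k : G, k⁻¹ * g * k ∈ stabilizer G x ↔ g • k • x = k • x := fun g k => by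
    rw [mem_stabilizer_iff, mul_smul, mul_smul, inv_smul_eq_iff]
  have hfr : Cfsg.IsFrobeniusComplement (stabilizer G x) := by
    refine ⟨hH, fun e => ?_, fun k hk => ?_⟩
    · obtain ⟨y, hy⟩ := exists_ne x
      obtain ⟨k, hk⟩ := exists_smul_eq G x y
      exact hy (hk ▸ (e ▸ Subgroup.mem_top k : k ∈ stabilizer G x))
    · refine (Subgroup.eq_bot_iff_forall _).2 fun g hg => ?_
      by_contra hg1
      obtain ⟨hg', hgk⟩ := Subgroup.mem_inf.1 hg
      rw [Cfsg.Agent.PermGroups.mem_conj_smul, hconj] at hgk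
      exact hk (h g hg1 x (k • x) hg' hgk).symm
  obtain ⟨K, hK, hKn, hcompl⟩ := Cfsg.Agent.PermGroups.Frobenius.exists_kernel hfr
  have hmem : ∀ g, g ∈ K ↔ g = 1 ∨ ∀ u : X, g • u ≠ u := fun g => by
    rw [← SetLike.mem_coe, hK, Cfsg.Agent.PermGroups.mem_frobeniusKernel]
    refine or_congr Iff.rfl ⟨fun h' u hu => ?_, fun h' k hk => h' _ ((hconj g k).1 hk)⟩
    obtain ⟨k, rfl⟩ := exists_smul_eq G x u
    exact h' k ((hconj g k).2 hu)
  have hto : ∀ v : X, ∃ k ∈ K, k • x = v := fun v => by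
    obtain ⟨g, rfl⟩ := exists_smul_eq G x v
    haveI := hKn
    obtain ⟨k, hk, s, hs, rfl⟩ : ∃ k ∈ K, ∃ s ∈ stabilizer G x, k * s = g := by
      have hg := Subgroup.mem_top g
      rw [← hcompl.sup_eq_top, Subgroup.mem_sup_of_normal_left] at hg
      exact hg
    exact ⟨k, hk, by rw [mul_smul, mem_stabilizer_iff.1 hs]⟩
  have htr : ∀ u v : X, ∃ k ∈ K, k • u = v := fun u v => by
    obtain ⟨k, hk, rfl⟩ := hto u
    obtain ⟨l, hl, rfl⟩ := hto v
    exact ⟨l * k⁻¹, mul_mem hl (inv_mem hk), by rw [mul_smul, inv_smul_smul]⟩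
  refine ⟨K, hKn, hmem, fun u => eq_top_iff.2 fun g _ => ?_, htr⟩
  obtain ⟨k, hk, hku⟩ := htr u (g • u)
  rw [show g = k * (k⁻¹ * g) by group]
  exact Subgroup.mul_mem_sup hk (by rw [mem_stabilizer_iff, mul_smul, ← hku, inv_smul_smul])

variable [Finite X] [FaithfulSMul G X]

/-- The kernel of a point stabiliser of a group without three fixed points. -/
theorem zas_kernel (h2 : IsMultiplyPretransitive G X 2)
    (h3 : ∀ g : G, ∀ a b c : X, a ≠ b → b ≠ c → a ≠ c → g • a = a → g • b = b → g • c = c → g = 1)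
    (hcard : 3 ≤ Nat.card X) (a : X) :
    ∃ K : Subgroup G, K ≤ stabilizer G a ∧ (∀ g ∈ stabilizer G a, ∀ k ∈ K, g * k * g⁻¹ ∈ K) ∧
      (∀ g, g ∈ K ↔ g • a = a ∧ (g = 1 ∨ ∀ u, u ≠ a → g • u ≠ u)) ∧
      ∀ u v, u ≠ a → v ≠ a → ∃ k ∈ K, k • u = v := by
  classical
  haveI : Finite G := Finite.of_injective _ (MulAction.toPerm_injective (α := G) (β := X))
  let Y : SubMulAction (stabilizer G a) X := SubMulAction.ofStabilizer G a
  have hY : ∀ u : X, u ∈ SubMulAction.ofStabilizer G a ↔ u ≠ a := fun u => Iff.rfl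
  haveI : IsPretransitive (stabilizer G a) (SubMulAction.ofStabilizer G a) :=
    ⟨fun u v => by
      obtain ⟨g, g1, g2⟩ := is_two_pretransitive_iff.1 h2 ((hY _).1 u.2).symm ((hY _).1 v.2).symm
      exact ⟨⟨g, g1⟩, Subtype.ext g2⟩⟩
  haveI : Nontrivial (SubMulAction.ofStabilizer G a) := by
    obtain ⟨b, hb, c, hc, hbc⟩ : ∃ b, b ≠ a ∧ ∃ c, c ≠ a ∧ b ≠ c := by
      haveI := Fintype.ofFinite X
      obtain ⟨b, hb⟩ : ∃ b, b ≠ a := by
        haveI : Nontrivial X := Finite.one_lt_card_iff_nontrivial.1 (by omega)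
        exact exists_ne a
      by_contra! hno
      have : (Finset.univ : Finset X) ⊆ {a, b} := fun c _ => by
        by_cases hc : c = a
        · simp [hc]
        · simp [hno b hb c hc]
      have := (Finset.card_le_card this).trans Finset.card_le_two
      rw [Finset.card_univ, ← Nat.card_eq_fintype_card] at this
      omega
    exact ⟨⟨⟨b, hb⟩, ⟨c, hc⟩, fun e => hbc (congrArg Subtype.val e)⟩⟩
  obtain ⟨K, hKn, hK, -, htr⟩ := frob_kernel (G := stabilizer G a) (X := SubMulAction.ofStabilizer G a)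
    (fun g hg u v hu hv => by
      by_contra hne
      exact hg (Subtype.ext (h3 g a u v ((hY _).1 u.2).symm (fun e => hne (Subtype.ext e))
        ((hY _).1 v.2).symm g.2 (congrArg Subtype.val hu) (congrArg Subtype.val hv))))
  refine ⟨K.map (stabilizer G a).subtype, ?_, ?_, fun g => ?_, ?_⟩
  · exact Subgroup.map_subtype_le K
  · rintro g hg _ ⟨k, hk, rfl⟩
    exact ⟨_, hKn.conj_mem k hk ⟨g, hg⟩, rfl⟩
  · constructor
    · rintro ⟨k, hk, rfl⟩
      refine ⟨k.2, ((hK k).1 hk).imp (fun e => by rw [e]; rfl) fun h' u hu e => ?_⟩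
      exact h' ⟨u, hu⟩ (Subtype.ext e)
    · rintro ⟨ha, h'⟩
      refine ⟨⟨g, ha⟩, (hK _).2 (h'.imp (fun e => Subtype.ext e) fun h'' u e => ?_), rfl⟩
      exact h'' u u.2 (congrArg Subtype.val e)
  · intro u v hu hv
    obtain ⟨k, hk, e⟩ := htr ⟨u, hu⟩ ⟨v, hv⟩
    exact ⟨k, ⟨k, hk, rfl⟩, congrArg Subtype.val e⟩

omit [FaithfulSMul G X] in
theorem three_le_card (h : ∃ g : G, g ≠ 1 ∧ ∃ a b : X, a ≠ b ∧ g • a = a ∧ g • b = b) [FaithfulSMul G X] :
    3 ≤ Nat.card X := by
  classical
  haveI := Fintype.ofFinite X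
  obtain ⟨g, hg, a, b, hab, ha, hb⟩ := h
  obtain ⟨c, hc⟩ : ∃ c, g • c ≠ c := by
    by_contra! hno
    exact hg (eq_of_smul_eq_smul (α := X) fun c => by rw [hno c, one_smul])
  rw [Nat.card_eq_fintype_card, ← Finset.card_univ]
  have : ({a, b, c} : Finset X).card = 3 := Finset.card_eq_three.2
    ⟨a, b, c, hab, fun e => hc (e ▸ ha), fun e => hc (e ▸ hb), rfl⟩
  exact this ▸ Finset.card_le_card (Finset.subset_univ _)

/-- A nontrivial normal subgroup contains the kernels, and an element fixing two points. -/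
theorem zas_normal (hZ : Cfsg.IsZassenhausGroup G X) (N : Subgroup G) [N.Normal] (hN : N ≠ ⊥) :
    IsPretransitive N X ∧ (∀ a : X, ∀ g : G, g • a = a → (g = 1 ∨ ∀ u, u ≠ a → g • u ≠ u) → g ∈ N) ∧
      (∃ g ∈ N, g ≠ 1 ∧ ∃ a b : X, a ≠ b ∧ g • a = a ∧ g • b = b) ∧
      IsMultiplyPretransitive N X 2 := by
  classical
  obtain ⟨-, h2, h3, hfix, hnr⟩ := hZ
  haveI : IsPreprimitive G X := isPreprimitive_of_is_two_pretransitive h2
  have hX3 := three_le_card (G := G) hfix
  haveI : Nontrivial X := Finite.one_lt_card_iff_nontrivial.1 (by omega)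
  haveI : Finite G := Finite.of_injective _ (MulAction.toPerm_injective (α := G) (β := X))
  haveI htN : IsPretransitive N X := by
    refine IsQuasiPreprimitive.isPretransitive_of_normal (fun e => hN ?_)
    refine (Subgroup.eq_bot_iff_forall N).2 fun n hn => eq_of_smul_eq_smul (α := X) fun x => ?_
    have hx : x ∈ MulAction.fixedPoints N X := e ▸ Set.mem_univ x
    rw [one_smul]; exact hx ⟨n, hn⟩
  -- some element of N fixes two points
  have hex : ∃ g ∈ N, g ≠ 1 ∧ ∃ a b : X, a ≠ b ∧ g • a = a ∧ g • b = b := by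
    by_contra hno
    obtain ⟨M, -, hM, -, htr⟩ := frob_kernel (G := N) (X := X) (fun g hg u v hu hv => by
      by_contra hne
      exact hno ⟨g, g.2, fun e => hg (Subtype.ext e), u, v, hne, hu, hv⟩)
    have hM' : ∀ g, g ∈ M.map N.subtype ↔ g ∈ N ∧ (g = 1 ∨ ∀ u : X, g • u ≠ u) := fun g => by
      constructor
      · rintro ⟨n, hn, rfl⟩
        exact ⟨n.2, ((hM n).1 hn).imp (fun e => by rw [e]; rfl) id⟩
      · rintro ⟨hg, h'⟩
        exact ⟨⟨g, hg⟩, (hM _).2 (h'.imp (fun e => Subtype.ext e) id), rfl⟩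
    have hn : (M.map N.subtype).Normal := ⟨fun m hm g => by
      rw [hM'] at hm ⊢
      refine ⟨Subgroup.Normal.conj_mem inferInstance m hm.1 g, hm.2.imp (fun e => by rw [e]; group)
        fun h' u e => h' (g⁻¹ • u) ?_⟩
      rw [mul_smul, mul_smul] at e
      exact eq_inv_smul_iff.2 e⟩
    obtain ⟨a, ha⟩ := hnr _ hn ⟨fun u v => by
      obtain ⟨k, hk, e⟩ := htr u v
      exact ⟨⟨k, k, hk, rfl⟩, e⟩⟩
    apply ha
    refine (Subgroup.eq_bot_iff_forall _).2 fun m hm => ?_
    rcases ((hM' m).1 m.2).2 with e | e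
    · exact Subtype.ext e
    · exact absurd hm (e a)
  -- the kernels lie in N
  have hker : ∀ a : X, ∀ g : G, g • a = a → (g = 1 ∨ ∀ u, u ≠ a → g • u ≠ u) → g ∈ N := by
    intro a
    obtain ⟨g, hgN, hg1, c, d, hcd, hc, hd⟩ := hex
    obtain ⟨k, hk⟩ := exists_smul_eq G c a
    obtain ⟨n, hnN, hn1, hna, b, hba, hnb⟩ :
        ∃ n ∈ N, n ≠ 1 ∧ n • a = a ∧ ∃ b, b ≠ a ∧ n • b = b := by
      refine ⟨k * g * k⁻¹, Subgroup.Normal.conj_mem inferInstance g hgN k, fun e => hg1 ?_, ?_,
        k • d, fun e => hcd ?_, ?_⟩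
      · rwa [mul_inv_eq_one, mul_eq_left] at e
      · rw [mul_smul, mul_smul, ← hk, inv_smul_smul, hc]
      · exact smul_left_cancel k (hk.trans e.symm)
      · rw [mul_smul, mul_smul, inv_smul_smul, hd]
    obtain ⟨K, hKle, hKn, hK, -⟩ := zas_kernel h2 h3 hX3 a
    intro x hxa hx
    let f : K → K := fun z => ⟨(z : G) * (n * (z : G)⁻¹ * n⁻¹),
      mul_mem z.2 (hKn n (mem_stabilizer_iff.2 hna) _ (inv_mem z.2))⟩
    have hinj : Function.Injective f := by
      intro z w e
      have e' : (z : G) * (n * (z : G)⁻¹ * n⁻¹) = (w : G) * (n * (w : G)⁻¹ * n⁻¹) :=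
        congrArg Subtype.val e
      have hc : n * ((w : G)⁻¹ * z) = ((w : G)⁻¹ * z) * n := by
        have := congrArg (fun y => (w : G)⁻¹ * y * (n * z)) e'
        simp only [mul_assoc, inv_mul_cancel_left, inv_mul_cancel, mul_one] at this
        simpa [mul_assoc] using this.symm
      have hm : (w : G)⁻¹ * z ∈ K := mul_mem (inv_mem w.2) z.2
      rcases ((hK _).1 hm).2 with e1 | e1
      · exact Subtype.ext (inv_mul_eq_one.1 e1).symm
      · exfalso
        have ha' := ((hK _).1 hm).1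
        have hb' : n • (((w : G)⁻¹ * z) • b) = ((w : G)⁻¹ * z) • b := by
          rw [← mul_smul, hc, mul_smul, hnb]
        have hne : ((w : G)⁻¹ * z) • b ≠ a := fun e2 => hba (smul_left_cancel _ (e2.trans ha'.symm))
        exact hn1 (h3 n a b _ hba.symm (e1 b hba).symm hne.symm hna hnb hb')
    obtain ⟨z, hz⟩ := (Finite.injective_iff_surjective.1 hinj) ⟨x, (hK x).2 ⟨hxa, hx⟩⟩
    have hz' : (z : G) * (n * (z : G)⁻¹ * n⁻¹) = x := congrArg Subtype.val hz
    rw [show x = (z : G) * n * (z : G)⁻¹ * n⁻¹ by rw [← hz']; simp only [mul_assoc]]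
    exact mul_mem (Subgroup.Normal.conj_mem inferInstance n hnN z) (inv_mem hnN)
  refine ⟨htN, hker, hex, is_two_pretransitive_iff.2 fun {a b c d} hab hcd => ?_⟩
  obtain ⟨m, hm⟩ := htN.exists_smul_eq a c
  obtain ⟨K, -, -, hK, htr⟩ := zas_kernel h2 h3 hX3 c
  obtain ⟨k, hk, e⟩ := htr (m • b) d (fun e => hab (smul_left_cancel m (e.trans hm.symm)).symm) hcd.symm
  refine ⟨⟨k, hker c k ((hK k).1 hk).1 ((hK k).1 hk).2⟩ * m, ?_, ?_⟩
  · rw [mul_smul, hm]; exact ((hK k).1 hk).1
  · rw [mul_smul]; exact e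

/-- A normal subgroup of a Zassenhaus group is a Zassenhaus group. -/
theorem zas_of_normal (hZ : Cfsg.IsZassenhausGroup G X) (N : Subgroup G) [N.Normal] (hN : N ≠ ⊥) :
    Cfsg.IsZassenhausGroup N X := by
  obtain ⟨-, -, ⟨g, hg, hg1, a, b, hab, ha, hb⟩, h2N⟩ := zas_normal hZ N hN
  obtain ⟨-, -, h3, hfix, hnr⟩ := hZ
  have hX3 := three_le_card (G := G) hfix
  haveI : Nontrivial X := Finite.one_lt_card_iff_nontrivial.1 (by omega)
  haveI hfaith : FaithfulSMul N X := ⟨fun {n m} e => Subtype.ext (eq_of_smul_eq_smul (α := X) e)⟩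
  refine ⟨hfaith, h2N, fun n a b c h1 h2' h3' ea eb ec => Subtype.ext (h3 n a b c h1 h2' h3' ea eb ec),
    ⟨⟨g, hg⟩, fun e => hg1 (congrArg Subtype.val e), a, b, hab, ha, hb⟩, fun M hMn hMt => ?_⟩
  by_contra! hreg
  obtain ⟨p, j, -, -, -, -, hab', -⟩ :=
    Cfsg.Agent.PermGroups.regular_normal_elementaryAbelian h2N M hMt hreg
  haveI := hMn
  haveI : IsPreprimitive N X := isPreprimitive_of_is_two_pretransitive h2N
  -- an abelian regular normal subgroup of N is unique
  have huniq : ∀ M' : Subgroup N, M'.Normal → IsPretransitive M' X → (∀ x : X, stabilizer M' x = ⊥) →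
      M' ≤ M := by
    intro M' hn' ht' hr'
    by_cases hint : M ⊓ M' = ⊥
    · intro m' hm'
      obtain ⟨x⟩ : Nonempty X := inferInstance
      obtain ⟨m, hm⟩ := hMt.exists_smul_eq x (m' • x)
      have hcomm : ∀ z ∈ M, Commute z m' := fun z hz => by
        haveI := hn'
        exact Subgroup.commute_of_normal_of_disjoint M M' inferInstance inferInstance
          (disjoint_iff.2 hint) z m' hz hm'
      suffices m' = (m : N) by rw [this]; exact m.2
      refine eq_of_smul_eq_smul (α := X) fun y => ?_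
      obtain ⟨z, rfl⟩ := hMt.exists_smul_eq x y
      show m' • (z : N) • x = (m : N) • (z : N) • x
      rw [← mul_smul, ← (hcomm z z.2).eq, mul_smul, ← hm, ← mul_smul m.1,
        show (m : N) * z = (z : N) * m from congrArg Subtype.val (hab' m z), mul_smul]
      rfl
    · haveI := hn'
      have ht : IsPretransitive (M ⊓ M' : Subgroup N) X := by
        refine IsQuasiPreprimitive.isPretransitive_of_normal (fun e => hint ?_)
        refine (Subgroup.eq_bot_iff_forall _).2 fun n hn => eq_of_smul_eq_smul (α := X) fun x => ?_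
        have hx : x ∈ MulAction.fixedPoints (M ⊓ M' : Subgroup N) X := e ▸ Set.mem_univ x
        rw [one_smul]; exact hx ⟨n, hn⟩
      intro m' hm'
      obtain ⟨x⟩ : Nonempty X := inferInstance
      obtain ⟨k, hk⟩ := ht.exists_smul_eq x (m' • x)
      have := Cfsg.Agent.PermGroups.regular_smul_injective (hr' x)
        (a₁ := ⟨m', hm'⟩) (a₂ := ⟨(k : N), k.2.2⟩) hk.symm
      rw [show m' = (k : N) from congrArg Subtype.val this]
      exact k.2.1
  have hn : (M.map N.subtype).Normal := by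
    refine ⟨?_⟩
    rintro _ ⟨m, hm, rfl⟩ k
    let φ : MulAut N := MulAut.conjNormal k
    have hle := huniq (M.map φ.toMonoidHom) (Subgroup.Normal.map hMn _ φ.surjective) ⟨fun u v => ?_⟩
      (fun x => ?_)
    · exact ⟨φ m, hle ⟨m, hm, rfl⟩, MulAut.conjNormal_apply k m⟩
    · obtain ⟨z, hz⟩ := hMt.exists_smul_eq (k⁻¹ • u) (k⁻¹ • v)
      refine ⟨⟨φ z, z, z.2, rfl⟩, ?_⟩
      show ((φ z : N) : G) • u = v
      rw [MulAut.conjNormal_apply, mul_smul, mul_smul,
        show ((z : N) : G) • k⁻¹ • u = k⁻¹ • v from hz, smul_inv_smul]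
    · refine (Subgroup.eq_bot_iff_forall _).2 ?_
      rintro ⟨_, z, hz, rfl⟩ hx
      have hz' : (⟨z, hz⟩ : M) ∈ stabilizer M (k⁻¹ • x) := by
        have hx' : ((φ z : N) : G) • x = x := hx
        rw [MulAut.conjNormal_apply, mul_smul, mul_smul, ← eq_inv_smul_iff] at hx'
        exact hx'
      rw [hreg, Subgroup.mem_bot] at hz'
      have hz1 : z = 1 := congrArg Subtype.val hz'
      exact Subtype.ext (by show φ z = 1; rw [hz1, map_one])
  obtain ⟨x, hx⟩ := hnr _ hn ⟨fun u v => by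
    obtain ⟨z, hz⟩ := hMt.exists_smul_eq u v
    exact ⟨⟨_, z, z.2, rfl⟩, hz⟩⟩
  apply hx
  refine (Subgroup.eq_bot_iff_forall _).2 ?_
  rintro ⟨_, z, hz, rfl⟩ hzx
  have hz' : (⟨z, hz⟩ : M) ∈ stabilizer M x := hzx
  rw [hreg, Subgroup.mem_bot] at hz'
  exact Subtype.ext (by
    show ((z : N) : G) = 1
    rw [show z = 1 from congrArg Subtype.val hz']; rfl)

/-- A Zassenhaus group of odd degree is simple. -/
theorem zas_odd_simple (hZ : Cfsg.IsZassenhausGroup G X) (hodd : Odd (Nat.card X)) : IsSimpleGroup G := by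
  classical
  haveI : Finite G := Finite.of_injective _ (MulAction.toPerm_injective (α := G) (β := X))
  have hZ' := hZ
  obtain ⟨-, h2, h3, hfix, -⟩ := hZ'
  have hX3 := three_le_card (G := G) hfix
  haveI : Nontrivial G := by
    obtain ⟨g, hg, -⟩ := hfix
    exact ⟨g, 1, hg⟩
  refine ⟨fun N hNn => or_iff_not_imp_left.2 fun hN => ?_⟩
  haveI := hNn
  obtain ⟨htN, hker, -, h2N⟩ := zas_normal hZ N hN
  -- two-point stabilisers have odd order
  have hHodd : ∀ h : G, ∀ a b : X, a ≠ b → h • a = a → h • b = b → Odd (orderOf h) := by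
    intro h a b hab ha hb
    by_contra hev
    rw [Nat.not_odd_iff_even] at hev
    set i := h ^ (orderOf h / 2) with hi
    have hpos : 0 < orderOf h := orderOf_pos h
    have h2dvd : 2 ∣ orderOf h := hev.two_dvd
    have hi1 : i ≠ 1 := by
      intro e
      have := Nat.le_of_dvd (by omega) (orderOf_dvd_of_pow_eq_one e)
      omega
    have hi2 : i * i = 1 := by
      rw [hi, ← pow_add, show orderOf h / 2 + orderOf h / 2 = orderOf h by omega, pow_orderOf_eq_one]
    have hia : i • a = a := (stabilizer G a).pow_mem (mem_stabilizer_iff.2 ha) _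
    have hib : i • b = b := (stabilizer G b).pow_mem (mem_stabilizer_iff.2 hb) _
    haveI := Fintype.ofFinite X
    haveI : Fact (Nat.Prime 2) := ⟨Nat.prime_two⟩
    let σ : Equiv.Perm X := MulAction.toPerm i
    have hσ : σ ^ 2 ^ 1 = 1 := by
      ext x
      simp only [pow_one, pow_two, Equiv.Perm.coe_mul, Function.comp_apply, σ, toPerm_apply,
        Equiv.Perm.coe_one, id_eq]
      rw [← mul_smul, hi2, one_smul]
    obtain ⟨c, hc, hca, hcb⟩ : ∃ c, i • c = c ∧ c ≠ a ∧ c ≠ b := by
      by_contra! hno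
      have hsupp : σ.support = Finset.univ \ {a, b} := by
        ext c
        simp only [Equiv.Perm.mem_support, Finset.mem_sdiff, Finset.mem_univ, true_and,
          Finset.mem_insert, Finset.mem_singleton, σ, toPerm_apply]
        constructor
        · rintro hc (rfl | rfl)
          exacts [hc hia, hc hib]
        · intro hc e
          push Not at hc
          exact hc.2 (hno c e hc.1)
      have hev2 : 2 ∣ σ.support.card := by
        have := Equiv.Perm.card_compl_support_modEq hσ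
        rw [Finset.card_compl] at this
        have hle : σ.support.card ≤ Fintype.card X := Finset.card_le_univ _
        unfold Nat.ModEq at this
        omega
      rw [hsupp, Finset.card_univ_sdiff, Finset.card_pair hab, ← Nat.card_eq_fintype_card] at hev2
      obtain ⟨l, hl⟩ := hodd
      omega
    exact hi1 (h3 i a b c hab hcb.symm hca.symm hia hib hc)
  -- all involutions lie in N
  have hinv : ∀ s : G, s * s = 1 → s ∈ N := by
    intro s hs
    by_cases hs1 : s = 1
    · rw [hs1]; exact N.one_mem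
    haveI := Fintype.ofFinite X
    haveI : Fact (Nat.Prime 2) := ⟨Nat.prime_two⟩
    obtain ⟨a, ha⟩ := Equiv.Perm.exists_fixed_point_of_prime (σ := (MulAction.toPerm s : Equiv.Perm X)) (p := 2) (n := 1)
      (by rw [← Nat.card_eq_fintype_card, ← even_iff_two_dvd, Nat.not_even_iff_odd]; exact hodd)
      (by
        ext x
        simp only [pow_one, pow_two, Equiv.Perm.coe_mul, Function.comp_apply, toPerm_apply,
          Equiv.Perm.coe_one, id_eq]
        rw [← mul_smul, hs, one_smul])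
    refine hker a s ha (Or.inr fun u hu e => ?_)
    have := hHodd s a u hu.symm ha e
    rw [orderOf_eq_prime (p := 2) (by rw [pow_two, hs]) hs1] at this
    exact absurd this (by decide)
  rw [eq_top_iff]
  intro g _
  obtain ⟨g0, hg0, a, b, hab, ha0, hb0⟩ := hfix
  obtain ⟨m, m1, m2⟩ := is_two_pretransitive_iff.1 h2N hab
    (show g • a ≠ g • b from fun e => hab (smul_left_cancel g e))
  suffices hmem : (m : G)⁻¹ * g ∈ N by
    have := N.mul_mem m.2 hmem
    rwa [mul_inv_cancel_left] at this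
  set h := (m : G)⁻¹ * g with hh
  have hha : h • a = a := by rw [hh, mul_smul, ← show (m : G) • a = g • a from m1, inv_smul_smul]
  have hhb : h • b = b := by rw [hh, mul_smul, ← show (m : G) • b = g • b from m2, inv_smul_smul]
  -- an involution swapping a and b
  obtain ⟨w, w1, w2⟩ := is_two_pretransitive_iff.1 h2 hab hab.symm
  have hwo : Odd (orderOf (w ^ 2)) := hHodd _ a b hab (by rw [pow_two, mul_smul, w1, w2])
    (by rw [pow_two, mul_smul, w2, w1])
  set t := w ^ orderOf (w ^ 2) with ht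
  have ht2 : t * t = 1 := by rw [ht, ← pow_add, ← two_mul, pow_mul, pow_orderOf_eq_one]
  obtain ⟨l, hl⟩ := hwo
  have hta : t • a = b := by
    rw [ht, hl, pow_succ', mul_smul, pow_mul,
      mem_stabilizer_iff.1 ((stabilizer G a).pow_mem
        (mem_stabilizer_iff.2 (by rw [pow_two, mul_smul, w1, w2])) l), w1]
  have htb : t • b = a := by rw [← hta, ← mul_smul, ht2, one_smul]
  have htN' : t ∈ N := hinv t ht2
  -- conjugation by t inverts the two-point stabiliser
  set H := stabilizer G a ⊓ stabilizer G b with hH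
  have hconj : ∀ x ∈ H, t * x * t⁻¹ ∈ H := by
    intro x hx
    obtain ⟨x1, x2⟩ := Subgroup.mem_inf.1 hx
    rw [inv_eq_of_mul_eq_one_left ht2]
    exact Subgroup.mem_inf.2 ⟨by rw [mem_stabilizer_iff, mul_smul, mul_smul, hta, mem_stabilizer_iff.1 x2, htb],
      by rw [mem_stabilizer_iff, mul_smul, mul_smul, htb, mem_stabilizer_iff.1 x1, hta]⟩
  haveI := Fintype.ofFinite X
  haveI : Fact (Nat.Prime 2) := ⟨Nat.prime_two⟩
  obtain ⟨c, hc⟩ := Equiv.Perm.exists_fixed_point_of_prime (σ := (MulAction.toPerm t : Equiv.Perm X)) (p := 2) (n := 1)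
    (by rw [← Nat.card_eq_fintype_card, ← even_iff_two_dvd, Nat.not_even_iff_odd]; exact hodd)
    (by
      ext x
      simp only [pow_one, pow_two, Equiv.Perm.coe_mul, Function.comp_apply, toPerm_apply,
        Equiv.Perm.coe_one, id_eq]
      rw [← mul_smul, ht2, one_smul])
  replace hc : t • c = c := hc
  have hcen : ∀ x ∈ H, t * x = x * t → x = 1 := by
    intro x hx hcom
    obtain ⟨x1, x2⟩ := Subgroup.mem_inf.1 hx
    by_contra hne
    have hfx : x • c = c := by
      have hxc : t • (x • c) = x • c := by rw [← mul_smul, hcom, mul_smul, hc]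
      by_contra hne'
      have h' := hHodd t (x • c) c hne' hxc hc
      rw [orderOf_eq_prime (p := 2) (by rw [pow_two, ht2])
        (fun e => hab (by rw [← hta, e, one_smul]))] at h'
      exact absurd h' (by decide)
    exact hne (h3 x a b c hab (fun e => hab ((show a = c by rw [← htb, e, hc]).trans e.symm))
      (fun e => hab (by rw [← hta, e, hc])) x1 x2 hfx)
  let f : H → H := fun x => ⟨(x : G)⁻¹ * (t * x * t⁻¹), mul_mem (inv_mem x.2) (hconj x x.2)⟩
  have hinj : Function.Injective f := by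
    intro x y e
    have e' : (x : G)⁻¹ * (t * x * t⁻¹) = (y : G)⁻¹ * (t * y * t⁻¹) := congrArg Subtype.val e
    have hc' := hcen ((y : G) * (x : G)⁻¹) (mul_mem y.2 (inv_mem x.2)) (by
      have := congrArg (fun z => (y : G) * z * t) e'
      simp only [mul_assoc, inv_mul_cancel, mul_one, mul_inv_cancel_left] at this
      have h'' : (y : G) * (x : G)⁻¹ * t * x = t * y := by simpa [mul_assoc] using this
      calc t * ((y : G) * (x : G)⁻¹) = t * y * (x : G)⁻¹ := by rw [mul_assoc]
        _ = (y : G) * (x : G)⁻¹ * t := by rw [← h'']; group)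
    exact Subtype.ext (mul_inv_eq_one.1 hc').symm
  obtain ⟨x, hx⟩ := (Finite.injective_iff_surjective.1 hinj) ⟨h, Subgroup.mem_inf.2 ⟨hha, hhb⟩⟩
  have hx' : (x : G)⁻¹ * (t * x * t⁻¹) = h := congrArg Subtype.val hx
  rw [show h = ((x : G)⁻¹ * t * x) * t⁻¹ by rw [← hx']; simp only [mul_assoc]]
  refine mul_mem ?_ (inv_mem htN')
  simpa using Subgroup.Normal.conj_mem inferInstance t htN' (x : G)⁻¹

end Cfsg.Agent.Suzuki
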