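import Cfsg.Agent.Suzuki.ReeCox

/-!
Element orders of the small Ree group.
-/

set_option autoImplicit false

universe u

namespace Cfsg.Agent.Suzuki.Ree

open Cfsg.Lie Cfsg.Agent.Chev Cfsg.Agent.Linear
open scoped Matrix MatrixGroups Pointwise

variable {K : Type u} [Field K] {m : ℕ} (h : Ctx K m)

/-- `G¹` -/
local notation "G₁" => twistedG2 K (3 ^ m)

theorem split_eq (m : ℕ) : (3 ^ (2 * m + 1) - 1) / 2 = nSplit m := rfl

theorem ell_eq (m : ℕ) : (3 ^ (2 * m + 1) + 1) / 4 = nEll m := rfl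

theorem two_ell (m : ℕ) : (3 ^ (2 * m + 1) + 1) / 2 = 2 * nEll m := by
  obtain ⟨j, hj, -, e2, -⟩ := arith m
  omega

theorem two_split (m : ℕ) : 3 ^ (2 * m + 1) - 1 = 2 * nSplit m := by
  obtain ⟨j, hj, e1, -, -⟩ := arith m
  omega

include h in
theorem orders_bound (hm : 1 ≤ m) (g : ↥G₁) :
    orderOf g ∣ 6 ∨ orderOf g ∣ 9 ∨ orderOf g ∣ 3 ^ (2 * m + 1) - 1 ∨ orderOf g ∣ (3 ^ (2 * m + 1) + 1) / 2 ∨
      orderOf g ∣ 3 ^ (2 * m + 1) - 3 ^ (m + 1) + 1 ∨ orderOf g ∣ 3 ^ (2 * m + 1) + 3 ^ (m + 1) + 1 := by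
  have := h.finite
  rw [two_ell, two_split]
  rcases kinds h hm g with e | e | e | e | e
  · obtain ⟨r, hr, hor⟩ := order_parity h hm e
    have ht : orderOf (g ^ r) = 2 := by
      rw [orderOf_pow_of_dvd hr.pos.ne' (hor ▸ Dvd.intro_left _ rfl), hor, Nat.mul_div_cancel _ hr.pos]
    have hsq : (g ^ 2) ^ r = 1 := by rw [← pow_mul, ← hor, pow_orderOf_eq_one]
    have hodd : ¬ 2 ∣ orderOf (g ^ 2) :=
      Odd.not_two_dvd_nat (hr.of_dvd_nat (orderOf_dvd_of_pow_eq_one hsq))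
    have hc : g ^ r ∈ Subgroup.centralizer {g ^ 2} :=
      Subgroup.mem_centralizer_singleton_iff.2 ((Commute.refl g).pow_pow r 2).eq
    rcases kinds h hm (g ^ 2) with e' | e' | e' | e' | e'
    · exact absurd e' hodd
    · refine Or.inl ?_
      obtain ⟨ι, hinj, hι, -⟩ := card_centralizer_involution h hm ht
      obtain ⟨v, hv, hg⟩ := iota_odd h hinj hι (n := 9) (by decide) e'
        (Subgroup.mem_centralizer_singleton_iff.1 hc).symm
      have := h.char
      let := Fintype.ofFinite K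
      have hv3 : v ^ 3 = 1 := by
        obtain ⟨w, rfl, hw⟩ := PSLTorus.exists_lift (n := 9) (by decide) hv
        rw [← map_pow, PSLTorus.cube_of_trace_two (PSLTorus.trace_two_of_pow (k := 2) (by norm_num; exact hw)), map_one]
      refine orderOf_dvd_of_pow_eq_one ?_
      rw [show 6 = 2 * 3 from rfl, pow_mul, hg, ← map_pow, Prod.pow_mk, one_pow, hv3]
      exact map_one ι
    · refine Or.inr (Or.inr (Or.inl (orderOf_dvd_of_pow_eq_one ?_)))
      rw [pow_mul]; exact e'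
    · refine Or.inr (Or.inr (Or.inr (Or.inl (orderOf_dvd_of_pow_eq_one ?_))))
      rw [pow_mul]; exact e'
    · by_cases h1 : g ^ 2 = 1
      · exact Or.inl (orderOf_dvd_of_pow_eq_one (by rw [show 6 = 2 * 3 from rfl, pow_mul, h1, one_pow]))
      exfalso
      have h2 := (Subgroup.orderOf_dvd_natCard _ hc).trans (cox_centralizer h hm h1 e').2.2
      rw [ht] at h2
      exact Odd.not_two_dvd_nat (odd_three m).2.2 h2
  · exact Or.inr (Or.inl (orderOf_dvd_of_pow_eq_one e))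
  · exact Or.inr (Or.inr (Or.inl (dvd_mul_of_dvd_right (orderOf_dvd_of_pow_eq_one e) 2)))
  · exact Or.inr (Or.inr (Or.inr (Or.inl (dvd_mul_of_dvd_right (orderOf_dvd_of_pow_eq_one e) 2))))
  · by_cases h1 : g = 1
    · exact Or.inl (by rw [h1, orderOf_one]; exact one_dvd _)
    obtain ⟨x₁, x₂, -, -, -, -, e1, e2, -, -, hall⟩ := cox_tori h hm
    have hd := Subgroup.orderOf_dvd_natCard (Subgroup.centralizer {g})
      (Subgroup.mem_centralizer_singleton_iff.2 (rfl : g * g = g * g))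
    rcases hall g h1 e with e3 | e3
    · exact Or.inr (Or.inr (Or.inr (Or.inr (Or.inl (e1 ▸ e3 ▸ hd)))))
    · exact Or.inr (Or.inr (Or.inr (Or.inr (Or.inr (e2 ▸ e3 ▸ hd)))))

theorem exists_of_cyclic {G : Type*} [Group G] [Finite G] (A : Subgroup G) (hA : IsCyclic ↥A) :
    ∃ g : G, orderOf g = Nat.card ↥A := by
  obtain ⟨c, hc⟩ := hA.exists_generator
  exact ⟨c.1, by rw [Subgroup.orderOf_coe, orderOf_eq_card_of_forall_mem_zpowers hc]⟩

include h in
theorem orders_exist (hm : 1 ≤ m) :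
    ∀ n ∈ [6, 9, 3 ^ (2 * m + 1) - 1, (3 ^ (2 * m + 1) + 1) / 2, 3 ^ (2 * m + 1) - 3 ^ (m + 1) + 1,
      3 ^ (2 * m + 1) + 3 ^ (m + 1) + 1], ∃ g : ↥G₁, orderOf g = n := by
  have := h.finite
  have := h.char
  intro n hn
  simp only [List.mem_cons, List.not_mem_nil, or_false] at hn
  rcases hn with rfl | rfl | rfl | rfl | rfl | rfl
  · obtain ⟨b, hb, hb1, hb2⟩ := exists_involution h
    have hk := kap_of_involution h b hb hb1 hb2
    have hbo : orderOf b = 2 := orderOf_eq_prime (by rw [pow_two, hb2]) hb1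
    let u : ↥G₁ := ⟨reeU m 0 1 0, reeU_mem _ _ _⟩
    have huo : orderOf u = 3 := by
      refine orderOf_eq_prime (p := 3) (Subtype.ext ((cube_eq_one_iff h _ _ _).2 rfl)) fun e => ?_
      obtain ⟨-, e1, -⟩ := reeU_inj h ((congrArg Subtype.val e).trans (reeU_zero h).symm)
      exact one_ne_zero e1
    have hc : Commute b u := by
      apply Subtype.ext
      show b.1 * reeU m 0 1 0 = reeU m 0 1 0 * b.1
      have := inv_conj_reeU h ⟨hb, b.2⟩ hk 0 1 0
      rwa [neg_zero, mul_inv_eq_iff_eq_mul] at this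
    exact ⟨b * u, by rw [hc.orderOf_mul_eq_mul_orderOf_of_coprime (by rw [hbo, huo]; norm_num), hbo, huo]⟩
  · have : Fact (Nat.Prime 3) := ⟨Nat.prime_three⟩
    let u : ↥G₁ := ⟨reeU m 1 0 0, reeU_mem _ _ _⟩
    have h3 : ¬ u ^ 3 ^ 1 = 1 := fun e => by
      rw [pow_one] at e
      exact one_ne_zero ((cube_eq_one_iff h _ _ _).1 (congrArg Subtype.val e))
    refine ⟨u, (orderOf_eq_prime_pow h3 ?_).trans (by norm_num)⟩
    have hU : Nat.card ↥(chevG2.posUnipotent K ⊓ G₁) = 3 ^ ((2 * m + 1) * 3) := by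
      rw [card_unipotent h, ← pow_mul]
    obtain ⟨k, hk⟩ := IsPGroup.of_card hU ⟨u.1, (mem_unipotent_twisted h _).2 ⟨_, _, _, rfl⟩⟩
    exact (three_element h (k := k) (Subtype.ext (congrArg Subtype.val hk :))).1
  · obtain ⟨y, hy1, hy⟩ := exists_of_prime h (n := nSplit m) (by have := (nSplit_ge hm).1; omega)
      (dvd_card h _ (Or.inl rfl))
    obtain ⟨-, hcyc, hcard, -⟩ := split_centralizer h hy1 hy
    exact hcard ▸ exists_of_cyclic _ hcyc
  · obtain ⟨y, hy1, hy⟩ := exists_of_prime h (n := nEll m) (by have := (nSplit_ge hm).2.1; omega)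
      (dvd_card h _ (Or.inr (Or.inl rfl)))
    obtain ⟨A, hA⟩ := exists_torusOf (fun y h1 h2 => (ell_centralizer h hm h1 h2).1) hy1 hy
    obtain ⟨hcyc, hcard⟩ := ell_data h hm hy1 hy hA
    obtain ⟨c, hc⟩ := exists_of_cyclic _ hcyc
    rw [hcard] at hc
    have hc1 : c ≠ 1 := fun e => by
      have := (nSplit_ge hm).2.1
      rw [e, orderOf_one] at hc; omega
    have hcn : c ^ nEll m = 1 := hc ▸ pow_orderOf_eq_one c
    have hne : Nonempty {t : ↥G₁ // orderOf t = 2 ∧ c * t = t * c} :=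
      (Nat.card_pos_iff.1 (by rw [card_ell_commuting h hm hc1 hcn]; norm_num)).1
    obtain ⟨t, ht, hct⟩ := hne
    refine ⟨t * c, ?_⟩
    rw [(show Commute t c from hct.symm).orderOf_mul_eq_mul_orderOf_of_coprime
      (by rw [ht, hc]; exact (Nat.coprime_two_left).2 (odd_three m).2.1), ht, hc, two_ell]
  · obtain ⟨x₁, x₂, a1, a2, -, -, e1, -⟩ := cox_tori h hm
    exact e1 ▸ exists_of_cyclic _ (cox_centralizer h hm a1 a2).2.1
  · obtain ⟨x₁, x₂, -, -, a1, a2, -, e2, -⟩ := cox_tori h hm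
    exact e2 ▸ exists_of_cyclic _ (cox_centralizer h hm a1 a2).2.1

end Cfsg.Agent.Suzuki.Ree
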