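import Cfsg.Agent.Chev.TwistD4
import Cfsg.Agent.Chev.TwistOrdersByType
import Cfsg.Agent.Chev.CharTwoWords

/-! # The maximal unipotent subgroup of ³D₄ in characteristic two: coordinates and multiplication -/

set_option autoImplicit false
set_option maxHeartbeats 1000000
set_option linter.unusedSectionVars false

universe u

namespace Cfsg.Agent.Suzuki.D4Two

open Cfsg.Lie Cfsg.Agent.Chev
open scoped Matrix MatrixGroups

variable {K : Type u} [Field K]

/-- The certificate of type D₄. -/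
noncomputable abbrev cD : Cert.{u} chevD4 := AllOK.cert.{u} allOKD4

/-- The ambient group. -/
abbrev G (K : Type u) [Field K] := GL chevD4.Idx K

local notation "X" => Cert.xu cD

variable [CharP K 2]

theorem sw0 {r s : ℕ} (h : r < 24 ∧ s < 24 ∧ s ≠ r ∧ s ≠ chevD4.neg r ∧ chevD4.commTerms r s = []) (v t : K) (z : G K) :
    X s v * (X r t * z) = X r t * (X s v * z) := by
  have e := cD.xu_comm (show r < chevD4.nroots from h.1) (show s < chevD4.nroots from h.2.1) h.2.2.1 h.2.2.2.1 t v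
  simp only [ChevalleyDatum.commWord, h.2.2.2.2, List.map_nil, Cert.wu, List.prod_nil, mul_one] at e
  rw [← mul_assoc, e, mul_assoc]

theorem sw1 {r s c : ℕ} (h : r < 24 ∧ s < 24 ∧ s ≠ r ∧ s ≠ chevD4.neg r ∧
    (chevD4.commTerms r s = [(c, 1, 1, 1)] ∨ chevD4.commTerms r s = [(c, -1, 1, 1)])) (v t : K) (z : G K) :
    X s v * (X r t * z) = X r t * (X s v * (X c (t * v) * z)) := by
  have e := cD.xu_comm (show r < chevD4.nroots from h.1) (show s < chevD4.nroots from h.2.1) h.2.2.1 h.2.2.2.1 t v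
  rcases h.2.2.2.2 with h' | h' <;>
  · simp only [ChevalleyDatum.commWord, h', List.map_cons, List.map_nil, Cert.wu, List.prod_cons, List.prod_nil,
      mul_one, pow_one, Int.cast_neg, Int.cast_one, CharTwo.neg_eq, one_mul] at e
    rw [← mul_assoc, e, mul_assoc, mul_assoc]

theorem facts_swap :
    (∀ p ∈ ([(18, 13), (18, 12), (18, 19), (18, 20), (18, 21), (18, 22), (18, 23), (13, 12), (13, 16), (13, 17), (13, 21), (13, 22), (13, 23), (12, 15), (12, 17), (12, 20), (12, 22), (12, 23), (14, 19), (14, 16), (14, 15), (14, 17), (14, 20), (14, 21), (14, 23), (19, 16), (19, 15), (19, 20), (19, 21), (19, 22), (19, 23), (16, 15), (16, 17), (16, 21), (16, 22), (16, 23), (15, 17), (15, 20), (15, 22), (15, 23), (17, 20), (17, 21), (17, 22), (17, 23), (20, 21), (20, 22), (20, 23), (21, 22), (21, 23), (22, 23)] : List (ℕ × ℕ)), p.1 < 24 ∧ p.2 < 24 ∧ p.2 ≠ p.1 ∧ p.2 ≠ chevD4.neg p.1 ∧ chevD4.commTerms p.1 p.2 = []) ∧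
    ∀ p ∈ ([(18, 14, 19), (18, 16, 21), (18, 15, 20), (18, 17, 22), (13, 14, 16), (13, 19, 21), (13, 15, 17), (13, 20, 22), (12, 14, 15), (12, 19, 20), (12, 16, 17), (12, 21, 22), (14, 22, 23), (19, 17, 23), (16, 20, 23), (15, 21, 23)] : List (ℕ × ℕ × ℕ)), p.1 < 24 ∧ p.2.1 < 24 ∧ p.2.1 ≠ p.1 ∧ p.2.1 ≠ chevD4.neg p.1 ∧
      (chevD4.commTerms p.1 p.2.1 = [(p.2.2, 1, 1, 1)] ∨ chevD4.commTerms p.1 p.2.1 = [(p.2.2, -1, 1, 1)]) := by
  decide +kernel

theorem w13_18 (v t : K) (z : G K) : X 13 v * (X 18 t * z) = X 18 t * (X 13 v * z) := sw0 (facts_swap.1 (18, 13) (by simp)) v t z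
theorem w12_18 (v t : K) (z : G K) : X 12 v * (X 18 t * z) = X 18 t * (X 12 v * z) := sw0 (facts_swap.1 (18, 12) (by simp)) v t z
theorem w19_18 (v t : K) (z : G K) : X 19 v * (X 18 t * z) = X 18 t * (X 19 v * z) := sw0 (facts_swap.1 (18, 19) (by simp)) v t z
theorem w20_18 (v t : K) (z : G K) : X 20 v * (X 18 t * z) = X 18 t * (X 20 v * z) := sw0 (facts_swap.1 (18, 20) (by simp)) v t z
theorem w21_18 (v t : K) (z : G K) : X 21 v * (X 18 t * z) = X 18 t * (X 21 v * z) := sw0 (facts_swap.1 (18, 21) (by simp)) v t z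
theorem w22_18 (v t : K) (z : G K) : X 22 v * (X 18 t * z) = X 18 t * (X 22 v * z) := sw0 (facts_swap.1 (18, 22) (by simp)) v t z
theorem w23_18 (v t : K) (z : G K) : X 23 v * (X 18 t * z) = X 18 t * (X 23 v * z) := sw0 (facts_swap.1 (18, 23) (by simp)) v t z
theorem w12_13 (v t : K) (z : G K) : X 12 v * (X 13 t * z) = X 13 t * (X 12 v * z) := sw0 (facts_swap.1 (13, 12) (by simp)) v t z
theorem w16_13 (v t : K) (z : G K) : X 16 v * (X 13 t * z) = X 13 t * (X 16 v * z) := sw0 (facts_swap.1 (13, 16) (by simp)) v t z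
theorem w17_13 (v t : K) (z : G K) : X 17 v * (X 13 t * z) = X 13 t * (X 17 v * z) := sw0 (facts_swap.1 (13, 17) (by simp)) v t z
theorem w21_13 (v t : K) (z : G K) : X 21 v * (X 13 t * z) = X 13 t * (X 21 v * z) := sw0 (facts_swap.1 (13, 21) (by simp)) v t z
theorem w22_13 (v t : K) (z : G K) : X 22 v * (X 13 t * z) = X 13 t * (X 22 v * z) := sw0 (facts_swap.1 (13, 22) (by simp)) v t z
theorem w23_13 (v t : K) (z : G K) : X 23 v * (X 13 t * z) = X 13 t * (X 23 v * z) := sw0 (facts_swap.1 (13, 23) (by simp)) v t z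
theorem w15_12 (v t : K) (z : G K) : X 15 v * (X 12 t * z) = X 12 t * (X 15 v * z) := sw0 (facts_swap.1 (12, 15) (by simp)) v t z
theorem w17_12 (v t : K) (z : G K) : X 17 v * (X 12 t * z) = X 12 t * (X 17 v * z) := sw0 (facts_swap.1 (12, 17) (by simp)) v t z
theorem w20_12 (v t : K) (z : G K) : X 20 v * (X 12 t * z) = X 12 t * (X 20 v * z) := sw0 (facts_swap.1 (12, 20) (by simp)) v t z
theorem w22_12 (v t : K) (z : G K) : X 22 v * (X 12 t * z) = X 12 t * (X 22 v * z) := sw0 (facts_swap.1 (12, 22) (by simp)) v t z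
theorem w23_12 (v t : K) (z : G K) : X 23 v * (X 12 t * z) = X 12 t * (X 23 v * z) := sw0 (facts_swap.1 (12, 23) (by simp)) v t z
theorem w19_14 (v t : K) (z : G K) : X 19 v * (X 14 t * z) = X 14 t * (X 19 v * z) := sw0 (facts_swap.1 (14, 19) (by simp)) v t z
theorem w16_14 (v t : K) (z : G K) : X 16 v * (X 14 t * z) = X 14 t * (X 16 v * z) := sw0 (facts_swap.1 (14, 16) (by simp)) v t z
theorem w15_14 (v t : K) (z : G K) : X 15 v * (X 14 t * z) = X 14 t * (X 15 v * z) := sw0 (facts_swap.1 (14, 15) (by simp)) v t z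
theorem w17_14 (v t : K) (z : G K) : X 17 v * (X 14 t * z) = X 14 t * (X 17 v * z) := sw0 (facts_swap.1 (14, 17) (by simp)) v t z
theorem w20_14 (v t : K) (z : G K) : X 20 v * (X 14 t * z) = X 14 t * (X 20 v * z) := sw0 (facts_swap.1 (14, 20) (by simp)) v t z
theorem w21_14 (v t : K) (z : G K) : X 21 v * (X 14 t * z) = X 14 t * (X 21 v * z) := sw0 (facts_swap.1 (14, 21) (by simp)) v t z
theorem w23_14 (v t : K) (z : G K) : X 23 v * (X 14 t * z) = X 14 t * (X 23 v * z) := sw0 (facts_swap.1 (14, 23) (by simp)) v t z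
theorem w16_19 (v t : K) (z : G K) : X 16 v * (X 19 t * z) = X 19 t * (X 16 v * z) := sw0 (facts_swap.1 (19, 16) (by simp)) v t z
theorem w15_19 (v t : K) (z : G K) : X 15 v * (X 19 t * z) = X 19 t * (X 15 v * z) := sw0 (facts_swap.1 (19, 15) (by simp)) v t z
theorem w20_19 (v t : K) (z : G K) : X 20 v * (X 19 t * z) = X 19 t * (X 20 v * z) := sw0 (facts_swap.1 (19, 20) (by simp)) v t z
theorem w21_19 (v t : K) (z : G K) : X 21 v * (X 19 t * z) = X 19 t * (X 21 v * z) := sw0 (facts_swap.1 (19, 21) (by simp)) v t z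
theorem w22_19 (v t : K) (z : G K) : X 22 v * (X 19 t * z) = X 19 t * (X 22 v * z) := sw0 (facts_swap.1 (19, 22) (by simp)) v t z
theorem w23_19 (v t : K) (z : G K) : X 23 v * (X 19 t * z) = X 19 t * (X 23 v * z) := sw0 (facts_swap.1 (19, 23) (by simp)) v t z
theorem w15_16 (v t : K) (z : G K) : X 15 v * (X 16 t * z) = X 16 t * (X 15 v * z) := sw0 (facts_swap.1 (16, 15) (by simp)) v t z
theorem w17_16 (v t : K) (z : G K) : X 17 v * (X 16 t * z) = X 16 t * (X 17 v * z) := sw0 (facts_swap.1 (16, 17) (by simp)) v t z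
theorem w21_16 (v t : K) (z : G K) : X 21 v * (X 16 t * z) = X 16 t * (X 21 v * z) := sw0 (facts_swap.1 (16, 21) (by simp)) v t z
theorem w22_16 (v t : K) (z : G K) : X 22 v * (X 16 t * z) = X 16 t * (X 22 v * z) := sw0 (facts_swap.1 (16, 22) (by simp)) v t z
theorem w23_16 (v t : K) (z : G K) : X 23 v * (X 16 t * z) = X 16 t * (X 23 v * z) := sw0 (facts_swap.1 (16, 23) (by simp)) v t z
theorem w17_15 (v t : K) (z : G K) : X 17 v * (X 15 t * z) = X 15 t * (X 17 v * z) := sw0 (facts_swap.1 (15, 17) (by simp)) v t z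
theorem w20_15 (v t : K) (z : G K) : X 20 v * (X 15 t * z) = X 15 t * (X 20 v * z) := sw0 (facts_swap.1 (15, 20) (by simp)) v t z
theorem w22_15 (v t : K) (z : G K) : X 22 v * (X 15 t * z) = X 15 t * (X 22 v * z) := sw0 (facts_swap.1 (15, 22) (by simp)) v t z
theorem w23_15 (v t : K) (z : G K) : X 23 v * (X 15 t * z) = X 15 t * (X 23 v * z) := sw0 (facts_swap.1 (15, 23) (by simp)) v t z
theorem w20_17 (v t : K) (z : G K) : X 20 v * (X 17 t * z) = X 17 t * (X 20 v * z) := sw0 (facts_swap.1 (17, 20) (by simp)) v t z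
theorem w21_17 (v t : K) (z : G K) : X 21 v * (X 17 t * z) = X 17 t * (X 21 v * z) := sw0 (facts_swap.1 (17, 21) (by simp)) v t z
theorem w22_17 (v t : K) (z : G K) : X 22 v * (X 17 t * z) = X 17 t * (X 22 v * z) := sw0 (facts_swap.1 (17, 22) (by simp)) v t z
theorem w23_17 (v t : K) (z : G K) : X 23 v * (X 17 t * z) = X 17 t * (X 23 v * z) := sw0 (facts_swap.1 (17, 23) (by simp)) v t z
theorem w21_20 (v t : K) (z : G K) : X 21 v * (X 20 t * z) = X 20 t * (X 21 v * z) := sw0 (facts_swap.1 (20, 21) (by simp)) v t z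
theorem w22_20 (v t : K) (z : G K) : X 22 v * (X 20 t * z) = X 20 t * (X 22 v * z) := sw0 (facts_swap.1 (20, 22) (by simp)) v t z
theorem w23_20 (v t : K) (z : G K) : X 23 v * (X 20 t * z) = X 20 t * (X 23 v * z) := sw0 (facts_swap.1 (20, 23) (by simp)) v t z
theorem w22_21 (v t : K) (z : G K) : X 22 v * (X 21 t * z) = X 21 t * (X 22 v * z) := sw0 (facts_swap.1 (21, 22) (by simp)) v t z
theorem w23_21 (v t : K) (z : G K) : X 23 v * (X 21 t * z) = X 21 t * (X 23 v * z) := sw0 (facts_swap.1 (21, 23) (by simp)) v t z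
theorem w23_22 (v t : K) (z : G K) : X 23 v * (X 22 t * z) = X 22 t * (X 23 v * z) := sw0 (facts_swap.1 (22, 23) (by simp)) v t z
theorem w14_18 (v t : K) (z : G K) : X 14 v * (X 18 t * z) = X 18 t * (X 14 v * (X 19 (t * v) * z)) := sw1 (facts_swap.2 (18, 14, 19) (by simp)) v t z
theorem w16_18 (v t : K) (z : G K) : X 16 v * (X 18 t * z) = X 18 t * (X 16 v * (X 21 (t * v) * z)) := sw1 (facts_swap.2 (18, 16, 21) (by simp)) v t z
theorem w15_18 (v t : K) (z : G K) : X 15 v * (X 18 t * z) = X 18 t * (X 15 v * (X 20 (t * v) * z)) := sw1 (facts_swap.2 (18, 15, 20) (by simp)) v t z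
theorem w17_18 (v t : K) (z : G K) : X 17 v * (X 18 t * z) = X 18 t * (X 17 v * (X 22 (t * v) * z)) := sw1 (facts_swap.2 (18, 17, 22) (by simp)) v t z
theorem w14_13 (v t : K) (z : G K) : X 14 v * (X 13 t * z) = X 13 t * (X 14 v * (X 16 (t * v) * z)) := sw1 (facts_swap.2 (13, 14, 16) (by simp)) v t z
theorem w19_13 (v t : K) (z : G K) : X 19 v * (X 13 t * z) = X 13 t * (X 19 v * (X 21 (t * v) * z)) := sw1 (facts_swap.2 (13, 19, 21) (by simp)) v t z
theorem w15_13 (v t : K) (z : G K) : X 15 v * (X 13 t * z) = X 13 t * (X 15 v * (X 17 (t * v) * z)) := sw1 (facts_swap.2 (13, 15, 17) (by simp)) v t z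
theorem w20_13 (v t : K) (z : G K) : X 20 v * (X 13 t * z) = X 13 t * (X 20 v * (X 22 (t * v) * z)) := sw1 (facts_swap.2 (13, 20, 22) (by simp)) v t z
theorem w14_12 (v t : K) (z : G K) : X 14 v * (X 12 t * z) = X 12 t * (X 14 v * (X 15 (t * v) * z)) := sw1 (facts_swap.2 (12, 14, 15) (by simp)) v t z
theorem w19_12 (v t : K) (z : G K) : X 19 v * (X 12 t * z) = X 12 t * (X 19 v * (X 20 (t * v) * z)) := sw1 (facts_swap.2 (12, 19, 20) (by simp)) v t z
theorem w16_12 (v t : K) (z : G K) : X 16 v * (X 12 t * z) = X 12 t * (X 16 v * (X 17 (t * v) * z)) := sw1 (facts_swap.2 (12, 16, 17) (by simp)) v t z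
theorem w21_12 (v t : K) (z : G K) : X 21 v * (X 12 t * z) = X 12 t * (X 21 v * (X 22 (t * v) * z)) := sw1 (facts_swap.2 (12, 21, 22) (by simp)) v t z
theorem w22_14 (v t : K) (z : G K) : X 22 v * (X 14 t * z) = X 14 t * (X 22 v * (X 23 (t * v) * z)) := sw1 (facts_swap.2 (14, 22, 23) (by simp)) v t z
theorem w17_19 (v t : K) (z : G K) : X 17 v * (X 19 t * z) = X 19 t * (X 17 v * (X 23 (t * v) * z)) := sw1 (facts_swap.2 (19, 17, 23) (by simp)) v t z
theorem w20_16 (v t : K) (z : G K) : X 20 v * (X 16 t * z) = X 16 t * (X 20 v * (X 23 (t * v) * z)) := sw1 (facts_swap.2 (16, 20, 23) (by simp)) v t z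
theorem w21_15 (v t : K) (z : G K) : X 21 v * (X 15 t * z) = X 15 t * (X 21 v * (X 23 (t * v) * z)) := sw1 (facts_swap.2 (15, 21, 23) (by simp)) v t z

theorem ladd (r : ℕ) (a b : K) (z : G K) : X r a * (X r b * z) = X r (a + b) * z := by
  rw [← mul_assoc, cD.xu_add]

/-- The element with given coordinates. -/
noncomputable def P12 (u a b r v c e w f g d z : K) : G K :=
  X 18 u * (X 13 a * (X 12 b * (X 14 r * (X 19 v * (X 16 c * (X 15 e * (X 17 w * (X 20 f * (X 21 g *
    (X 22 d * (X 23 z * 1)))))))))))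

theorem P12_congr {u a b r v c e w f g d z u' a' b' r' v' c' e' w' f' g' d' z' : K} (hu : u = u') (ha : a = a')
    (hb : b = b') (hr : r = r') (hv : v = v') (hc : c = c') (he : e = e') (hw : w = w') (hf : f = f') (hg : g = g')
    (hd : d = d') (hz : z = z') : P12 u a b r v c e w f g d z = P12 u' a' b' r' v' c' e' w' f' g' d' z' := by
  subst_vars; rfl

theorem P12_mul (u a b r v c e w f g d z u' a' b' r' v' c' e' w' f' g' d' z' : K) :
    P12 u a b r v c e w f g d z * P12 u' a' b' r' v' c' e' w' f' g' d' z' =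
      P12 (u + u') (a + a') (b + b') (r + r') (v + v' + r * u') (c + c' + a' * r) (e + e' + b' * r)
        (w + w' + a' * e + b' * c + a' * b' * r) (f + f' + b' * v + e * u' + b' * r * u')
        (g + g' + a' * v + c * u' + a' * r * u')
        (d + d' + a' * f + b' * g + u' * w + a' * b' * v + a' * e * u' + b' * c * u' + a' * b' * r * u')
        (z + z' + c' * f + d * r' + e' * g + v' * w + a' * e * v + a' * e * v' + a' * e' * v + a' * f * r'
          + b' * c * v + b' * c * v' + b' * c' * v + b' * g * r' + c * e * u' + c * e' * u' + c' * e * u'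
          + r' * u' * w + a' * b' * r * v + a' * b' * r * v' + a' * b' * r' * v + a' * e * r * u'
          + a' * e * r' * u' + a' * e' * r * u' + b' * c * r * u' + b' * c * r' * u' + b' * c' * r * u'
          + a' * b' * r * r * u' + a' * b' * r * r' * u') := by
  simp only [P12, mul_assoc, one_mul, ladd, w13_18, w12_18, w19_18, w20_18, w21_18, w22_18, w23_18, w12_13, w16_13, w17_13, w21_13, w22_13, w23_13, w15_12, w17_12, w20_12, w22_12, w23_12, w19_14, w16_14, w15_14, w17_14, w20_14, w21_14, w23_14, w16_19, w15_19, w20_19, w21_19, w22_19, w23_19, w15_16, w17_16, w21_16, w22_16, w23_16, w17_15, w20_15, w22_15, w23_15, w20_17, w21_17, w22_17, w23_17, w21_20, w22_20, w23_20, w22_21, w23_21, w23_22, w14_18, w16_18, w15_18, w17_18, w14_13, w19_13, w15_13, w20_13, w14_12, w19_12, w16_12, w21_12, w22_14, w17_19, w20_16, w21_15]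
  refine P12_congr ?_ ?_ ?_ ?_ ?_ ?_ ?_ ?_ ?_ ?_ ?_ ?_ <;> (first | rfl | ring)

end Cfsg.Agent.Suzuki.D4Two
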