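import Cfsg.Agent.Chev.ReeF4Order

/-! # The maximal unipotent subgroup of ²F₄: coordinates and multiplication -/

set_option autoImplicit false
set_option maxHeartbeats 4000000
set_option linter.unusedSectionVars false

universe u

namespace Cfsg.Agent.Suzuki.F4Two

open Cfsg.Lie Cfsg.Agent.Chev Cfsg.Agent.Chev.Ree4
open scoped Matrix MatrixGroups

variable {K : Type u} [Field K]

/-- The ambient group. -/
abbrev GG (K : Type u) [Field K] := GL chevF4.Idx K

local notation "X" => Cert.xu cF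

/-- Twelve coordinates. -/
@[ext]
structure Co (K : Type u) where
  u1 : K
  a2 : K
  b2 : K
  u3 : K
  a4 : K
  b4 : K
  u5 : K
  a6 : K
  b6 : K
  u7 : K
  a8 : K
  b8 : K

/-- The trivial coordinates. -/
@[simps]
def Co.zero : Co K := ⟨0, 0, 0, 0, 0, 0, 0, 0, 0, 0, 0, 0⟩

variable (e : K →+* K)

/-- The element with given coordinates. -/
noncomputable def El (p : Co K) : GG K :=
  X 33 p.u1 * (X 24 (e p.u1) * (X 34 p.a2 * (X 26 (e p.a2) * (X 36 (p.a2 * e p.a2 + p.b2) * (X 42 (e p.b2) * (X 38 p.u3 * (X 43 (e p.u3) * (X 29 p.a4 * (X 41 (e p.a4) * (X 44 (p.a4 * e p.a4 + p.b4) * (X 47 (e p.b4) * (X 39 p.u5 * (X 45 (e p.u5) * (X 35 p.a6 * (X 31 (e p.a6) * (X 40 (p.a6 * e p.a6 + p.b6) * (X 46 (e p.b6) * (X 37 p.u7 * (X 32 (e p.u7) * (X 27 p.a8 * (X 25 (e p.a8) * (X 28 (p.a8 * e p.a8 + p.b8) * (X 30 (e p.b8) * (1))))))))))))))))))))))))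

/-- The multiplication law. -/
@[simps]
def mulC (p q : Co K) : Co K where
  u1 := p.u1 + q.u1
  a2 := p.a2 + q.a2 + p.a8 * q.u1
  b2 := p.b2 + q.b2 + p.a4 * q.u1 + p.a2 * e q.a2 + p.a6 * e q.u1 + e q.a2 * p.a8 * q.u1 + p.b8 * q.u1 * e q.u1 + p.a2 * e p.a8 * e q.u1
  u3 := p.u3 + q.u3 + p.a8 * q.b2 + q.a2 * p.a4 + e p.a6 * q.u1 + e q.u1 * p.u7 + p.a4 * p.a8 * q.u1 + q.a2 * e q.a2 * p.a8 + q.a2 * p.b8 * e q.u1 + e p.b8 * q.u1 * e q.u1 + p.a8 * p.b8 * q.u1 * e q.u1 + p.a8 ^ 2 * e p.a8 * q.u1 * e q.u1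
  a4 := p.a4 + q.a4 + e q.a2 * p.a8 + p.b8 * e q.u1
  b4 := p.b4 + q.b4 + p.a6 * q.u3 + p.b6 * q.u1 + q.a2 * p.u5 + q.b2 * p.u7 + e q.b2 * p.b8 + p.a4 * e q.a4 + p.a8 * e q.u3 + p.a6 * p.a8 * q.b2 + p.a8 * q.u1 * p.u5 + p.b8 * q.u1 * q.u3 + q.a2 * q.b2 * p.b8 + p.a6 * e q.u1 * p.u7 + q.a2 * e p.a8 * q.u3 + q.a2 * e q.a2 * p.u7 + q.a2 * q.u1 * e p.u7 + q.b2 * e p.b8 * q.u1 + e q.a2 * e q.a4 * p.a8 + e q.a4 * p.b8 * e q.u1 + p.a4 * e p.b8 * q.u1 ^ 2 + p.a8 * q.u1 ^ 2 * e p.u7 + q.a2 ^ 2 * e q.a2 * p.b8 + q.a2 ^ 2 * p.a4 * e p.a8 + p.a8 * e p.a8 * q.u1 * q.u3 + p.b8 * q.u1 * e q.u1 * p.u7 + q.a2 * e q.a2 * p.a6 * p.a8 + q.a2 * p.a6 * p.b8 * e q.u1 + q.a2 * p.a8 * e p.a8 * q.b2 + p.a6 * e p.b8 * q.u1 * e q.u1 + q.a2 * e p.a8 * e q.u1 * p.u7 + q.a2 * e q.a2 * e p.b8 * q.u1 + q.a2 * p.b8 ^ 2 * q.u1 * e q.u1 + p.b8 * e p.b8 * q.u1 ^ 2 * e q.u1 + q.a2 ^ 2 * e p.a8 * p.b8 * e q.u1 + q.a2 ^ 2 * e q.a2 * p.a8 * e p.a8 + p.a6 * p.a8 * p.b8 * q.u1 * e q.u1 + p.a8 * p.b8 ^ 2 * q.u1 ^ 2 * e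 q.u1 + p.a8 * e p.a8 * q.u1 * e q.u1 * p.u7 + q.a2 * e p.a8 * e p.b8 * q.u1 * e q.u1 + p.a6 * p.a8 ^ 2 * e p.a8 * q.u1 * e q.u1 + p.a8 * e p.a8 * e p.b8 * q.u1 ^ 2 * e q.u1 + p.a8 ^ 3 * (e p.a8) ^ 2 * q.u1 ^ 2 * e q.u1 + q.a2 * p.a8 ^ 2 * (e p.a8) ^ 2 * q.u1 * e q.u1
  u5 := p.u5 + q.u5 + q.a4 * p.a6 + q.b2 * p.b8 + e p.a8 * q.u3 + e q.a2 * p.u7 + q.u1 * e p.u7 + q.a4 * p.b8 * q.u1 + e q.a2 * p.a6 * p.a8 + p.a6 * p.b8 * e q.u1 + p.a8 * e p.a8 * q.b2 + q.a2 * q.a4 * e p.a8 + e p.a8 * e q.u1 * p.u7 + e q.a2 * e p.b8 * q.u1 + p.b8 ^ 2 * q.u1 * e q.u1 + q.a4 * p.a8 * e p.a8 * q.u1 + e p.a8 * e p.b8 * q.u1 * e q.u1 + p.a8 ^ 2 * (e p.a8) ^ 2 * q.u1 * e q.u1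
  a6 := p.a6 + q.a6 + p.b8 * q.u1 + q.a2 * e p.a8 + p.a8 * e p.a8 * q.u1
  b6 := p.b6 + q.b6 + p.a8 * q.u5 + p.b8 * q.u3 + q.a4 * p.u7 + p.a6 * e q.a6 + q.a2 * e p.u7 + q.b2 * e p.b8 + p.a8 * q.b2 * p.b8 + q.a2 * q.a4 * p.b8 + e q.a2 * p.a8 * p.u7 + e q.a6 * p.b8 * q.u1 + p.a8 * q.u1 * e p.u7 + p.b8 * e q.u1 * p.u7 + q.a4 * e p.b8 * q.u1 + p.a6 * e p.b8 * e q.u1 + q.a2 * e q.a2 * e p.b8 + q.a2 * e q.a6 * e p.a8 + e q.a2 * p.a6 * p.a8 ^ 2 + p.a8 ^ 2 * e p.a8 * q.b2 + q.a2 * p.b8 ^ 2 * e q.u1 + q.a4 * p.a8 * p.b8 * q.u1 + e q.a2 * p.a8 * e p.b8 * q.u1 + e q.a6 * p.a8 * e p.a8 * q.u1 + p.a8 * p.b8 ^ 2 * q.u1 * e q.u1 + q.a2 * e p.a8 * e p.b8 * e q.u1 + q.a4 * p.a8 ^ 2 * e p.a8 * q.u1 + p.a6 * p.a8 ^ 2 * e p.a8 * e q.u1 + p.a8 * e p.a8 * e p.b8 * q.u1 * e q.u1 + p.a8 ^ 3 * (e p.a8) ^ 2 * q.u1 * e q.u1 + q.a2 * p.a8 ^ 2 * (e p.a8) ^ 2 * e q.u1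
  u7 := p.u7 + q.u7 + q.a2 * p.b8 + q.a6 * p.a8 + e p.b8 * q.u1 + p.a8 * p.b8 * q.u1 + p.a8 ^ 2 * e p.a8 * q.u1
  a8 := p.a8 + q.a8
  b8 := p.b8 + q.b8 + p.a8 * e q.a8

variable [CharP K 2]

/-- The rewriting data of a pair of positive roots. -/
def pairs : List (ℕ × ℕ × List (ℕ × ℕ × ℕ)) :=
  [(33, 24, []),
   (33, 34, []),
   (33, 26, []),
   (33, 36, []),
   (33, 42, []),
   (33, 38, []),
   (33, 43, []),
   (33, 29, [(36, 1, 1)]),
   (33, 41, []),
   (33, 44, []),
   (33, 47, []),
   (33, 39, []),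
   (33, 45, []),
   (33, 35, []),
   (33, 31, [(38, 1, 1), (42, 2, 1)]),
   (33, 40, [(44, 1, 1)]),
   (33, 46, []),
   (33, 37, []),
   (33, 32, [(39, 1, 1), (43, 2, 1)]),
   (33, 27, [(34, 1, 1)]),
   (33, 25, []),
   (33, 28, [(35, 1, 1)]),
   (33, 30, [(37, 1, 1), (41, 2, 1)]),
   (24, 34, []),
   (24, 26, []),
   (24, 36, []),
   (24, 42, []),
   (24, 38, []),
   (24, 43, []),
   (24, 29, []),
   (24, 41, [(42, 1, 1)]),
   (24, 44, []),
   (24, 47, []),
   (24, 39, []),
   (24, 45, []),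
   (24, 35, [(36, 1, 1), (43, 1, 2)]),
   (24, 31, []),
   (24, 40, []),
   (24, 46, [(47, 1, 1)]),
   (24, 37, [(38, 1, 1), (45, 1, 2)]),
   (24, 32, []),
   (24, 27, []),
   (24, 25, [(26, 1, 1)]),
   (24, 28, [(29, 1, 1), (32, 1, 2)]),
   (24, 30, [(31, 1, 1)]),
   (34, 26, [(36, 1, 1), (42, 2, 1)]),
   (34, 36, []),
   (34, 42, []),
   (34, 38, []),
   (34, 43, []),
   (34, 29, [(38, 1, 1)]),
   (34, 41, []),
   (34, 44, []),
   (34, 47, []),
   (34, 39, [(44, 1, 1)]),
   (34, 45, []),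
   (34, 35, []),
   (34, 31, []),
   (34, 40, []),
   (34, 46, []),
   (34, 37, []),
   (34, 32, [(40, 1, 1), (45, 2, 1)]),
   (34, 27, []),
   (34, 25, [(35, 1, 1), (41, 2, 1)]),
   (34, 28, [(37, 1, 1)]),
   (34, 30, []),
   (26, 36, []),
   (26, 42, []),
   (26, 38, []),
   (26, 43, []),
   (26, 29, []),
   (26, 41, [(43, 1, 1)]),
   (26, 44, []),
   (26, 47, []),
   (26, 39, []),
   (26, 45, [(47, 1, 1)]),
   (26, 35, []),
   (26, 31, []),
   (26, 40, []),
   (26, 46, []),
   (26, 37, [(39, 1, 1), (46, 1, 2)]),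
   (26, 32, []),
   (26, 27, [(29, 1, 1), (31, 1, 2)]),
   (26, 25, []),
   (26, 28, []),
   (26, 30, [(32, 1, 1)]),
   (36, 42, []),
   (36, 38, []),
   (36, 43, []),
   (36, 29, []),
   (36, 41, []),
   (36, 44, []),
   (36, 47, []),
   (36, 39, []),
   (36, 45, []),
   (36, 35, []),
   (36, 31, []),
   (36, 40, []),
   (36, 46, []),
   (36, 37, [(44, 1, 1)]),
   (36, 32, []),
   (36, 27, [(38, 1, 1)]),
   (36, 25, []),
   (36, 28, [(39, 1, 1)]),
   (36, 30, [(40, 1, 1), (47, 2, 1)]),
   (42, 38, []),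
   (42, 43, []),
   (42, 29, []),
   (42, 41, []),
   (42, 44, []),
   (42, 47, []),
   (42, 39, []),
   (42, 45, []),
   (42, 35, []),
   (42, 31, []),
   (42, 40, []),
   (42, 46, []),
   (42, 37, []),
   (42, 32, [(47, 1, 1)]),
   (42, 27, []),
   (42, 25, [(43, 1, 1)]),
   (42, 28, [(44, 1, 1), (46, 1, 2)]),
   (42, 30, [(45, 1, 1)]),
   (38, 43, []),
   (38, 29, []),
   (38, 41, []),
   (38, 44, []),
   (38, 47, []),
   (38, 39, []),
   (38, 45, []),
   (38, 35, [(44, 1, 1)]),
   (38, 31, []),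
   (38, 40, []),
   (38, 46, []),
   (38, 37, []),
   (38, 32, []),
   (38, 27, []),
   (38, 25, [(39, 1, 1), (47, 2, 1)]),
   (38, 28, [(40, 1, 1)]),
   (38, 30, []),
   (43, 29, []),
   (43, 41, []),
   (43, 44, []),
   (43, 47, []),
   (43, 39, []),
   (43, 45, []),
   (43, 35, []),
   (43, 31, [(47, 1, 1)]),
   (43, 40, []),
   (43, 46, []),
   (43, 37, []),
   (43, 32, []),
   (43, 27, [(44, 1, 1), (45, 1, 2)]),
   (43, 25, []),
   (43, 28, []),
   (43, 30, [(46, 1, 1)]),
   (29, 41, [(44, 1, 1), (47, 2, 1)]),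
   (29, 44, []),
   (29, 47, []),
   (29, 39, []),
   (29, 45, []),
   (29, 35, [(39, 1, 1)]),
   (29, 31, []),
   (29, 40, []),
   (29, 46, []),
   (29, 37, [(40, 1, 1)]),
   (29, 32, []),
   (29, 27, []),
   (29, 25, []),
   (29, 28, []),
   (29, 30, []),
   (41, 44, []),
   (41, 47, []),
   (41, 39, []),
   (41, 45, []),
   (41, 35, []),
   (41, 31, [(45, 1, 1)]),
   (41, 40, []),
   (41, 46, []),
   (41, 37, []),
   (41, 32, [(46, 1, 1)]),
   (41, 27, []),
   (41, 25, []),
   (41, 28, []),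
   (41, 30, []),
   (44, 47, []),
   (44, 39, []),
   (44, 45, []),
   (44, 35, []),
   (44, 31, []),
   (44, 40, []),
   (44, 46, []),
   (44, 37, []),
   (44, 32, []),
   (44, 27, []),
   (44, 25, []),
   (44, 28, []),
   (44, 30, []),
   (47, 39, []),
   (47, 45, []),
   (47, 35, []),
   (47, 31, []),
   (47, 40, []),
   (47, 46, []),
   (47, 37, []),
   (47, 32, []),
   (47, 27, []),
   (47, 25, []),
   (47, 28, []),
   (47, 30, []),
   (39, 45, []),
   (39, 35, []),
   (39, 31, []),
   (39, 40, []),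
   (39, 46, []),
   (39, 37, []),
   (39, 32, []),
   (39, 27, [(40, 1, 1)]),
   (39, 25, []),
   (39, 28, []),
   (39, 30, []),
   (45, 35, []),
   (45, 31, []),
   (45, 40, []),
   (45, 46, []),
   (45, 37, []),
   (45, 32, []),
   (45, 27, []),
   (45, 25, [(46, 1, 1)]),
   (45, 28, []),
   (45, 30, []),
   (35, 31, [(40, 1, 1), (46, 2, 1)]),
   (35, 40, []),
   (35, 46, []),
   (35, 37, []),
   (35, 32, []),
   (35, 27, [(37, 1, 1)]),
   (35, 25, []),
   (35, 28, []),
   (35, 30, []),
   (31, 40, []),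
   (31, 46, []),
   (31, 37, []),
   (31, 32, []),
   (31, 27, []),
   (31, 25, [(32, 1, 1)]),
   (31, 28, []),
   (31, 30, []),
   (40, 46, []),
   (40, 37, []),
   (40, 32, []),
   (40, 27, []),
   (40, 25, []),
   (40, 28, []),
   (40, 30, []),
   (46, 37, []),
   (46, 32, []),
   (46, 27, []),
   (46, 25, []),
   (46, 28, []),
   (46, 30, []),
   (37, 32, []),
   (37, 27, []),
   (37, 25, []),
   (37, 28, []),
   (37, 30, []),
   (32, 27, []),
   (32, 25, []),
   (32, 28, []),
   (32, 30, []),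
   (27, 25, [(28, 1, 1), (30, 2, 1)]),
   (27, 28, []),
   (27, 30, []),
   (25, 28, []),
   (25, 30, []),
   (28, 30, [])]

theorem pairs_ok : ∀ p ∈ pairs, p.1 < 48 ∧ p.2.1 < 48 ∧ p.2.1 ≠ p.1 ∧ p.2.1 ≠ chevF4.neg p.1 ∧
    ((chevF4.commTerms p.1 p.2.1).filter fun c => c.2.1 % 2 != 0).map (fun c => (c.1, c.2.2)) = p.2.2 := by
  decide +kernel

theorem wu_odd (l : List (ℕ × ℤ × ℕ × ℕ)) (t v : K) :
    cF.wu (l.map fun c => (c.1, (c.2.1 : K) * (-t) ^ c.2.2.1 * v ^ c.2.2.2)) =
      (((l.filter fun c => c.2.1 % 2 != 0).map fun c => (c.1, c.2.2)).map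
        fun c : ℕ × ℕ × ℕ => X c.1 (t ^ c.2.1 * v ^ c.2.2)).prod := by
  induction l with
  | nil => simp [Cert.wu]
  | cons a l ih =>
    rw [List.map_cons, cF.wu_cons, ih]
    rcases Int.emod_two_eq_zero_or_one a.2.1 with h | h
    · have h0 : (a.2.1 : K) = 0 := (CharP.intCast_eq_zero_iff K 2 _).2 (Int.dvd_of_emod_eq_zero h)
      simp [h, h0, cF.xu_zero]
    · have h1 : (a.2.1 : K) = 1 := by
        have h0 : ((a.2.1 - 1 : ℤ) : K) = 0 := (CharP.intCast_eq_zero_iff K 2 _).2 (by omega)
        simpa [sub_eq_zero] using h0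
      simp [h, h1, CharTwo.neg_eq]

theorem sw {r s : ℕ} {L : List (ℕ × ℕ × ℕ)} (h : (r, s, L) ∈ pairs) (v t : K) (z : GG K) :
    X s v * (X r t * z) = X r t * (X s v * ((L.map fun c => X c.1 (t ^ c.2.1 * v ^ c.2.2)).prod * z)) := by
  obtain ⟨h1, h2, h3, h4, h5⟩ := pairs_ok _ h
  have e := cF.xu_comm (show r < chevF4.nroots from h1) (show s < chevF4.nroots from h2) h3 h4 t v
  rw [ChevalleyDatum.commWord, wu_odd, h5] at e
  rw [← mul_assoc, e, mul_assoc, mul_assoc]

theorem w24_33 (v t : K) (z : GG K) : X 24 v * (X 33 t * z) = X 33 t * (X 24 v * z) := by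
  simpa [mul_assoc] using sw (L := []) (r := 33) (s := 24) (by decide +kernel) v t z
theorem w34_33 (v t : K) (z : GG K) : X 34 v * (X 33 t * z) = X 33 t * (X 34 v * z) := by
  simpa [mul_assoc] using sw (L := []) (r := 33) (s := 34) (by decide +kernel) v t z
theorem w26_33 (v t : K) (z : GG K) : X 26 v * (X 33 t * z) = X 33 t * (X 26 v * z) := by
  simpa [mul_assoc] using sw (L := []) (r := 33) (s := 26) (by decide +kernel) v t z
theorem w36_33 (v t : K) (z : GG K) : X 36 v * (X 33 t * z) = X 33 t * (X 36 v * z) := by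
  simpa [mul_assoc] using sw (L := []) (r := 33) (s := 36) (by decide +kernel) v t z
theorem w42_33 (v t : K) (z : GG K) : X 42 v * (X 33 t * z) = X 33 t * (X 42 v * z) := by
  simpa [mul_assoc] using sw (L := []) (r := 33) (s := 42) (by decide +kernel) v t z
theorem w38_33 (v t : K) (z : GG K) : X 38 v * (X 33 t * z) = X 33 t * (X 38 v * z) := by
  simpa [mul_assoc] using sw (L := []) (r := 33) (s := 38) (by decide +kernel) v t z
theorem w43_33 (v t : K) (z : GG K) : X 43 v * (X 33 t * z) = X 33 t * (X 43 v * z) := by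
  simpa [mul_assoc] using sw (L := []) (r := 33) (s := 43) (by decide +kernel) v t z
theorem w29_33 (v t : K) (z : GG K) : X 29 v * (X 33 t * z) = X 33 t * (X 29 v * (X 36 (t * v) * z)) := by
  simpa [mul_assoc] using sw (L := [(36, 1, 1)]) (r := 33) (s := 29) (by decide +kernel) v t z
theorem w41_33 (v t : K) (z : GG K) : X 41 v * (X 33 t * z) = X 33 t * (X 41 v * z) := by
  simpa [mul_assoc] using sw (L := []) (r := 33) (s := 41) (by decide +kernel) v t z
theorem w44_33 (v t : K) (z : GG K) : X 44 v * (X 33 t * z) = X 33 t * (X 44 v * z) := by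
  simpa [mul_assoc] using sw (L := []) (r := 33) (s := 44) (by decide +kernel) v t z
theorem w47_33 (v t : K) (z : GG K) : X 47 v * (X 33 t * z) = X 33 t * (X 47 v * z) := by
  simpa [mul_assoc] using sw (L := []) (r := 33) (s := 47) (by decide +kernel) v t z
theorem w39_33 (v t : K) (z : GG K) : X 39 v * (X 33 t * z) = X 33 t * (X 39 v * z) := by
  simpa [mul_assoc] using sw (L := []) (r := 33) (s := 39) (by decide +kernel) v t z
theorem w45_33 (v t : K) (z : GG K) : X 45 v * (X 33 t * z) = X 33 t * (X 45 v * z) := by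
  simpa [mul_assoc] using sw (L := []) (r := 33) (s := 45) (by decide +kernel) v t z
theorem w35_33 (v t : K) (z : GG K) : X 35 v * (X 33 t * z) = X 33 t * (X 35 v * z) := by
  simpa [mul_assoc] using sw (L := []) (r := 33) (s := 35) (by decide +kernel) v t z
theorem w31_33 (v t : K) (z : GG K) : X 31 v * (X 33 t * z) = X 33 t * (X 31 v * (X 38 (t * v) * (X 42 (t ^ 2 * v) * z))) := by
  simpa [mul_assoc] using sw (L := [(38, 1, 1), (42, 2, 1)]) (r := 33) (s := 31) (by decide +kernel) v t z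
theorem w40_33 (v t : K) (z : GG K) : X 40 v * (X 33 t * z) = X 33 t * (X 40 v * (X 44 (t * v) * z)) := by
  simpa [mul_assoc] using sw (L := [(44, 1, 1)]) (r := 33) (s := 40) (by decide +kernel) v t z
theorem w46_33 (v t : K) (z : GG K) : X 46 v * (X 33 t * z) = X 33 t * (X 46 v * z) := by
  simpa [mul_assoc] using sw (L := []) (r := 33) (s := 46) (by decide +kernel) v t z
theorem w37_33 (v t : K) (z : GG K) : X 37 v * (X 33 t * z) = X 33 t * (X 37 v * z) := by
  simpa [mul_assoc] using sw (L := []) (r := 33) (s := 37) (by decide +kernel) v t z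
theorem w32_33 (v t : K) (z : GG K) : X 32 v * (X 33 t * z) = X 33 t * (X 32 v * (X 39 (t * v) * (X 43 (t ^ 2 * v) * z))) := by
  simpa [mul_assoc] using sw (L := [(39, 1, 1), (43, 2, 1)]) (r := 33) (s := 32) (by decide +kernel) v t z
theorem w27_33 (v t : K) (z : GG K) : X 27 v * (X 33 t * z) = X 33 t * (X 27 v * (X 34 (t * v) * z)) := by
  simpa [mul_assoc] using sw (L := [(34, 1, 1)]) (r := 33) (s := 27) (by decide +kernel) v t z
theorem w25_33 (v t : K) (z : GG K) : X 25 v * (X 33 t * z) = X 33 t * (X 25 v * z) := by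
  simpa [mul_assoc] using sw (L := []) (r := 33) (s := 25) (by decide +kernel) v t z
theorem w28_33 (v t : K) (z : GG K) : X 28 v * (X 33 t * z) = X 33 t * (X 28 v * (X 35 (t * v) * z)) := by
  simpa [mul_assoc] using sw (L := [(35, 1, 1)]) (r := 33) (s := 28) (by decide +kernel) v t z
theorem w30_33 (v t : K) (z : GG K) : X 30 v * (X 33 t * z) = X 33 t * (X 30 v * (X 37 (t * v) * (X 41 (t ^ 2 * v) * z))) := by
  simpa [mul_assoc] using sw (L := [(37, 1, 1), (41, 2, 1)]) (r := 33) (s := 30) (by decide +kernel) v t z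
theorem w34_24 (v t : K) (z : GG K) : X 34 v * (X 24 t * z) = X 24 t * (X 34 v * z) := by
  simpa [mul_assoc] using sw (L := []) (r := 24) (s := 34) (by decide +kernel) v t z
theorem w26_24 (v t : K) (z : GG K) : X 26 v * (X 24 t * z) = X 24 t * (X 26 v * z) := by
  simpa [mul_assoc] using sw (L := []) (r := 24) (s := 26) (by decide +kernel) v t z
theorem w36_24 (v t : K) (z : GG K) : X 36 v * (X 24 t * z) = X 24 t * (X 36 v * z) := by
  simpa [mul_assoc] using sw (L := []) (r := 24) (s := 36) (by decide +kernel) v t z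
theorem w42_24 (v t : K) (z : GG K) : X 42 v * (X 24 t * z) = X 24 t * (X 42 v * z) := by
  simpa [mul_assoc] using sw (L := []) (r := 24) (s := 42) (by decide +kernel) v t z
theorem w38_24 (v t : K) (z : GG K) : X 38 v * (X 24 t * z) = X 24 t * (X 38 v * z) := by
  simpa [mul_assoc] using sw (L := []) (r := 24) (s := 38) (by decide +kernel) v t z
theorem w43_24 (v t : K) (z : GG K) : X 43 v * (X 24 t * z) = X 24 t * (X 43 v * z) := by
  simpa [mul_assoc] using sw (L := []) (r := 24) (s := 43) (by decide +kernel) v t z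
theorem w29_24 (v t : K) (z : GG K) : X 29 v * (X 24 t * z) = X 24 t * (X 29 v * z) := by
  simpa [mul_assoc] using sw (L := []) (r := 24) (s := 29) (by decide +kernel) v t z
theorem w41_24 (v t : K) (z : GG K) : X 41 v * (X 24 t * z) = X 24 t * (X 41 v * (X 42 (t * v) * z)) := by
  simpa [mul_assoc] using sw (L := [(42, 1, 1)]) (r := 24) (s := 41) (by decide +kernel) v t z
theorem w44_24 (v t : K) (z : GG K) : X 44 v * (X 24 t * z) = X 24 t * (X 44 v * z) := by
  simpa [mul_assoc] using sw (L := []) (r := 24) (s := 44) (by decide +kernel) v t z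
theorem w47_24 (v t : K) (z : GG K) : X 47 v * (X 24 t * z) = X 24 t * (X 47 v * z) := by
  simpa [mul_assoc] using sw (L := []) (r := 24) (s := 47) (by decide +kernel) v t z
theorem w39_24 (v t : K) (z : GG K) : X 39 v * (X 24 t * z) = X 24 t * (X 39 v * z) := by
  simpa [mul_assoc] using sw (L := []) (r := 24) (s := 39) (by decide +kernel) v t z
theorem w45_24 (v t : K) (z : GG K) : X 45 v * (X 24 t * z) = X 24 t * (X 45 v * z) := by
  simpa [mul_assoc] using sw (L := []) (r := 24) (s := 45) (by decide +kernel) v t z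
theorem w35_24 (v t : K) (z : GG K) : X 35 v * (X 24 t * z) = X 24 t * (X 35 v * (X 36 (t * v) * (X 43 (t * v ^ 2) * z))) := by
  simpa [mul_assoc] using sw (L := [(36, 1, 1), (43, 1, 2)]) (r := 24) (s := 35) (by decide +kernel) v t z
theorem w31_24 (v t : K) (z : GG K) : X 31 v * (X 24 t * z) = X 24 t * (X 31 v * z) := by
  simpa [mul_assoc] using sw (L := []) (r := 24) (s := 31) (by decide +kernel) v t z
theorem w40_24 (v t : K) (z : GG K) : X 40 v * (X 24 t * z) = X 24 t * (X 40 v * z) := by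
  simpa [mul_assoc] using sw (L := []) (r := 24) (s := 40) (by decide +kernel) v t z
theorem w46_24 (v t : K) (z : GG K) : X 46 v * (X 24 t * z) = X 24 t * (X 46 v * (X 47 (t * v) * z)) := by
  simpa [mul_assoc] using sw (L := [(47, 1, 1)]) (r := 24) (s := 46) (by decide +kernel) v t z
theorem w37_24 (v t : K) (z : GG K) : X 37 v * (X 24 t * z) = X 24 t * (X 37 v * (X 38 (t * v) * (X 45 (t * v ^ 2) * z))) := by
  simpa [mul_assoc] using sw (L := [(38, 1, 1), (45, 1, 2)]) (r := 24) (s := 37) (by decide +kernel) v t z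
theorem w32_24 (v t : K) (z : GG K) : X 32 v * (X 24 t * z) = X 24 t * (X 32 v * z) := by
  simpa [mul_assoc] using sw (L := []) (r := 24) (s := 32) (by decide +kernel) v t z
theorem w27_24 (v t : K) (z : GG K) : X 27 v * (X 24 t * z) = X 24 t * (X 27 v * z) := by
  simpa [mul_assoc] using sw (L := []) (r := 24) (s := 27) (by decide +kernel) v t z
theorem w25_24 (v t : K) (z : GG K) : X 25 v * (X 24 t * z) = X 24 t * (X 25 v * (X 26 (t * v) * z)) := by
  simpa [mul_assoc] using sw (L := [(26, 1, 1)]) (r := 24) (s := 25) (by decide +kernel) v t z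
theorem w28_24 (v t : K) (z : GG K) : X 28 v * (X 24 t * z) = X 24 t * (X 28 v * (X 29 (t * v) * (X 32 (t * v ^ 2) * z))) := by
  simpa [mul_assoc] using sw (L := [(29, 1, 1), (32, 1, 2)]) (r := 24) (s := 28) (by decide +kernel) v t z
theorem w30_24 (v t : K) (z : GG K) : X 30 v * (X 24 t * z) = X 24 t * (X 30 v * (X 31 (t * v) * z)) := by
  simpa [mul_assoc] using sw (L := [(31, 1, 1)]) (r := 24) (s := 30) (by decide +kernel) v t z
theorem w26_34 (v t : K) (z : GG K) : X 26 v * (X 34 t * z) = X 34 t * (X 26 v * (X 36 (t * v) * (X 42 (t ^ 2 * v) * z))) := by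
  simpa [mul_assoc] using sw (L := [(36, 1, 1), (42, 2, 1)]) (r := 34) (s := 26) (by decide +kernel) v t z
theorem w36_34 (v t : K) (z : GG K) : X 36 v * (X 34 t * z) = X 34 t * (X 36 v * z) := by
  simpa [mul_assoc] using sw (L := []) (r := 34) (s := 36) (by decide +kernel) v t z
theorem w42_34 (v t : K) (z : GG K) : X 42 v * (X 34 t * z) = X 34 t * (X 42 v * z) := by
  simpa [mul_assoc] using sw (L := []) (r := 34) (s := 42) (by decide +kernel) v t z
theorem w38_34 (v t : K) (z : GG K) : X 38 v * (X 34 t * z) = X 34 t * (X 38 v * z) := by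
  simpa [mul_assoc] using sw (L := []) (r := 34) (s := 38) (by decide +kernel) v t z
theorem w43_34 (v t : K) (z : GG K) : X 43 v * (X 34 t * z) = X 34 t * (X 43 v * z) := by
  simpa [mul_assoc] using sw (L := []) (r := 34) (s := 43) (by decide +kernel) v t z
theorem w29_34 (v t : K) (z : GG K) : X 29 v * (X 34 t * z) = X 34 t * (X 29 v * (X 38 (t * v) * z)) := by
  simpa [mul_assoc] using sw (L := [(38, 1, 1)]) (r := 34) (s := 29) (by decide +kernel) v t z
theorem w41_34 (v t : K) (z : GG K) : X 41 v * (X 34 t * z) = X 34 t * (X 41 v * z) := by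
  simpa [mul_assoc] using sw (L := []) (r := 34) (s := 41) (by decide +kernel) v t z
theorem w44_34 (v t : K) (z : GG K) : X 44 v * (X 34 t * z) = X 34 t * (X 44 v * z) := by
  simpa [mul_assoc] using sw (L := []) (r := 34) (s := 44) (by decide +kernel) v t z
theorem w47_34 (v t : K) (z : GG K) : X 47 v * (X 34 t * z) = X 34 t * (X 47 v * z) := by
  simpa [mul_assoc] using sw (L := []) (r := 34) (s := 47) (by decide +kernel) v t z
theorem w39_34 (v t : K) (z : GG K) : X 39 v * (X 34 t * z) = X 34 t * (X 39 v * (X 44 (t * v) * z)) := by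
  simpa [mul_assoc] using sw (L := [(44, 1, 1)]) (r := 34) (s := 39) (by decide +kernel) v t z
theorem w45_34 (v t : K) (z : GG K) : X 45 v * (X 34 t * z) = X 34 t * (X 45 v * z) := by
  simpa [mul_assoc] using sw (L := []) (r := 34) (s := 45) (by decide +kernel) v t z
theorem w35_34 (v t : K) (z : GG K) : X 35 v * (X 34 t * z) = X 34 t * (X 35 v * z) := by
  simpa [mul_assoc] using sw (L := []) (r := 34) (s := 35) (by decide +kernel) v t z
theorem w31_34 (v t : K) (z : GG K) : X 31 v * (X 34 t * z) = X 34 t * (X 31 v * z) := by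
  simpa [mul_assoc] using sw (L := []) (r := 34) (s := 31) (by decide +kernel) v t z
theorem w40_34 (v t : K) (z : GG K) : X 40 v * (X 34 t * z) = X 34 t * (X 40 v * z) := by
  simpa [mul_assoc] using sw (L := []) (r := 34) (s := 40) (by decide +kernel) v t z
theorem w46_34 (v t : K) (z : GG K) : X 46 v * (X 34 t * z) = X 34 t * (X 46 v * z) := by
  simpa [mul_assoc] using sw (L := []) (r := 34) (s := 46) (by decide +kernel) v t z
theorem w37_34 (v t : K) (z : GG K) : X 37 v * (X 34 t * z) = X 34 t * (X 37 v * z) := by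
  simpa [mul_assoc] using sw (L := []) (r := 34) (s := 37) (by decide +kernel) v t z
theorem w32_34 (v t : K) (z : GG K) : X 32 v * (X 34 t * z) = X 34 t * (X 32 v * (X 40 (t * v) * (X 45 (t ^ 2 * v) * z))) := by
  simpa [mul_assoc] using sw (L := [(40, 1, 1), (45, 2, 1)]) (r := 34) (s := 32) (by decide +kernel) v t z
theorem w27_34 (v t : K) (z : GG K) : X 27 v * (X 34 t * z) = X 34 t * (X 27 v * z) := by
  simpa [mul_assoc] using sw (L := []) (r := 34) (s := 27) (by decide +kernel) v t z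
theorem w25_34 (v t : K) (z : GG K) : X 25 v * (X 34 t * z) = X 34 t * (X 25 v * (X 35 (t * v) * (X 41 (t ^ 2 * v) * z))) := by
  simpa [mul_assoc] using sw (L := [(35, 1, 1), (41, 2, 1)]) (r := 34) (s := 25) (by decide +kernel) v t z
theorem w28_34 (v t : K) (z : GG K) : X 28 v * (X 34 t * z) = X 34 t * (X 28 v * (X 37 (t * v) * z)) := by
  simpa [mul_assoc] using sw (L := [(37, 1, 1)]) (r := 34) (s := 28) (by decide +kernel) v t z
theorem w30_34 (v t : K) (z : GG K) : X 30 v * (X 34 t * z) = X 34 t * (X 30 v * z) := by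
  simpa [mul_assoc] using sw (L := []) (r := 34) (s := 30) (by decide +kernel) v t z
theorem w36_26 (v t : K) (z : GG K) : X 36 v * (X 26 t * z) = X 26 t * (X 36 v * z) := by
  simpa [mul_assoc] using sw (L := []) (r := 26) (s := 36) (by decide +kernel) v t z
theorem w42_26 (v t : K) (z : GG K) : X 42 v * (X 26 t * z) = X 26 t * (X 42 v * z) := by
  simpa [mul_assoc] using sw (L := []) (r := 26) (s := 42) (by decide +kernel) v t z
theorem w38_26 (v t : K) (z : GG K) : X 38 v * (X 26 t * z) = X 26 t * (X 38 v * z) := by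
  simpa [mul_assoc] using sw (L := []) (r := 26) (s := 38) (by decide +kernel) v t z
theorem w43_26 (v t : K) (z : GG K) : X 43 v * (X 26 t * z) = X 26 t * (X 43 v * z) := by
  simpa [mul_assoc] using sw (L := []) (r := 26) (s := 43) (by decide +kernel) v t z
theorem w29_26 (v t : K) (z : GG K) : X 29 v * (X 26 t * z) = X 26 t * (X 29 v * z) := by
  simpa [mul_assoc] using sw (L := []) (r := 26) (s := 29) (by decide +kernel) v t z
theorem w41_26 (v t : K) (z : GG K) : X 41 v * (X 26 t * z) = X 26 t * (X 41 v * (X 43 (t * v) * z)) := by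
  simpa [mul_assoc] using sw (L := [(43, 1, 1)]) (r := 26) (s := 41) (by decide +kernel) v t z
theorem w44_26 (v t : K) (z : GG K) : X 44 v * (X 26 t * z) = X 26 t * (X 44 v * z) := by
  simpa [mul_assoc] using sw (L := []) (r := 26) (s := 44) (by decide +kernel) v t z
theorem w47_26 (v t : K) (z : GG K) : X 47 v * (X 26 t * z) = X 26 t * (X 47 v * z) := by
  simpa [mul_assoc] using sw (L := []) (r := 26) (s := 47) (by decide +kernel) v t z
theorem w39_26 (v t : K) (z : GG K) : X 39 v * (X 26 t * z) = X 26 t * (X 39 v * z) := by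
  simpa [mul_assoc] using sw (L := []) (r := 26) (s := 39) (by decide +kernel) v t z
theorem w45_26 (v t : K) (z : GG K) : X 45 v * (X 26 t * z) = X 26 t * (X 45 v * (X 47 (t * v) * z)) := by
  simpa [mul_assoc] using sw (L := [(47, 1, 1)]) (r := 26) (s := 45) (by decide +kernel) v t z
theorem w35_26 (v t : K) (z : GG K) : X 35 v * (X 26 t * z) = X 26 t * (X 35 v * z) := by
  simpa [mul_assoc] using sw (L := []) (r := 26) (s := 35) (by decide +kernel) v t z
theorem w31_26 (v t : K) (z : GG K) : X 31 v * (X 26 t * z) = X 26 t * (X 31 v * z) := by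
  simpa [mul_assoc] using sw (L := []) (r := 26) (s := 31) (by decide +kernel) v t z
theorem w40_26 (v t : K) (z : GG K) : X 40 v * (X 26 t * z) = X 26 t * (X 40 v * z) := by
  simpa [mul_assoc] using sw (L := []) (r := 26) (s := 40) (by decide +kernel) v t z
theorem w46_26 (v t : K) (z : GG K) : X 46 v * (X 26 t * z) = X 26 t * (X 46 v * z) := by
  simpa [mul_assoc] using sw (L := []) (r := 26) (s := 46) (by decide +kernel) v t z
theorem w37_26 (v t : K) (z : GG K) : X 37 v * (X 26 t * z) = X 26 t * (X 37 v * (X 39 (t * v) * (X 46 (t * v ^ 2) * z))) := by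
  simpa [mul_assoc] using sw (L := [(39, 1, 1), (46, 1, 2)]) (r := 26) (s := 37) (by decide +kernel) v t z
theorem w32_26 (v t : K) (z : GG K) : X 32 v * (X 26 t * z) = X 26 t * (X 32 v * z) := by
  simpa [mul_assoc] using sw (L := []) (r := 26) (s := 32) (by decide +kernel) v t z
theorem w27_26 (v t : K) (z : GG K) : X 27 v * (X 26 t * z) = X 26 t * (X 27 v * (X 29 (t * v) * (X 31 (t * v ^ 2) * z))) := by
  simpa [mul_assoc] using sw (L := [(29, 1, 1), (31, 1, 2)]) (r := 26) (s := 27) (by decide +kernel) v t z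
theorem w25_26 (v t : K) (z : GG K) : X 25 v * (X 26 t * z) = X 26 t * (X 25 v * z) := by
  simpa [mul_assoc] using sw (L := []) (r := 26) (s := 25) (by decide +kernel) v t z
theorem w28_26 (v t : K) (z : GG K) : X 28 v * (X 26 t * z) = X 26 t * (X 28 v * z) := by
  simpa [mul_assoc] using sw (L := []) (r := 26) (s := 28) (by decide +kernel) v t z
theorem w30_26 (v t : K) (z : GG K) : X 30 v * (X 26 t * z) = X 26 t * (X 30 v * (X 32 (t * v) * z)) := by
  simpa [mul_assoc] using sw (L := [(32, 1, 1)]) (r := 26) (s := 30) (by decide +kernel) v t z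
theorem w42_36 (v t : K) (z : GG K) : X 42 v * (X 36 t * z) = X 36 t * (X 42 v * z) := by
  simpa [mul_assoc] using sw (L := []) (r := 36) (s := 42) (by decide +kernel) v t z
theorem w38_36 (v t : K) (z : GG K) : X 38 v * (X 36 t * z) = X 36 t * (X 38 v * z) := by
  simpa [mul_assoc] using sw (L := []) (r := 36) (s := 38) (by decide +kernel) v t z
theorem w43_36 (v t : K) (z : GG K) : X 43 v * (X 36 t * z) = X 36 t * (X 43 v * z) := by
  simpa [mul_assoc] using sw (L := []) (r := 36) (s := 43) (by decide +kernel) v t z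
theorem w29_36 (v t : K) (z : GG K) : X 29 v * (X 36 t * z) = X 36 t * (X 29 v * z) := by
  simpa [mul_assoc] using sw (L := []) (r := 36) (s := 29) (by decide +kernel) v t z
theorem w41_36 (v t : K) (z : GG K) : X 41 v * (X 36 t * z) = X 36 t * (X 41 v * z) := by
  simpa [mul_assoc] using sw (L := []) (r := 36) (s := 41) (by decide +kernel) v t z
theorem w44_36 (v t : K) (z : GG K) : X 44 v * (X 36 t * z) = X 36 t * (X 44 v * z) := by
  simpa [mul_assoc] using sw (L := []) (r := 36) (s := 44) (by decide +kernel) v t z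
theorem w47_36 (v t : K) (z : GG K) : X 47 v * (X 36 t * z) = X 36 t * (X 47 v * z) := by
  simpa [mul_assoc] using sw (L := []) (r := 36) (s := 47) (by decide +kernel) v t z
theorem w39_36 (v t : K) (z : GG K) : X 39 v * (X 36 t * z) = X 36 t * (X 39 v * z) := by
  simpa [mul_assoc] using sw (L := []) (r := 36) (s := 39) (by decide +kernel) v t z
theorem w45_36 (v t : K) (z : GG K) : X 45 v * (X 36 t * z) = X 36 t * (X 45 v * z) := by
  simpa [mul_assoc] using sw (L := []) (r := 36) (s := 45) (by decide +kernel) v t z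
theorem w35_36 (v t : K) (z : GG K) : X 35 v * (X 36 t * z) = X 36 t * (X 35 v * z) := by
  simpa [mul_assoc] using sw (L := []) (r := 36) (s := 35) (by decide +kernel) v t z
theorem w31_36 (v t : K) (z : GG K) : X 31 v * (X 36 t * z) = X 36 t * (X 31 v * z) := by
  simpa [mul_assoc] using sw (L := []) (r := 36) (s := 31) (by decide +kernel) v t z
theorem w40_36 (v t : K) (z : GG K) : X 40 v * (X 36 t * z) = X 36 t * (X 40 v * z) := by
  simpa [mul_assoc] using sw (L := []) (r := 36) (s := 40) (by decide +kernel) v t z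
theorem w46_36 (v t : K) (z : GG K) : X 46 v * (X 36 t * z) = X 36 t * (X 46 v * z) := by
  simpa [mul_assoc] using sw (L := []) (r := 36) (s := 46) (by decide +kernel) v t z
theorem w37_36 (v t : K) (z : GG K) : X 37 v * (X 36 t * z) = X 36 t * (X 37 v * (X 44 (t * v) * z)) := by
  simpa [mul_assoc] using sw (L := [(44, 1, 1)]) (r := 36) (s := 37) (by decide +kernel) v t z
theorem w32_36 (v t : K) (z : GG K) : X 32 v * (X 36 t * z) = X 36 t * (X 32 v * z) := by
  simpa [mul_assoc] using sw (L := []) (r := 36) (s := 32) (by decide +kernel) v t z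
theorem w27_36 (v t : K) (z : GG K) : X 27 v * (X 36 t * z) = X 36 t * (X 27 v * (X 38 (t * v) * z)) := by
  simpa [mul_assoc] using sw (L := [(38, 1, 1)]) (r := 36) (s := 27) (by decide +kernel) v t z
theorem w25_36 (v t : K) (z : GG K) : X 25 v * (X 36 t * z) = X 36 t * (X 25 v * z) := by
  simpa [mul_assoc] using sw (L := []) (r := 36) (s := 25) (by decide +kernel) v t z
theorem w28_36 (v t : K) (z : GG K) : X 28 v * (X 36 t * z) = X 36 t * (X 28 v * (X 39 (t * v) * z)) := by
  simpa [mul_assoc] using sw (L := [(39, 1, 1)]) (r := 36) (s := 28) (by decide +kernel) v t z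
theorem w30_36 (v t : K) (z : GG K) : X 30 v * (X 36 t * z) = X 36 t * (X 30 v * (X 40 (t * v) * (X 47 (t ^ 2 * v) * z))) := by
  simpa [mul_assoc] using sw (L := [(40, 1, 1), (47, 2, 1)]) (r := 36) (s := 30) (by decide +kernel) v t z
theorem w38_42 (v t : K) (z : GG K) : X 38 v * (X 42 t * z) = X 42 t * (X 38 v * z) := by
  simpa [mul_assoc] using sw (L := []) (r := 42) (s := 38) (by decide +kernel) v t z
theorem w43_42 (v t : K) (z : GG K) : X 43 v * (X 42 t * z) = X 42 t * (X 43 v * z) := by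
  simpa [mul_assoc] using sw (L := []) (r := 42) (s := 43) (by decide +kernel) v t z
theorem w29_42 (v t : K) (z : GG K) : X 29 v * (X 42 t * z) = X 42 t * (X 29 v * z) := by
  simpa [mul_assoc] using sw (L := []) (r := 42) (s := 29) (by decide +kernel) v t z
theorem w41_42 (v t : K) (z : GG K) : X 41 v * (X 42 t * z) = X 42 t * (X 41 v * z) := by
  simpa [mul_assoc] using sw (L := []) (r := 42) (s := 41) (by decide +kernel) v t z
theorem w44_42 (v t : K) (z : GG K) : X 44 v * (X 42 t * z) = X 42 t * (X 44 v * z) := by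
  simpa [mul_assoc] using sw (L := []) (r := 42) (s := 44) (by decide +kernel) v t z
theorem w47_42 (v t : K) (z : GG K) : X 47 v * (X 42 t * z) = X 42 t * (X 47 v * z) := by
  simpa [mul_assoc] using sw (L := []) (r := 42) (s := 47) (by decide +kernel) v t z
theorem w39_42 (v t : K) (z : GG K) : X 39 v * (X 42 t * z) = X 42 t * (X 39 v * z) := by
  simpa [mul_assoc] using sw (L := []) (r := 42) (s := 39) (by decide +kernel) v t z
theorem w45_42 (v t : K) (z : GG K) : X 45 v * (X 42 t * z) = X 42 t * (X 45 v * z) := by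
  simpa [mul_assoc] using sw (L := []) (r := 42) (s := 45) (by decide +kernel) v t z
theorem w35_42 (v t : K) (z : GG K) : X 35 v * (X 42 t * z) = X 42 t * (X 35 v * z) := by
  simpa [mul_assoc] using sw (L := []) (r := 42) (s := 35) (by decide +kernel) v t z
theorem w31_42 (v t : K) (z : GG K) : X 31 v * (X 42 t * z) = X 42 t * (X 31 v * z) := by
  simpa [mul_assoc] using sw (L := []) (r := 42) (s := 31) (by decide +kernel) v t z
theorem w40_42 (v t : K) (z : GG K) : X 40 v * (X 42 t * z) = X 42 t * (X 40 v * z) := by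
  simpa [mul_assoc] using sw (L := []) (r := 42) (s := 40) (by decide +kernel) v t z
theorem w46_42 (v t : K) (z : GG K) : X 46 v * (X 42 t * z) = X 42 t * (X 46 v * z) := by
  simpa [mul_assoc] using sw (L := []) (r := 42) (s := 46) (by decide +kernel) v t z
theorem w37_42 (v t : K) (z : GG K) : X 37 v * (X 42 t * z) = X 42 t * (X 37 v * z) := by
  simpa [mul_assoc] using sw (L := []) (r := 42) (s := 37) (by decide +kernel) v t z
theorem w32_42 (v t : K) (z : GG K) : X 32 v * (X 42 t * z) = X 42 t * (X 32 v * (X 47 (t * v) * z)) := by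
  simpa [mul_assoc] using sw (L := [(47, 1, 1)]) (r := 42) (s := 32) (by decide +kernel) v t z
theorem w27_42 (v t : K) (z : GG K) : X 27 v * (X 42 t * z) = X 42 t * (X 27 v * z) := by
  simpa [mul_assoc] using sw (L := []) (r := 42) (s := 27) (by decide +kernel) v t z
theorem w25_42 (v t : K) (z : GG K) : X 25 v * (X 42 t * z) = X 42 t * (X 25 v * (X 43 (t * v) * z)) := by
  simpa [mul_assoc] using sw (L := [(43, 1, 1)]) (r := 42) (s := 25) (by decide +kernel) v t z
theorem w28_42 (v t : K) (z : GG K) : X 28 v * (X 42 t * z) = X 42 t * (X 28 v * (X 44 (t * v) * (X 46 (t * v ^ 2) * z))) := by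
  simpa [mul_assoc] using sw (L := [(44, 1, 1), (46, 1, 2)]) (r := 42) (s := 28) (by decide +kernel) v t z
theorem w30_42 (v t : K) (z : GG K) : X 30 v * (X 42 t * z) = X 42 t * (X 30 v * (X 45 (t * v) * z)) := by
  simpa [mul_assoc] using sw (L := [(45, 1, 1)]) (r := 42) (s := 30) (by decide +kernel) v t z
theorem w43_38 (v t : K) (z : GG K) : X 43 v * (X 38 t * z) = X 38 t * (X 43 v * z) := by
  simpa [mul_assoc] using sw (L := []) (r := 38) (s := 43) (by decide +kernel) v t z
theorem w29_38 (v t : K) (z : GG K) : X 29 v * (X 38 t * z) = X 38 t * (X 29 v * z) := by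
  simpa [mul_assoc] using sw (L := []) (r := 38) (s := 29) (by decide +kernel) v t z
theorem w41_38 (v t : K) (z : GG K) : X 41 v * (X 38 t * z) = X 38 t * (X 41 v * z) := by
  simpa [mul_assoc] using sw (L := []) (r := 38) (s := 41) (by decide +kernel) v t z
theorem w44_38 (v t : K) (z : GG K) : X 44 v * (X 38 t * z) = X 38 t * (X 44 v * z) := by
  simpa [mul_assoc] using sw (L := []) (r := 38) (s := 44) (by decide +kernel) v t z
theorem w47_38 (v t : K) (z : GG K) : X 47 v * (X 38 t * z) = X 38 t * (X 47 v * z) := by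
  simpa [mul_assoc] using sw (L := []) (r := 38) (s := 47) (by decide +kernel) v t z
theorem w39_38 (v t : K) (z : GG K) : X 39 v * (X 38 t * z) = X 38 t * (X 39 v * z) := by
  simpa [mul_assoc] using sw (L := []) (r := 38) (s := 39) (by decide +kernel) v t z
theorem w45_38 (v t : K) (z : GG K) : X 45 v * (X 38 t * z) = X 38 t * (X 45 v * z) := by
  simpa [mul_assoc] using sw (L := []) (r := 38) (s := 45) (by decide +kernel) v t z
theorem w35_38 (v t : K) (z : GG K) : X 35 v * (X 38 t * z) = X 38 t * (X 35 v * (X 44 (t * v) * z)) := by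
  simpa [mul_assoc] using sw (L := [(44, 1, 1)]) (r := 38) (s := 35) (by decide +kernel) v t z
theorem w31_38 (v t : K) (z : GG K) : X 31 v * (X 38 t * z) = X 38 t * (X 31 v * z) := by
  simpa [mul_assoc] using sw (L := []) (r := 38) (s := 31) (by decide +kernel) v t z
theorem w40_38 (v t : K) (z : GG K) : X 40 v * (X 38 t * z) = X 38 t * (X 40 v * z) := by
  simpa [mul_assoc] using sw (L := []) (r := 38) (s := 40) (by decide +kernel) v t z
theorem w46_38 (v t : K) (z : GG K) : X 46 v * (X 38 t * z) = X 38 t * (X 46 v * z) := by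
  simpa [mul_assoc] using sw (L := []) (r := 38) (s := 46) (by decide +kernel) v t z
theorem w37_38 (v t : K) (z : GG K) : X 37 v * (X 38 t * z) = X 38 t * (X 37 v * z) := by
  simpa [mul_assoc] using sw (L := []) (r := 38) (s := 37) (by decide +kernel) v t z
theorem w32_38 (v t : K) (z : GG K) : X 32 v * (X 38 t * z) = X 38 t * (X 32 v * z) := by
  simpa [mul_assoc] using sw (L := []) (r := 38) (s := 32) (by decide +kernel) v t z
theorem w27_38 (v t : K) (z : GG K) : X 27 v * (X 38 t * z) = X 38 t * (X 27 v * z) := by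
  simpa [mul_assoc] using sw (L := []) (r := 38) (s := 27) (by decide +kernel) v t z
theorem w25_38 (v t : K) (z : GG K) : X 25 v * (X 38 t * z) = X 38 t * (X 25 v * (X 39 (t * v) * (X 47 (t ^ 2 * v) * z))) := by
  simpa [mul_assoc] using sw (L := [(39, 1, 1), (47, 2, 1)]) (r := 38) (s := 25) (by decide +kernel) v t z
theorem w28_38 (v t : K) (z : GG K) : X 28 v * (X 38 t * z) = X 38 t * (X 28 v * (X 40 (t * v) * z)) := by
  simpa [mul_assoc] using sw (L := [(40, 1, 1)]) (r := 38) (s := 28) (by decide +kernel) v t z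
theorem w30_38 (v t : K) (z : GG K) : X 30 v * (X 38 t * z) = X 38 t * (X 30 v * z) := by
  simpa [mul_assoc] using sw (L := []) (r := 38) (s := 30) (by decide +kernel) v t z
theorem w29_43 (v t : K) (z : GG K) : X 29 v * (X 43 t * z) = X 43 t * (X 29 v * z) := by
  simpa [mul_assoc] using sw (L := []) (r := 43) (s := 29) (by decide +kernel) v t z
theorem w41_43 (v t : K) (z : GG K) : X 41 v * (X 43 t * z) = X 43 t * (X 41 v * z) := by
  simpa [mul_assoc] using sw (L := []) (r := 43) (s := 41) (by decide +kernel) v t z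
theorem w44_43 (v t : K) (z : GG K) : X 44 v * (X 43 t * z) = X 43 t * (X 44 v * z) := by
  simpa [mul_assoc] using sw (L := []) (r := 43) (s := 44) (by decide +kernel) v t z
theorem w47_43 (v t : K) (z : GG K) : X 47 v * (X 43 t * z) = X 43 t * (X 47 v * z) := by
  simpa [mul_assoc] using sw (L := []) (r := 43) (s := 47) (by decide +kernel) v t z
theorem w39_43 (v t : K) (z : GG K) : X 39 v * (X 43 t * z) = X 43 t * (X 39 v * z) := by
  simpa [mul_assoc] using sw (L := []) (r := 43) (s := 39) (by decide +kernel) v t z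
theorem w45_43 (v t : K) (z : GG K) : X 45 v * (X 43 t * z) = X 43 t * (X 45 v * z) := by
  simpa [mul_assoc] using sw (L := []) (r := 43) (s := 45) (by decide +kernel) v t z
theorem w35_43 (v t : K) (z : GG K) : X 35 v * (X 43 t * z) = X 43 t * (X 35 v * z) := by
  simpa [mul_assoc] using sw (L := []) (r := 43) (s := 35) (by decide +kernel) v t z
theorem w31_43 (v t : K) (z : GG K) : X 31 v * (X 43 t * z) = X 43 t * (X 31 v * (X 47 (t * v) * z)) := by
  simpa [mul_assoc] using sw (L := [(47, 1, 1)]) (r := 43) (s := 31) (by decide +kernel) v t z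
theorem w40_43 (v t : K) (z : GG K) : X 40 v * (X 43 t * z) = X 43 t * (X 40 v * z) := by
  simpa [mul_assoc] using sw (L := []) (r := 43) (s := 40) (by decide +kernel) v t z
theorem w46_43 (v t : K) (z : GG K) : X 46 v * (X 43 t * z) = X 43 t * (X 46 v * z) := by
  simpa [mul_assoc] using sw (L := []) (r := 43) (s := 46) (by decide +kernel) v t z
theorem w37_43 (v t : K) (z : GG K) : X 37 v * (X 43 t * z) = X 43 t * (X 37 v * z) := by
  simpa [mul_assoc] using sw (L := []) (r := 43) (s := 37) (by decide +kernel) v t z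
theorem w32_43 (v t : K) (z : GG K) : X 32 v * (X 43 t * z) = X 43 t * (X 32 v * z) := by
  simpa [mul_assoc] using sw (L := []) (r := 43) (s := 32) (by decide +kernel) v t z
theorem w27_43 (v t : K) (z : GG K) : X 27 v * (X 43 t * z) = X 43 t * (X 27 v * (X 44 (t * v) * (X 45 (t * v ^ 2) * z))) := by
  simpa [mul_assoc] using sw (L := [(44, 1, 1), (45, 1, 2)]) (r := 43) (s := 27) (by decide +kernel) v t z
theorem w25_43 (v t : K) (z : GG K) : X 25 v * (X 43 t * z) = X 43 t * (X 25 v * z) := by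
  simpa [mul_assoc] using sw (L := []) (r := 43) (s := 25) (by decide +kernel) v t z
theorem w28_43 (v t : K) (z : GG K) : X 28 v * (X 43 t * z) = X 43 t * (X 28 v * z) := by
  simpa [mul_assoc] using sw (L := []) (r := 43) (s := 28) (by decide +kernel) v t z
theorem w30_43 (v t : K) (z : GG K) : X 30 v * (X 43 t * z) = X 43 t * (X 30 v * (X 46 (t * v) * z)) := by
  simpa [mul_assoc] using sw (L := [(46, 1, 1)]) (r := 43) (s := 30) (by decide +kernel) v t z
theorem w41_29 (v t : K) (z : GG K) : X 41 v * (X 29 t * z) = X 29 t * (X 41 v * (X 44 (t * v) * (X 47 (t ^ 2 * v) * z))) := by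
  simpa [mul_assoc] using sw (L := [(44, 1, 1), (47, 2, 1)]) (r := 29) (s := 41) (by decide +kernel) v t z
theorem w44_29 (v t : K) (z : GG K) : X 44 v * (X 29 t * z) = X 29 t * (X 44 v * z) := by
  simpa [mul_assoc] using sw (L := []) (r := 29) (s := 44) (by decide +kernel) v t z
theorem w47_29 (v t : K) (z : GG K) : X 47 v * (X 29 t * z) = X 29 t * (X 47 v * z) := by
  simpa [mul_assoc] using sw (L := []) (r := 29) (s := 47) (by decide +kernel) v t z
theorem w39_29 (v t : K) (z : GG K) : X 39 v * (X 29 t * z) = X 29 t * (X 39 v * z) := by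
  simpa [mul_assoc] using sw (L := []) (r := 29) (s := 39) (by decide +kernel) v t z
theorem w45_29 (v t : K) (z : GG K) : X 45 v * (X 29 t * z) = X 29 t * (X 45 v * z) := by
  simpa [mul_assoc] using sw (L := []) (r := 29) (s := 45) (by decide +kernel) v t z
theorem w35_29 (v t : K) (z : GG K) : X 35 v * (X 29 t * z) = X 29 t * (X 35 v * (X 39 (t * v) * z)) := by
  simpa [mul_assoc] using sw (L := [(39, 1, 1)]) (r := 29) (s := 35) (by decide +kernel) v t z
theorem w31_29 (v t : K) (z : GG K) : X 31 v * (X 29 t * z) = X 29 t * (X 31 v * z) := by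
  simpa [mul_assoc] using sw (L := []) (r := 29) (s := 31) (by decide +kernel) v t z
theorem w40_29 (v t : K) (z : GG K) : X 40 v * (X 29 t * z) = X 29 t * (X 40 v * z) := by
  simpa [mul_assoc] using sw (L := []) (r := 29) (s := 40) (by decide +kernel) v t z
theorem w46_29 (v t : K) (z : GG K) : X 46 v * (X 29 t * z) = X 29 t * (X 46 v * z) := by
  simpa [mul_assoc] using sw (L := []) (r := 29) (s := 46) (by decide +kernel) v t z
theorem w37_29 (v t : K) (z : GG K) : X 37 v * (X 29 t * z) = X 29 t * (X 37 v * (X 40 (t * v) * z)) := by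
  simpa [mul_assoc] using sw (L := [(40, 1, 1)]) (r := 29) (s := 37) (by decide +kernel) v t z
theorem w32_29 (v t : K) (z : GG K) : X 32 v * (X 29 t * z) = X 29 t * (X 32 v * z) := by
  simpa [mul_assoc] using sw (L := []) (r := 29) (s := 32) (by decide +kernel) v t z
theorem w27_29 (v t : K) (z : GG K) : X 27 v * (X 29 t * z) = X 29 t * (X 27 v * z) := by
  simpa [mul_assoc] using sw (L := []) (r := 29) (s := 27) (by decide +kernel) v t z
theorem w25_29 (v t : K) (z : GG K) : X 25 v * (X 29 t * z) = X 29 t * (X 25 v * z) := by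
  simpa [mul_assoc] using sw (L := []) (r := 29) (s := 25) (by decide +kernel) v t z
theorem w28_29 (v t : K) (z : GG K) : X 28 v * (X 29 t * z) = X 29 t * (X 28 v * z) := by
  simpa [mul_assoc] using sw (L := []) (r := 29) (s := 28) (by decide +kernel) v t z
theorem w30_29 (v t : K) (z : GG K) : X 30 v * (X 29 t * z) = X 29 t * (X 30 v * z) := by
  simpa [mul_assoc] using sw (L := []) (r := 29) (s := 30) (by decide +kernel) v t z
theorem w44_41 (v t : K) (z : GG K) : X 44 v * (X 41 t * z) = X 41 t * (X 44 v * z) := by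
  simpa [mul_assoc] using sw (L := []) (r := 41) (s := 44) (by decide +kernel) v t z
theorem w47_41 (v t : K) (z : GG K) : X 47 v * (X 41 t * z) = X 41 t * (X 47 v * z) := by
  simpa [mul_assoc] using sw (L := []) (r := 41) (s := 47) (by decide +kernel) v t z
theorem w39_41 (v t : K) (z : GG K) : X 39 v * (X 41 t * z) = X 41 t * (X 39 v * z) := by
  simpa [mul_assoc] using sw (L := []) (r := 41) (s := 39) (by decide +kernel) v t z
theorem w45_41 (v t : K) (z : GG K) : X 45 v * (X 41 t * z) = X 41 t * (X 45 v * z) := by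
  simpa [mul_assoc] using sw (L := []) (r := 41) (s := 45) (by decide +kernel) v t z
theorem w35_41 (v t : K) (z : GG K) : X 35 v * (X 41 t * z) = X 41 t * (X 35 v * z) := by
  simpa [mul_assoc] using sw (L := []) (r := 41) (s := 35) (by decide +kernel) v t z
theorem w31_41 (v t : K) (z : GG K) : X 31 v * (X 41 t * z) = X 41 t * (X 31 v * (X 45 (t * v) * z)) := by
  simpa [mul_assoc] using sw (L := [(45, 1, 1)]) (r := 41) (s := 31) (by decide +kernel) v t z
theorem w40_41 (v t : K) (z : GG K) : X 40 v * (X 41 t * z) = X 41 t * (X 40 v * z) := by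
  simpa [mul_assoc] using sw (L := []) (r := 41) (s := 40) (by decide +kernel) v t z
theorem w46_41 (v t : K) (z : GG K) : X 46 v * (X 41 t * z) = X 41 t * (X 46 v * z) := by
  simpa [mul_assoc] using sw (L := []) (r := 41) (s := 46) (by decide +kernel) v t z
theorem w37_41 (v t : K) (z : GG K) : X 37 v * (X 41 t * z) = X 41 t * (X 37 v * z) := by
  simpa [mul_assoc] using sw (L := []) (r := 41) (s := 37) (by decide +kernel) v t z
theorem w32_41 (v t : K) (z : GG K) : X 32 v * (X 41 t * z) = X 41 t * (X 32 v * (X 46 (t * v) * z)) := by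
  simpa [mul_assoc] using sw (L := [(46, 1, 1)]) (r := 41) (s := 32) (by decide +kernel) v t z
theorem w27_41 (v t : K) (z : GG K) : X 27 v * (X 41 t * z) = X 41 t * (X 27 v * z) := by
  simpa [mul_assoc] using sw (L := []) (r := 41) (s := 27) (by decide +kernel) v t z
theorem w25_41 (v t : K) (z : GG K) : X 25 v * (X 41 t * z) = X 41 t * (X 25 v * z) := by
  simpa [mul_assoc] using sw (L := []) (r := 41) (s := 25) (by decide +kernel) v t z
theorem w28_41 (v t : K) (z : GG K) : X 28 v * (X 41 t * z) = X 41 t * (X 28 v * z) := by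
  simpa [mul_assoc] using sw (L := []) (r := 41) (s := 28) (by decide +kernel) v t z
theorem w30_41 (v t : K) (z : GG K) : X 30 v * (X 41 t * z) = X 41 t * (X 30 v * z) := by
  simpa [mul_assoc] using sw (L := []) (r := 41) (s := 30) (by decide +kernel) v t z
theorem w47_44 (v t : K) (z : GG K) : X 47 v * (X 44 t * z) = X 44 t * (X 47 v * z) := by
  simpa [mul_assoc] using sw (L := []) (r := 44) (s := 47) (by decide +kernel) v t z
theorem w39_44 (v t : K) (z : GG K) : X 39 v * (X 44 t * z) = X 44 t * (X 39 v * z) := by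
  simpa [mul_assoc] using sw (L := []) (r := 44) (s := 39) (by decide +kernel) v t z
theorem w45_44 (v t : K) (z : GG K) : X 45 v * (X 44 t * z) = X 44 t * (X 45 v * z) := by
  simpa [mul_assoc] using sw (L := []) (r := 44) (s := 45) (by decide +kernel) v t z
theorem w35_44 (v t : K) (z : GG K) : X 35 v * (X 44 t * z) = X 44 t * (X 35 v * z) := by
  simpa [mul_assoc] using sw (L := []) (r := 44) (s := 35) (by decide +kernel) v t z
theorem w31_44 (v t : K) (z : GG K) : X 31 v * (X 44 t * z) = X 44 t * (X 31 v * z) := by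
  simpa [mul_assoc] using sw (L := []) (r := 44) (s := 31) (by decide +kernel) v t z
theorem w40_44 (v t : K) (z : GG K) : X 40 v * (X 44 t * z) = X 44 t * (X 40 v * z) := by
  simpa [mul_assoc] using sw (L := []) (r := 44) (s := 40) (by decide +kernel) v t z
theorem w46_44 (v t : K) (z : GG K) : X 46 v * (X 44 t * z) = X 44 t * (X 46 v * z) := by
  simpa [mul_assoc] using sw (L := []) (r := 44) (s := 46) (by decide +kernel) v t z
theorem w37_44 (v t : K) (z : GG K) : X 37 v * (X 44 t * z) = X 44 t * (X 37 v * z) := by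
  simpa [mul_assoc] using sw (L := []) (r := 44) (s := 37) (by decide +kernel) v t z
theorem w32_44 (v t : K) (z : GG K) : X 32 v * (X 44 t * z) = X 44 t * (X 32 v * z) := by
  simpa [mul_assoc] using sw (L := []) (r := 44) (s := 32) (by decide +kernel) v t z
theorem w27_44 (v t : K) (z : GG K) : X 27 v * (X 44 t * z) = X 44 t * (X 27 v * z) := by
  simpa [mul_assoc] using sw (L := []) (r := 44) (s := 27) (by decide +kernel) v t z
theorem w25_44 (v t : K) (z : GG K) : X 25 v * (X 44 t * z) = X 44 t * (X 25 v * z) := by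
  simpa [mul_assoc] using sw (L := []) (r := 44) (s := 25) (by decide +kernel) v t z
theorem w28_44 (v t : K) (z : GG K) : X 28 v * (X 44 t * z) = X 44 t * (X 28 v * z) := by
  simpa [mul_assoc] using sw (L := []) (r := 44) (s := 28) (by decide +kernel) v t z
theorem w30_44 (v t : K) (z : GG K) : X 30 v * (X 44 t * z) = X 44 t * (X 30 v * z) := by
  simpa [mul_assoc] using sw (L := []) (r := 44) (s := 30) (by decide +kernel) v t z
theorem w39_47 (v t : K) (z : GG K) : X 39 v * (X 47 t * z) = X 47 t * (X 39 v * z) := by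
  simpa [mul_assoc] using sw (L := []) (r := 47) (s := 39) (by decide +kernel) v t z
theorem w45_47 (v t : K) (z : GG K) : X 45 v * (X 47 t * z) = X 47 t * (X 45 v * z) := by
  simpa [mul_assoc] using sw (L := []) (r := 47) (s := 45) (by decide +kernel) v t z
theorem w35_47 (v t : K) (z : GG K) : X 35 v * (X 47 t * z) = X 47 t * (X 35 v * z) := by
  simpa [mul_assoc] using sw (L := []) (r := 47) (s := 35) (by decide +kernel) v t z
theorem w31_47 (v t : K) (z : GG K) : X 31 v * (X 47 t * z) = X 47 t * (X 31 v * z) := by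
  simpa [mul_assoc] using sw (L := []) (r := 47) (s := 31) (by decide +kernel) v t z
theorem w40_47 (v t : K) (z : GG K) : X 40 v * (X 47 t * z) = X 47 t * (X 40 v * z) := by
  simpa [mul_assoc] using sw (L := []) (r := 47) (s := 40) (by decide +kernel) v t z
theorem w46_47 (v t : K) (z : GG K) : X 46 v * (X 47 t * z) = X 47 t * (X 46 v * z) := by
  simpa [mul_assoc] using sw (L := []) (r := 47) (s := 46) (by decide +kernel) v t z
theorem w37_47 (v t : K) (z : GG K) : X 37 v * (X 47 t * z) = X 47 t * (X 37 v * z) := by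
  simpa [mul_assoc] using sw (L := []) (r := 47) (s := 37) (by decide +kernel) v t z
theorem w32_47 (v t : K) (z : GG K) : X 32 v * (X 47 t * z) = X 47 t * (X 32 v * z) := by
  simpa [mul_assoc] using sw (L := []) (r := 47) (s := 32) (by decide +kernel) v t z
theorem w27_47 (v t : K) (z : GG K) : X 27 v * (X 47 t * z) = X 47 t * (X 27 v * z) := by
  simpa [mul_assoc] using sw (L := []) (r := 47) (s := 27) (by decide +kernel) v t z
theorem w25_47 (v t : K) (z : GG K) : X 25 v * (X 47 t * z) = X 47 t * (X 25 v * z) := by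
  simpa [mul_assoc] using sw (L := []) (r := 47) (s := 25) (by decide +kernel) v t z
theorem w28_47 (v t : K) (z : GG K) : X 28 v * (X 47 t * z) = X 47 t * (X 28 v * z) := by
  simpa [mul_assoc] using sw (L := []) (r := 47) (s := 28) (by decide +kernel) v t z
theorem w30_47 (v t : K) (z : GG K) : X 30 v * (X 47 t * z) = X 47 t * (X 30 v * z) := by
  simpa [mul_assoc] using sw (L := []) (r := 47) (s := 30) (by decide +kernel) v t z
theorem w45_39 (v t : K) (z : GG K) : X 45 v * (X 39 t * z) = X 39 t * (X 45 v * z) := by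
  simpa [mul_assoc] using sw (L := []) (r := 39) (s := 45) (by decide +kernel) v t z
theorem w35_39 (v t : K) (z : GG K) : X 35 v * (X 39 t * z) = X 39 t * (X 35 v * z) := by
  simpa [mul_assoc] using sw (L := []) (r := 39) (s := 35) (by decide +kernel) v t z
theorem w31_39 (v t : K) (z : GG K) : X 31 v * (X 39 t * z) = X 39 t * (X 31 v * z) := by
  simpa [mul_assoc] using sw (L := []) (r := 39) (s := 31) (by decide +kernel) v t z
theorem w40_39 (v t : K) (z : GG K) : X 40 v * (X 39 t * z) = X 39 t * (X 40 v * z) := by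
  simpa [mul_assoc] using sw (L := []) (r := 39) (s := 40) (by decide +kernel) v t z
theorem w46_39 (v t : K) (z : GG K) : X 46 v * (X 39 t * z) = X 39 t * (X 46 v * z) := by
  simpa [mul_assoc] using sw (L := []) (r := 39) (s := 46) (by decide +kernel) v t z
theorem w37_39 (v t : K) (z : GG K) : X 37 v * (X 39 t * z) = X 39 t * (X 37 v * z) := by
  simpa [mul_assoc] using sw (L := []) (r := 39) (s := 37) (by decide +kernel) v t z
theorem w32_39 (v t : K) (z : GG K) : X 32 v * (X 39 t * z) = X 39 t * (X 32 v * z) := by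
  simpa [mul_assoc] using sw (L := []) (r := 39) (s := 32) (by decide +kernel) v t z
theorem w27_39 (v t : K) (z : GG K) : X 27 v * (X 39 t * z) = X 39 t * (X 27 v * (X 40 (t * v) * z)) := by
  simpa [mul_assoc] using sw (L := [(40, 1, 1)]) (r := 39) (s := 27) (by decide +kernel) v t z
theorem w25_39 (v t : K) (z : GG K) : X 25 v * (X 39 t * z) = X 39 t * (X 25 v * z) := by
  simpa [mul_assoc] using sw (L := []) (r := 39) (s := 25) (by decide +kernel) v t z
theorem w28_39 (v t : K) (z : GG K) : X 28 v * (X 39 t * z) = X 39 t * (X 28 v * z) := by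
  simpa [mul_assoc] using sw (L := []) (r := 39) (s := 28) (by decide +kernel) v t z
theorem w30_39 (v t : K) (z : GG K) : X 30 v * (X 39 t * z) = X 39 t * (X 30 v * z) := by
  simpa [mul_assoc] using sw (L := []) (r := 39) (s := 30) (by decide +kernel) v t z
theorem w35_45 (v t : K) (z : GG K) : X 35 v * (X 45 t * z) = X 45 t * (X 35 v * z) := by
  simpa [mul_assoc] using sw (L := []) (r := 45) (s := 35) (by decide +kernel) v t z
theorem w31_45 (v t : K) (z : GG K) : X 31 v * (X 45 t * z) = X 45 t * (X 31 v * z) := by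
  simpa [mul_assoc] using sw (L := []) (r := 45) (s := 31) (by decide +kernel) v t z
theorem w40_45 (v t : K) (z : GG K) : X 40 v * (X 45 t * z) = X 45 t * (X 40 v * z) := by
  simpa [mul_assoc] using sw (L := []) (r := 45) (s := 40) (by decide +kernel) v t z
theorem w46_45 (v t : K) (z : GG K) : X 46 v * (X 45 t * z) = X 45 t * (X 46 v * z) := by
  simpa [mul_assoc] using sw (L := []) (r := 45) (s := 46) (by decide +kernel) v t z
theorem w37_45 (v t : K) (z : GG K) : X 37 v * (X 45 t * z) = X 45 t * (X 37 v * z) := by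
  simpa [mul_assoc] using sw (L := []) (r := 45) (s := 37) (by decide +kernel) v t z
theorem w32_45 (v t : K) (z : GG K) : X 32 v * (X 45 t * z) = X 45 t * (X 32 v * z) := by
  simpa [mul_assoc] using sw (L := []) (r := 45) (s := 32) (by decide +kernel) v t z
theorem w27_45 (v t : K) (z : GG K) : X 27 v * (X 45 t * z) = X 45 t * (X 27 v * z) := by
  simpa [mul_assoc] using sw (L := []) (r := 45) (s := 27) (by decide +kernel) v t z
theorem w25_45 (v t : K) (z : GG K) : X 25 v * (X 45 t * z) = X 45 t * (X 25 v * (X 46 (t * v) * z)) := by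
  simpa [mul_assoc] using sw (L := [(46, 1, 1)]) (r := 45) (s := 25) (by decide +kernel) v t z
theorem w28_45 (v t : K) (z : GG K) : X 28 v * (X 45 t * z) = X 45 t * (X 28 v * z) := by
  simpa [mul_assoc] using sw (L := []) (r := 45) (s := 28) (by decide +kernel) v t z
theorem w30_45 (v t : K) (z : GG K) : X 30 v * (X 45 t * z) = X 45 t * (X 30 v * z) := by
  simpa [mul_assoc] using sw (L := []) (r := 45) (s := 30) (by decide +kernel) v t z
theorem w31_35 (v t : K) (z : GG K) : X 31 v * (X 35 t * z) = X 35 t * (X 31 v * (X 40 (t * v) * (X 46 (t ^ 2 * v) * z))) := by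
  simpa [mul_assoc] using sw (L := [(40, 1, 1), (46, 2, 1)]) (r := 35) (s := 31) (by decide +kernel) v t z
theorem w40_35 (v t : K) (z : GG K) : X 40 v * (X 35 t * z) = X 35 t * (X 40 v * z) := by
  simpa [mul_assoc] using sw (L := []) (r := 35) (s := 40) (by decide +kernel) v t z
theorem w46_35 (v t : K) (z : GG K) : X 46 v * (X 35 t * z) = X 35 t * (X 46 v * z) := by
  simpa [mul_assoc] using sw (L := []) (r := 35) (s := 46) (by decide +kernel) v t z
theorem w37_35 (v t : K) (z : GG K) : X 37 v * (X 35 t * z) = X 35 t * (X 37 v * z) := by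
  simpa [mul_assoc] using sw (L := []) (r := 35) (s := 37) (by decide +kernel) v t z
theorem w32_35 (v t : K) (z : GG K) : X 32 v * (X 35 t * z) = X 35 t * (X 32 v * z) := by
  simpa [mul_assoc] using sw (L := []) (r := 35) (s := 32) (by decide +kernel) v t z
theorem w27_35 (v t : K) (z : GG K) : X 27 v * (X 35 t * z) = X 35 t * (X 27 v * (X 37 (t * v) * z)) := by
  simpa [mul_assoc] using sw (L := [(37, 1, 1)]) (r := 35) (s := 27) (by decide +kernel) v t z
theorem w25_35 (v t : K) (z : GG K) : X 25 v * (X 35 t * z) = X 35 t * (X 25 v * z) := by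
  simpa [mul_assoc] using sw (L := []) (r := 35) (s := 25) (by decide +kernel) v t z
theorem w28_35 (v t : K) (z : GG K) : X 28 v * (X 35 t * z) = X 35 t * (X 28 v * z) := by
  simpa [mul_assoc] using sw (L := []) (r := 35) (s := 28) (by decide +kernel) v t z
theorem w30_35 (v t : K) (z : GG K) : X 30 v * (X 35 t * z) = X 35 t * (X 30 v * z) := by
  simpa [mul_assoc] using sw (L := []) (r := 35) (s := 30) (by decide +kernel) v t z
theorem w40_31 (v t : K) (z : GG K) : X 40 v * (X 31 t * z) = X 31 t * (X 40 v * z) := by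
  simpa [mul_assoc] using sw (L := []) (r := 31) (s := 40) (by decide +kernel) v t z
theorem w46_31 (v t : K) (z : GG K) : X 46 v * (X 31 t * z) = X 31 t * (X 46 v * z) := by
  simpa [mul_assoc] using sw (L := []) (r := 31) (s := 46) (by decide +kernel) v t z
theorem w37_31 (v t : K) (z : GG K) : X 37 v * (X 31 t * z) = X 31 t * (X 37 v * z) := by
  simpa [mul_assoc] using sw (L := []) (r := 31) (s := 37) (by decide +kernel) v t z
theorem w32_31 (v t : K) (z : GG K) : X 32 v * (X 31 t * z) = X 31 t * (X 32 v * z) := by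
  simpa [mul_assoc] using sw (L := []) (r := 31) (s := 32) (by decide +kernel) v t z
theorem w27_31 (v t : K) (z : GG K) : X 27 v * (X 31 t * z) = X 31 t * (X 27 v * z) := by
  simpa [mul_assoc] using sw (L := []) (r := 31) (s := 27) (by decide +kernel) v t z
theorem w25_31 (v t : K) (z : GG K) : X 25 v * (X 31 t * z) = X 31 t * (X 25 v * (X 32 (t * v) * z)) := by
  simpa [mul_assoc] using sw (L := [(32, 1, 1)]) (r := 31) (s := 25) (by decide +kernel) v t z
theorem w28_31 (v t : K) (z : GG K) : X 28 v * (X 31 t * z) = X 31 t * (X 28 v * z) := by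
  simpa [mul_assoc] using sw (L := []) (r := 31) (s := 28) (by decide +kernel) v t z
theorem w30_31 (v t : K) (z : GG K) : X 30 v * (X 31 t * z) = X 31 t * (X 30 v * z) := by
  simpa [mul_assoc] using sw (L := []) (r := 31) (s := 30) (by decide +kernel) v t z
theorem w46_40 (v t : K) (z : GG K) : X 46 v * (X 40 t * z) = X 40 t * (X 46 v * z) := by
  simpa [mul_assoc] using sw (L := []) (r := 40) (s := 46) (by decide +kernel) v t z
theorem w37_40 (v t : K) (z : GG K) : X 37 v * (X 40 t * z) = X 40 t * (X 37 v * z) := by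
  simpa [mul_assoc] using sw (L := []) (r := 40) (s := 37) (by decide +kernel) v t z
theorem w32_40 (v t : K) (z : GG K) : X 32 v * (X 40 t * z) = X 40 t * (X 32 v * z) := by
  simpa [mul_assoc] using sw (L := []) (r := 40) (s := 32) (by decide +kernel) v t z
theorem w27_40 (v t : K) (z : GG K) : X 27 v * (X 40 t * z) = X 40 t * (X 27 v * z) := by
  simpa [mul_assoc] using sw (L := []) (r := 40) (s := 27) (by decide +kernel) v t z
theorem w25_40 (v t : K) (z : GG K) : X 25 v * (X 40 t * z) = X 40 t * (X 25 v * z) := by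
  simpa [mul_assoc] using sw (L := []) (r := 40) (s := 25) (by decide +kernel) v t z
theorem w28_40 (v t : K) (z : GG K) : X 28 v * (X 40 t * z) = X 40 t * (X 28 v * z) := by
  simpa [mul_assoc] using sw (L := []) (r := 40) (s := 28) (by decide +kernel) v t z
theorem w30_40 (v t : K) (z : GG K) : X 30 v * (X 40 t * z) = X 40 t * (X 30 v * z) := by
  simpa [mul_assoc] using sw (L := []) (r := 40) (s := 30) (by decide +kernel) v t z
theorem w37_46 (v t : K) (z : GG K) : X 37 v * (X 46 t * z) = X 46 t * (X 37 v * z) := by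
  simpa [mul_assoc] using sw (L := []) (r := 46) (s := 37) (by decide +kernel) v t z
theorem w32_46 (v t : K) (z : GG K) : X 32 v * (X 46 t * z) = X 46 t * (X 32 v * z) := by
  simpa [mul_assoc] using sw (L := []) (r := 46) (s := 32) (by decide +kernel) v t z
theorem w27_46 (v t : K) (z : GG K) : X 27 v * (X 46 t * z) = X 46 t * (X 27 v * z) := by
  simpa [mul_assoc] using sw (L := []) (r := 46) (s := 27) (by decide +kernel) v t z
theorem w25_46 (v t : K) (z : GG K) : X 25 v * (X 46 t * z) = X 46 t * (X 25 v * z) := by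
  simpa [mul_assoc] using sw (L := []) (r := 46) (s := 25) (by decide +kernel) v t z
theorem w28_46 (v t : K) (z : GG K) : X 28 v * (X 46 t * z) = X 46 t * (X 28 v * z) := by
  simpa [mul_assoc] using sw (L := []) (r := 46) (s := 28) (by decide +kernel) v t z
theorem w30_46 (v t : K) (z : GG K) : X 30 v * (X 46 t * z) = X 46 t * (X 30 v * z) := by
  simpa [mul_assoc] using sw (L := []) (r := 46) (s := 30) (by decide +kernel) v t z
theorem w32_37 (v t : K) (z : GG K) : X 32 v * (X 37 t * z) = X 37 t * (X 32 v * z) := by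
  simpa [mul_assoc] using sw (L := []) (r := 37) (s := 32) (by decide +kernel) v t z
theorem w27_37 (v t : K) (z : GG K) : X 27 v * (X 37 t * z) = X 37 t * (X 27 v * z) := by
  simpa [mul_assoc] using sw (L := []) (r := 37) (s := 27) (by decide +kernel) v t z
theorem w25_37 (v t : K) (z : GG K) : X 25 v * (X 37 t * z) = X 37 t * (X 25 v * z) := by
  simpa [mul_assoc] using sw (L := []) (r := 37) (s := 25) (by decide +kernel) v t z
theorem w28_37 (v t : K) (z : GG K) : X 28 v * (X 37 t * z) = X 37 t * (X 28 v * z) := by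
  simpa [mul_assoc] using sw (L := []) (r := 37) (s := 28) (by decide +kernel) v t z
theorem w30_37 (v t : K) (z : GG K) : X 30 v * (X 37 t * z) = X 37 t * (X 30 v * z) := by
  simpa [mul_assoc] using sw (L := []) (r := 37) (s := 30) (by decide +kernel) v t z
theorem w27_32 (v t : K) (z : GG K) : X 27 v * (X 32 t * z) = X 32 t * (X 27 v * z) := by
  simpa [mul_assoc] using sw (L := []) (r := 32) (s := 27) (by decide +kernel) v t z
theorem w25_32 (v t : K) (z : GG K) : X 25 v * (X 32 t * z) = X 32 t * (X 25 v * z) := by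
  simpa [mul_assoc] using sw (L := []) (r := 32) (s := 25) (by decide +kernel) v t z
theorem w28_32 (v t : K) (z : GG K) : X 28 v * (X 32 t * z) = X 32 t * (X 28 v * z) := by
  simpa [mul_assoc] using sw (L := []) (r := 32) (s := 28) (by decide +kernel) v t z
theorem w30_32 (v t : K) (z : GG K) : X 30 v * (X 32 t * z) = X 32 t * (X 30 v * z) := by
  simpa [mul_assoc] using sw (L := []) (r := 32) (s := 30) (by decide +kernel) v t z
theorem w25_27 (v t : K) (z : GG K) : X 25 v * (X 27 t * z) = X 27 t * (X 25 v * (X 28 (t * v) * (X 30 (t ^ 2 * v) * z))) := by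
  simpa [mul_assoc] using sw (L := [(28, 1, 1), (30, 2, 1)]) (r := 27) (s := 25) (by decide +kernel) v t z
theorem w28_27 (v t : K) (z : GG K) : X 28 v * (X 27 t * z) = X 27 t * (X 28 v * z) := by
  simpa [mul_assoc] using sw (L := []) (r := 27) (s := 28) (by decide +kernel) v t z
theorem w30_27 (v t : K) (z : GG K) : X 30 v * (X 27 t * z) = X 27 t * (X 30 v * z) := by
  simpa [mul_assoc] using sw (L := []) (r := 27) (s := 30) (by decide +kernel) v t z
theorem w28_25 (v t : K) (z : GG K) : X 28 v * (X 25 t * z) = X 25 t * (X 28 v * z) := by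
  simpa [mul_assoc] using sw (L := []) (r := 25) (s := 28) (by decide +kernel) v t z
theorem w30_25 (v t : K) (z : GG K) : X 30 v * (X 25 t * z) = X 25 t * (X 30 v * z) := by
  simpa [mul_assoc] using sw (L := []) (r := 25) (s := 30) (by decide +kernel) v t z
theorem w30_28 (v t : K) (z : GG K) : X 30 v * (X 28 t * z) = X 28 t * (X 30 v * z) := by
  simpa [mul_assoc] using sw (L := []) (r := 28) (s := 30) (by decide +kernel) v t z

theorem ladd (r : ℕ) (a b : K) (z : GG K) : X r a * (X r b * z) = X r (a + b) * z := by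
  rw [← mul_assoc, cF.xu_add]

theorem mc {r : ℕ} {a b : K} {g h : GG K} (h1 : a = b) (h2 : g = h) : X r a * g = X r b * h := by rw [h1, h2]

variable {e} (he : ∀ x, e (e x) = x ^ 2)
include he

theorem El_mul (p q : Co K) : El e p * El e q = El e (mulC e p q) := by
  simp only [El, mul_assoc, one_mul, ladd, w24_33, w34_33, w26_33, w36_33, w42_33, w38_33, w43_33, w29_33, w41_33, w44_33, w47_33, w39_33, w45_33, w35_33, w31_33, w40_33, w46_33, w37_33, w32_33, w27_33, w25_33, w28_33, w30_33, w34_24, w26_24, w36_24, w42_24, w38_24, w43_24, w29_24, w41_24, w44_24, w47_24, w39_24, w45_24, w35_24, w31_24, w40_24, w46_24, w37_24, w32_24, w27_24, w25_24, w28_24, w30_24, w26_34, w36_34, w42_34, w38_34, w43_34, w29_34, w41_34, w44_34, w47_34, w39_34, w45_34, w35_34, w31_34, w40_34, w46_34, w37_34, w32_34, w27_34, w25_34, w28_34, w30_34, w36_26, w42_26, w38_26, w43_26, w29_26, w41_26, w44_26, w47_26, w39_26, w45_26, w35_26, w31_26, w40_26, w46_26, w37_26, w32_26, w27_26, w25_26, w28_26,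 w30_26, w42_36, w38_36, w43_36, w29_36, w41_36, w44_36, w47_36, w39_36, w45_36, w35_36, w31_36, w40_36, w46_36, w37_36, w32_36, w27_36, w25_36, w28_36, w30_36, w38_42, w43_42, w29_42, w41_42, w44_42, w47_42, w39_42, w45_42, w35_42, w31_42, w40_42, w46_42, w37_42, w32_42, w27_42, w25_42, w28_42, w30_42, w43_38, w29_38, w41_38, w44_38, w47_38, w39_38, w45_38, w35_38, w31_38, w40_38, w46_38, w37_38, w32_38, w27_38, w25_38, w28_38, w30_38, w29_43, w41_43, w44_43, w47_43, w39_43, w45_43, w35_43, w31_43, w40_43, w46_43, w37_43, w32_43, w27_43, w25_43, w28_43, w30_43, w41_29, w44_29, w47_29, w39_29, w45_29, w35_29, w31_29, w40_29, w46_29, w37_29, w32_29, w27_29, w25_29, w28_29, w30_29, w44_41, w47_41, w39_41, w45_41, w35_41, w31_41, w40_41, w46_41, w37_41, w32_41, w27_41, w25_41, w28_41, w30_41, w47_44, w39_44, w45_44, w35_44, w31_44, w40_44, w46_44, w37_44, w32_44, w27_44, w25_44, w28_44, w30_44, w39_47, w45_47, w35_47, w31_47, w40_47, w46_47, w37_47, w32_47, w27_47, w25_47, w28_47,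 w30_47, w45_39, w35_39, w31_39, w40_39, w46_39, w37_39, w32_39, w27_39, w25_39, w28_39, w30_39, w35_45, w31_45, w40_45, w46_45, w37_45, w32_45, w27_45, w25_45, w28_45, w30_45, w31_35, w40_35, w46_35, w37_35, w32_35, w27_35, w25_35, w28_35, w30_35, w40_31, w46_31, w37_31, w32_31, w27_31, w25_31, w28_31, w30_31, w46_40, w37_40, w32_40, w27_40, w25_40, w28_40, w30_40, w37_46, w32_46, w27_46, w25_46, w28_46, w30_46, w32_37, w27_37, w25_37, w28_37, w30_37, w27_32, w25_32, w28_32, w30_32, w25_27, w28_27, w30_27, w28_25, w30_25, w30_28]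
  repeat' refine mc ?_ ?_
  all_goals first | rfl | skip
  all_goals simp only [mulC, map_add, map_mul, map_pow, he]
  all_goals first | ring1 | grind

end Cfsg.Agent.Suzuki.F4Two
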