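import Mathlib

/-!
Additive, biadditive and quadratic maps of a finite field of characteristic two.
-/

set_option autoImplicit false

namespace Cfsg.Agent.Suzuki

variable {F : Type*} [Field F]

theorem linearIndependent_ringEquiv :
    LinearIndependent F (fun σ : F ≃+* F => ((σ : F →+* F) : F → F)) :=
  (linearIndependent_monoidHom F F).comp (fun σ : F ≃+* F => (σ.toRingHom.toMonoidHom : F →* F))
    (fun σ τ e => RingEquiv.ext fun x => DFunLike.congr_fun e x)

variable [Finite F] [CharP F 2]

theorem exists_additive_coeff [Fintype (F ≃+* F)] (f : F →+ F) :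
    ∃ c : (F ≃+* F) → F, ∀ x, f x = ∑ σ, c σ * σ x := by
  let := ZMod.algebra F 2
  let b := Module.finBasis (ZMod 2) F
  let Φ : ((F ≃+* F) → F) →ₗ[F] (Fin (Module.finrank (ZMod 2) F) → F) :=
    { toFun := fun c i => ∑ σ, c σ * σ (b i)
      map_add' := fun c c' => funext fun i => by simp [add_mul, Finset.sum_add_distrib]
      map_smul' := fun r c => funext fun i => by simp [Finset.mul_sum, mul_assoc] }
  have hext : ∀ g g' : F →+ F, (∀ i, g (b i) = g' (b i)) → ∀ x, g x = g' x := by
    intro g g' hh x
    exact LinearMap.congr_fun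
      (b.ext (f₁ := g.toZModLinearMap 2) (f₂ := g'.toZModLinearMap 2) hh) x
  let mk : ((F ≃+* F) → F) → (F →+ F) := fun c =>
    { toFun := fun x => ∑ σ, c σ * σ x
      map_zero' := by simp
      map_add' := fun x y => by simp [mul_add, Finset.sum_add_distrib] }
  have hinj : Function.Injective Φ := by
    intro c c' e
    have h1 := hext (mk c) (mk c') (fun i => congrFun e i)
    have h2 := Fintype.linearIndependent_iff.1 (linearIndependent_ringEquiv (F := F)) (c - c')
      (funext fun x => by
        simp only [Finset.sum_apply, Pi.smul_apply, smul_eq_mul, Pi.sub_apply, sub_mul,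
          Finset.sum_sub_distrib, Pi.zero_apply, RingEquiv.coe_toRingHom]
        exact sub_eq_zero.2 (h1 x))
    exact funext fun σ => sub_eq_zero.1 (h2 σ)
  have hdim : Fintype.card (F ≃+* F) = Module.finrank (ZMod 2) F := by
    rw [← Nat.card_eq_fintype_card, ← IsGalois.card_aut_eq_finrank (ZMod 2) F]
    exact Nat.card_congr
      { toFun := fun σ => AlgEquiv.ofRingEquiv (f := σ) fun x =>
          RingHom.congr_fun (RingHom.ext_zmod ((σ : F →+* F).comp (algebraMap (ZMod 2) F))
            (algebraMap (ZMod 2) F)) x
        invFun := fun σ => σ.toRingEquiv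
        left_inv := fun σ => rfl
        right_inv := fun σ => rfl }
  have hsurj : Function.Surjective Φ :=
    (LinearMap.injective_iff_surjective_of_finrank_eq_finrank (by
      rw [Module.finrank_pi, Module.finrank_pi, hdim, Fintype.card_fin])).1 hinj
  obtain ⟨c, hc⟩ := hsurj (fun i => f (b i))
  exact ⟨c, fun x => hext f (mk c) (fun i => (congrFun hc i).symm) x⟩

theorem coeff_unique [Fintype (F ≃+* F)] {c c' : (F ≃+* F) → F}
    (hh : ∀ x, ∑ σ, c σ * σ x = ∑ σ, c' σ * σ x) : c = c' := by
  have h2 := Fintype.linearIndependent_iff.1 (linearIndependent_ringEquiv (F := F)) (c - c')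
    (funext fun x => by
      simp only [Finset.sum_apply, Pi.smul_apply, smul_eq_mul, Pi.sub_apply, sub_mul,
        Finset.sum_sub_distrib, Pi.zero_apply, RingEquiv.coe_toRingHom]
      exact sub_eq_zero.2 (hh x))
  exact funext fun σ => sub_eq_zero.1 (h2 σ)

theorem exists_biadditive_coeff [Fintype (F ≃+* F)] (B : F →+ F →+ F) :
    ∃ c : (F ≃+* F) × (F ≃+* F) → F, ∀ x y, B x y = ∑ p, c p * (p.1 x * p.2 y) := by
  choose c hc using fun y => exists_additive_coeff (B.flip y)
  have hadd : ∀ y y', c (y + y') = c y + c y' := fun y y' => coeff_unique fun x => by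
    have h1 := hc (y + y') x
    have h2 := hc y x
    have h3 := hc y' x
    simp only [AddMonoidHom.flip_apply] at h1 h2 h3
    simp only [Pi.add_apply, add_mul, Finset.sum_add_distrib, ← h1, ← h2, ← h3, map_add]
  choose d hd using fun σ : F ≃+* F => exists_additive_coeff
    (AddMonoidHom.mk' (fun y => c y σ) (fun y y' => congrFun (hadd y y') σ))
  refine ⟨fun p => d p.1 p.2, fun x y => ?_⟩
  have h1 := hc y x
  simp only [AddMonoidHom.flip_apply] at h1
  rw [h1, Fintype.sum_prod_type]
  refine Finset.sum_congr rfl fun σ _ => ?_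
  have h2 := hd σ y
  simp only [AddMonoidHom.mk'_apply] at h2
  rw [h2, Finset.sum_mul]
  exact Finset.sum_congr rfl fun τ _ => by ring

theorem exists_quadratic_coeff [Fintype (F ≃+* F)] (q : F → F)
    (hq : ∀ x y z : F, q (x + y + z) + q (x + y) + q (x + z) + q (y + z) + q x + q y + q z = 0) :
    ∃ c : (F ≃+* F) × (F ≃+* F) → F, ∀ x, q x = ∑ p, c p * (p.1 x * p.2 x) := by
  classical
  have h2 : (2 : F) = 0 := by exact_mod_cast CharP.cast_eq_zero F 2
  let := ZMod.algebra F 2
  let b := Module.finBasis (ZMod 2) F
  have hq0 : q 0 = 0 := by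
    have := hq 0 0 0
    simp only [add_zero] at this
    linear_combination this - 3 * q 0 * h2
  let C : F →ₗ[ZMod 2] F →ₗ[ZMod 2] F := b.constr (ZMod 2) fun i => b.constr (ZMod 2) fun j =>
    if i = j then q (b i) else if i < j then q (b i + b j) + q (b i) + q (b j) else 0
  let Bm : F →+ F →+ F :=
    AddMonoidHom.mk' (fun x => AddMonoidHom.mk' (fun y => q (x + y) + q x + q y) (fun y y' => by
      have := hq x y y'
      rw [add_assoc x y y'] at this
      linear_combination this - (q (x + y) + q (x + y') + 2 * q x + q y + q y' - q x) * h2))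
      (fun x x' => AddMonoidHom.ext fun y => by
        have := hq x x' y
        simp only [AddMonoidHom.mk'_apply, AddMonoidHom.add_apply]
        linear_combination this - (q (x + y) + q (x' + y) + q x + q x' + 2 * q y - q y) * h2)
  let CC : F →+ F →+ F :=
    AddMonoidHom.mk' (fun x => (C x).toAddMonoidHom) (fun x x' => by
      ext y
      simp)
  -- the polar forms agree
  have hpol : ∀ x y, Bm x y = CC x y + CC y x := by
    have key : ∀ i j, Bm (b i) (b j) = CC (b i) (b j) + CC (b j) (b i) := by
      intro i j
      have hC : ∀ i j, CC (b i) (b j) =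
          if i = j then q (b i) else if i < j then q (b i + b j) + q (b i) + q (b j) else 0 := by
        intro i j
        show (C (b i)) (b j) = _
        rw [Module.Basis.constr_basis, Module.Basis.constr_basis]
      rw [hC, hC]
      show q (b i + b j) + q (b i) + q (b j) = _
      rcases lt_trichotomy i j with hij | rfl | hij
      · simp [hij.ne, hij, hij.ne', hij.not_gt]
      · rw [show b i + b i = (2 : F) * b i by ring, h2, zero_mul, hq0, if_pos rfl]; ring
      · simp [hij.ne', hij, hij.ne, hij.not_gt, add_comm (b j)]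
        ring
    intro x y
    have e1 : ∀ i, ∀ y, Bm (b i) y = CC (b i) y + CC y (b i) := fun i y =>
      LinearMap.congr_fun (b.ext (f₁ := (Bm (b i)).toZModLinearMap 2)
        (f₂ := (CC (b i) + CC.flip (b i)).toZModLinearMap 2) (key i)) y
    exact LinearMap.congr_fun (b.ext (f₁ := (Bm.flip y).toZModLinearMap 2)
      (f₂ := (CC.flip y + CC y).toZModLinearMap 2) (fun i => e1 i y)) x
  let D : F →+ F := AddMonoidHom.mk' (fun x => q x + CC x x) (fun x y => by
    have e := hpol x y
    simp only [Bm, AddMonoidHom.mk'_apply] at e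
    simp only [map_add, AddMonoidHom.add_apply]
    linear_combination e + (CC x y + CC y x - q x - q y) * h2)
  have hD : ∀ i, D (b i) = 0 := fun i => by
    show q (b i) + CC (b i) (b i) = 0
    rw [show CC (b i) (b i) = q (b i) by
      show (C (b i)) (b i) = _
      rw [Module.Basis.constr_basis, Module.Basis.constr_basis, if_pos rfl]]
    linear_combination q (b i) * h2
  have hD0 : ∀ x, D x = 0 := fun x =>
    LinearMap.congr_fun (b.ext (f₁ := D.toZModLinearMap 2) (f₂ := 0) hD) x
  obtain ⟨c, hc⟩ := exists_biadditive_coeff CC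
  refine ⟨c, fun x => ?_⟩
  have := hD0 x
  simp only [D, AddMonoidHom.mk'_apply] at this
  rw [← hc x x]
  linear_combination this - CC x x * h2

end Cfsg.Agent.Suzuki
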