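import Cfsg.Agent.Suzuki.ReeEllData

/-!
Counting the elements of the small Ree group: the two classes of cyclic tori of orders `q ∓ r + 1`.
-/

set_option autoImplicit false

universe u

namespace Cfsg.Agent.Suzuki.PSLTorus

open Cfsg.Agent.Linear
open scoped MatrixGroups

variable {F : Type*} [Field F] [Fintype F]

local notation "SL" => Matrix.SpecialLinearGroup (Fin 2) F
local notation "PSL" => Matrix.ProjectiveSpecialLinearGroup (Fin 2) F

/-- trace two means unipotent -/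
theorem cube_of_trace_two [CharP F 3] {g : SL} (htr : g.1 0 0 + g.1 1 1 = 2) : g ^ 3 = 1 := by
  have hdet := det_eq g
  have h3' : (3 : F) = 0 := by exact_mod_cast CharP.cast_eq_zero F 3
  have hCH : g.1 * g.1 = (2 : F) • g.1 - (1 : Matrix (Fin 2) (Fin 2) F) := by
    ext i j
    fin_cases i <;> fin_cases j <;> simp [Matrix.mul_apply, Fin.sum_univ_two]
    · linear_combination -hdet + g.1 0 0 * htr
    · linear_combination g.1 0 1 * htr
    · linear_combination g.1 1 0 * htr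
    · linear_combination -hdet + g.1 1 1 * htr
  refine Subtype.ext ?_
  rw [Matrix.SpecialLinearGroup.coe_pow, pow_succ, pow_two, hCH, sub_mul, one_mul, Matrix.smul_mul, hCH,
    Matrix.SpecialLinearGroup.coe_one]
  ext i j
  simp [Matrix.sub_apply, Matrix.smul_apply, Matrix.one_apply]
  linear_combination (g.1 i j - (if i = j then (1 : F) else 0) : F) * h3'

/-- three-elements have trace two -/
theorem trace_two_of_pow [CharP F 3] {g : SL} {k : ℕ} (hg : g ^ 3 ^ k = 1) : g.1 0 0 + g.1 1 1 = 2 := by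
  have hdet := det_eq g
  have h0 : (g.1 - 1) ^ 3 ^ k = 0 := by
    rw [sub_pow_char_pow_of_commute _ _ (Commute.one_right g.1), one_pow, ← Matrix.SpecialLinearGroup.coe_pow, hg,
      Matrix.SpecialLinearGroup.coe_one, sub_self]
  have h1 : (g.1 - 1).det = 0 := by
    have := congrArg Matrix.det h0
    rw [Matrix.det_pow, Matrix.det_zero] at this
    exact (pow_eq_zero_iff (pow_ne_zero _ (by norm_num))).1 this
  rw [Matrix.det_fin_two] at h1
  simp at h1
  linear_combination -h1 + hdet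

/-- the number of three-elements -/
theorem card_three [CharP F 3] (h2 : (2 : F) ≠ 0) :
    Nat.card {v : PSL // v ^ 9 = 1} = Fintype.card F ^ 2 := by
  classical
  have e1 : Nat.card {g : SL // g.1 0 0 + g.1 1 1 = 2} = Nat.card {v : PSL // v ^ 9 = 1} := by
    refine Nat.card_eq_of_bijective (fun g => ⟨toPSL g.1, by
      rw [← map_pow, show (9 : ℕ) = 3 * 3 from rfl, pow_mul, cube_of_trace_two g.2, one_pow, map_one]⟩) ⟨?_, ?_⟩
    · intro a b e
      rcases toPSL_eq_iff.1 (congrArg Subtype.val e : toPSL a.1 = toPSL b.1) with e' | e'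
      · exact Subtype.ext e'
      · exfalso
        have ha := a.2
        rw [e'] at ha
        simp at ha
        have hb := b.2
        have h4 : (2 : F) * 2 = 0 := by linear_combination -ha - hb
        exact h2 (mul_self_eq_zero.1 h4)
    · rintro ⟨v, hv⟩
      obtain ⟨g, rfl, hg⟩ := exists_lift (n := 9) (by decide) hv
      exact ⟨⟨g, trace_two_of_pow (k := 2) (by norm_num; exact hg)⟩, rfl⟩
  rw [← e1, pow_two, ← Fintype.card_prod, ← Nat.card_eq_fintype_card]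
  let f : F × F → {g : SL // g.1 0 0 + g.1 1 1 = 2} := fun p =>
    if hy : p.2 = 0 then ⟨⟨!![1, 0; p.1, 1], by simp [Matrix.det_fin_two]⟩, by simp; norm_num⟩
    else ⟨⟨!![1 + p.1, p.2; -p.1 ^ 2 / p.2, 1 - p.1], by
      simp [Matrix.det_fin_two]; field_simp; ring⟩, by simp; ring⟩
  refine (Nat.card_eq_of_bijective f ⟨?_, ?_⟩).symm
  · rintro ⟨x, y⟩ ⟨x', y'⟩ e
    have e00 := congrArg (fun g : {g : SL // g.1 0 0 + g.1 1 1 = 2} => g.1.1 0 0) e
    have e01 := congrArg (fun g : {g : SL // g.1 0 0 + g.1 1 1 = 2} => g.1.1 0 1) e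
    have e10 := congrArg (fun g : {g : SL // g.1 0 0 + g.1 1 1 = 2} => g.1.1 1 0) e
    simp only [f] at e00 e01 e10
    split_ifs at e00 e01 e10 with a b <;> simp at e00 e01 e10 a <;> subst_vars <;> simp_all
  · rintro ⟨g, hg⟩
    have hdet := det_eq g
    by_cases hy : g.1 0 1 = 0
    · refine ⟨(g.1 1 0, 0), Subtype.ext (Subtype.ext ?_)⟩
      have h00 : g.1 0 0 = 1 := by
        have : (g.1 0 0 - 1) ^ 2 = 0 := by linear_combination g.1 0 0 * hg - hdet - g.1 1 0 * hy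
        exact sub_eq_zero.1 (pow_eq_zero_iff (by norm_num) |>.1 this)
      have h11 : g.1 1 1 = 1 := by linear_combination hg - h00
      simp only [f, dif_pos rfl]
      ext i j
      fin_cases i <;> fin_cases j <;> simp [h00, h11, hy]
    · refine ⟨(g.1 0 0 - 1, g.1 0 1), Subtype.ext (Subtype.ext ?_)⟩
      simp only [f, dif_neg hy]
      ext i j
      fin_cases i <;> fin_cases j <;> simp
      · rw [div_eq_iff hy]; linear_combination hdet - g.1 0 0 * hg
      · linear_combination -hg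

end Cfsg.Agent.Suzuki.PSLTorus

namespace Cfsg.Agent.Suzuki.Ree

open Cfsg.Lie Cfsg.Agent.Chev Cfsg.Agent.Linear
open scoped Matrix MatrixGroups Pointwise

section Generic

variable {G : Type*} [Group G] [Finite G]

/-- elements conjugate into a trivial intersection subgroup -/
theorem card_conjugates (T : Subgroup G)
    (hTI : ∀ y ∈ T, y ≠ 1 → ∀ g : G, g * y * g⁻¹ ∈ T → g ∈ Subgroup.normalizer (T : Set G)) :
    Nat.card {z : G // z ≠ 1 ∧ ∃ g : G, g * z * g⁻¹ ∈ T} * Nat.card ↥(Subgroup.normalizer (T : Set G)) =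
      Nat.card G * (Nat.card ↥T - 1) := by
  classical
  have e : Nat.card {y : ↥T // y ≠ 1} = Nat.card ↥T - 1 := by
    let := Fintype.ofFinite ↥T
    rw [Nat.card_eq_fintype_card, Fintype.card_subtype_compl, Fintype.card_subtype_eq, Nat.card_eq_fintype_card]
  rw [← e, ← Nat.card_prod, ← Nat.card_prod]
  let F : {z : G // z ≠ 1 ∧ ∃ g : G, g * z * g⁻¹ ∈ T} × ↥(Subgroup.normalizer (T : Set G)) → G × {y : ↥T // y ≠ 1} :=
    fun p => (p.2.1 * p.1.2.2.choose,
      ⟨⟨p.2.1 * (p.1.2.2.choose * p.1.1 * p.1.2.2.choose⁻¹) * p.2.1⁻¹,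
        (Subgroup.mem_normalizer_iff.1 p.2.2 _).1 p.1.2.2.choose_spec⟩, fun e => p.1.2.1 (by
          have e' := congrArg Subtype.val e
          simp only [Subgroup.coe_one, conj_eq_one_iff] at e'
          exact e')⟩)
  refine Nat.card_eq_of_bijective F ⟨?_, ?_⟩
  · rintro ⟨z, n⟩ ⟨z', n'⟩ e
    have e1 := congrArg Prod.fst e
    have e2 := congrArg (fun q : G × {y : ↥T // y ≠ 1} => q.2.1.1) e
    dsimp only [F] at e1 e2
    have hz : z = z' := by
      apply Subtype.ext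
      calc z.1 = (n.1 * z.2.2.choose)⁻¹ * (n.1 * (z.2.2.choose * z.1 * z.2.2.choose⁻¹) * n.1⁻¹) *
            (n.1 * z.2.2.choose) := by group
        _ = (n'.1 * z'.2.2.choose)⁻¹ * (n'.1 * (z'.2.2.choose * z'.1 * z'.2.2.choose⁻¹) * n'.1⁻¹) *
            (n'.1 * z'.2.2.choose) := by rw [e2, e1]
        _ = z'.1 := by group
    subst hz
    exact Prod.ext rfl (Subtype.ext (mul_right_cancel e1))
  · rintro ⟨g, ⟨⟨y, hy⟩, hy1⟩⟩
    have hy1' : y ≠ 1 := fun e => hy1 (Subtype.ext e)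
    let z : {z : G // z ≠ 1 ∧ ∃ g : G, g * z * g⁻¹ ∈ T} := ⟨g⁻¹ * y * g, fun e => hy1' (by
      calc y = g * (g⁻¹ * y * g) * g⁻¹ := by group
        _ = 1 := by rw [e, mul_one, mul_inv_cancel]), g, by group; exact hy⟩
    set c := z.2.2.choose
    have hc : c * z.1 * c⁻¹ ∈ T := z.2.2.choose_spec
    have hn : g * c⁻¹ ∈ Subgroup.normalizer (T : Set G) := by
      refine hTI _ hc (fun e => z.2.1 (conj_eq_one_iff.1 e)) _ ?_
      rw [show g * c⁻¹ * (c * z.1 * c⁻¹) * (g * c⁻¹)⁻¹ = g * z.1 * g⁻¹ by group,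
        show g * z.1 * g⁻¹ = g * (g⁻¹ * y * g) * g⁻¹ from rfl]
      group
      exact hy
    refine ⟨(z, ⟨g * c⁻¹, hn⟩), Prod.ext (inv_mul_cancel_right g c) (Subtype.ext (Subtype.ext ?_))⟩
    show g * c⁻¹ * (c * (g⁻¹ * y * g) * c⁻¹) * (g * c⁻¹)⁻¹ = y
    group

end Generic

variable {K : Type u} [Field K] {m : ℕ} (h : Ctx K m)

/-- `G¹` -/
local notation "G₁" => twistedG2 K (3 ^ m)
/-- `B¹` -/
local notation "B₁" => chevG2.borelSubgroup K ⊓ twistedG2 K (3 ^ m)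
/-- `H¹` -/
local notation "H₁" => chevG2.diagonalSubgroup K ⊓ twistedG2 K (3 ^ m)
/-- `U¹` -/
local notation "U₁" => chevG2.posUnipotent K ⊓ twistedG2 K (3 ^ m)
/-- `PSL₂` -/
local notation "P₂" => Matrix.ProjectiveSpecialLinearGroup (Fin 2) K

include h in
/-- every element is of exactly one kind -/
theorem kinds (hm : 1 ≤ m) (x : ↥G₁) :
    2 ∣ orderOf x ∨ x ^ 9 = 1 ∨ x ^ nSplit m = 1 ∨ x ^ nEll m = 1 ∨ x ^ nCox m = 1 := by
  have := h.finite
  by_cases h2 : 2 ∣ orderOf x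
  · exact Or.inl h2
  refine Or.inr ?_
  by_cases h3 : 3 ∣ orderOf x
  · refine Or.inl ?_
    set r := orderOf x with hr
    obtain ⟨a, b, hb, hab⟩ := Nat.exists_eq_pow_mul_and_not_dvd (orderOf_pos x).ne' 3 (by norm_num)
    rw [← hr] at hab
    set u := x ^ (r / 3) with hu
    have huo : orderOf u = 3 := by
      rw [hu, orderOf_pow_of_dvd (Nat.div_ne_zero_iff.2 ⟨by norm_num, Nat.le_of_dvd (orderOf_pos x) h3⟩)
        (Nat.div_dvd_of_dvd h3), ← hr, Nat.div_div_self h3 (orderOf_pos x).ne']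
    have h1 : x ^ 3 ^ a = 1 := by
      refine centralizer_three h (x := u) ?_ ?_ ((Commute.refl x).pow_pow (3 ^ a) (r / 3)).eq ?_
      · rw [show (9 : ℕ) = orderOf u * 3 by rw [huo], pow_mul, pow_orderOf_eq_one, one_pow]
      · intro e; rw [e, orderOf_one] at huo; norm_num at huo
      · rw [orderOf_pow_of_dvd (pow_ne_zero _ (by norm_num)) (Dvd.intro _ hab.symm), ← hr, hab,
          Nat.mul_div_cancel_left _ (by positivity)]
        refine Nat.Coprime.mul_right (m := 2) (n := 3) ?_ ?_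
        · exact ((Nat.prime_two.coprime_iff_not_dvd).2 fun e => h2 (hab ▸ Dvd.dvd.mul_left e _)).symm
        · exact ((Nat.prime_three.coprime_iff_not_dvd).2 hb).symm
    exact (three_element h h1).1
  by_cases hx1 : x = 1
  · exact Or.inl (by rw [hx1, one_pow])
  refine Or.inr ?_
  obtain ⟨p, hp, hpd, k, hk⟩ := exists_prime_power_elem hx1
  have hy1 : x ^ k ≠ 1 := fun e => hp.ne_one (by rw [← hk, e, orderOf_one])
  have hxC : x ∈ Subgroup.centralizer {x ^ k} :=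
    Subgroup.mem_centralizer_singleton_iff.2 ((Commute.refl x).pow_right k).eq
  have hdvd := Subgroup.orderOf_dvd_natCard _ hxC
  have hco2 : Nat.Coprime (orderOf x) 2 := ((Nat.prime_two.coprime_iff_not_dvd).2 h2).symm
  obtain ⟨j, hj, e1, e2, -⟩ := arith m
  have hpG : p ∣ 2 ^ 3 * 3 ^ (3 * (2 * m + 1)) * nSplit m * nEll m * nCox m := by
    have := hpd.trans (orderOf_dvd_natCard x)
    rw [card_eq h, ← pow_mul, mul_comm (2 * m + 1) 3] at this
    exact this
  have hpow : ∀ n, p ∣ n → (x ^ k) ^ n = 1 := fun n hn => orderOf_dvd_iff_pow_eq_one.1 (by rw [hk]; exact hn)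
  rcases hp.dvd_mul.1 hpG with hpG | hpG
  · rcases hp.dvd_mul.1 hpG with hpG | hpG
    · rcases hp.dvd_mul.1 hpG with hpG | hpG
      · rcases hp.dvd_mul.1 hpG with hpG | hpG
        · exact absurd ((Nat.prime_dvd_prime_iff_eq hp Nat.prime_two).1 (hp.dvd_of_dvd_pow hpG) ▸ hpd) h2
        · exact absurd ((Nat.prime_dvd_prime_iff_eq hp Nat.prime_three).1 (hp.dvd_of_dvd_pow hpG) ▸ hpd) h3
      · rw [(split_centralizer h hy1 (hpow _ hpG)).2.2.1, show 3 ^ (2 * m + 1) - 1 = 2 * nSplit m by omega] at hdvd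
        exact Or.inl (orderOf_dvd_iff_pow_eq_one.1 (hco2.dvd_of_dvd_mul_left hdvd))
    · rw [(ell_centralizer h hm hy1 (hpow _ hpG)).2.1, q_add_one h, show (4 : ℕ) = 2 ^ 2 by norm_num] at hdvd
      exact Or.inr (Or.inl (orderOf_dvd_iff_pow_eq_one.1 ((hco2.pow_right 2).dvd_of_dvd_mul_left hdvd)))
  · exact Or.inr (Or.inr (orderOf_dvd_iff_pow_eq_one.1 (hdvd.trans (cox_centralizer h hm hy1 (hpow _ hpG)).2.2)))

/-! ### The three-elements, the involutions and the two simple kinds of tori -/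

include h in
theorem exists_of_prime {n : ℕ} (hn : 1 < n) (hd : n ∣ Nat.card ↥G₁) : ∃ y : ↥G₁, y ≠ 1 ∧ y ^ n = 1 := by
  have := h.finite
  have : Fact n.minFac.Prime := ⟨Nat.minFac_prime hn.ne'⟩
  obtain ⟨y, hy⟩ := exists_prime_orderOf_dvd_card' n.minFac ((Nat.minFac_dvd n).trans hd)
  refine ⟨y, fun e => ?_, orderOf_dvd_iff_pow_eq_one.1 (hy ▸ Nat.minFac_dvd n)⟩
  rw [e, orderOf_one] at hy
  exact (Nat.minFac_prime hn.ne').ne_one hy.symm

include h in
theorem dvd_card (n : ℕ) (hn : n = nSplit m ∨ n = nEll m ∨ n = nCox m) : n ∣ Nat.card ↥G₁ := by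
  rw [card_eq h]
  rcases hn with rfl | rfl | rfl
  · exact Dvd.dvd.mul_right (Dvd.dvd.mul_right (Dvd.intro_left _ rfl) _) _
  · exact Dvd.dvd.mul_right (Dvd.intro_left _ rfl) _
  · exact Dvd.intro_left _ rfl

include h in
theorem card_three_elements :
    Nat.card {z : ↥G₁ // z ≠ 1 ∧ z ^ 9 = 1} * ((3 ^ (2 * m + 1)) ^ 3 * (3 ^ (2 * m + 1) - 1)) =
      Nat.card ↥G₁ * ((3 ^ (2 * m + 1)) ^ 3 - 1) := by
  have := h.finite
  have := h.char
  set T := (U₁).subgroupOf G₁ with hT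
  have hTc : Nat.card ↥T = (3 ^ (2 * m + 1)) ^ 3 := by
    rw [hT, Nat.card_congr (Subgroup.subgroupOfEquivOfLe inf_le_right).toEquiv, card_unipotent h]
  have hBn : ∀ b : ↥G₁, b ∈ (B₁).subgroupOf G₁ → b ∈ Subgroup.normalizer (T : Set ↥G₁) := by
    intro b hb
    have hb' := Subgroup.mem_subgroupOf.1 hb
    refine Subgroup.mem_normalizer_iff.2 fun x => ⟨fun hx => ?_, fun hx => ?_⟩
    · exact Subgroup.mem_subgroupOf.2 (borel_normalises h hb' (Subgroup.mem_subgroupOf.1 hx))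
    · have := borel_normalises h (inv_mem hb') (Subgroup.mem_subgroupOf.1 hx)
      refine Subgroup.mem_subgroupOf.2 ?_
      rwa [Subgroup.coe_mul, Subgroup.coe_mul, Subgroup.coe_inv,
        show b.1⁻¹ * (b.1 * x.1 * b.1⁻¹) * b.1⁻¹⁻¹ = x.1 by group] at this
  have hti : ∀ y ∈ T, y ≠ 1 → ∀ g : ↥G₁, g * y * g⁻¹ ∈ T → g ∈ (B₁).subgroupOf G₁ := by
    intro y hy hy1 g hg
    have hgy := Subgroup.mem_subgroupOf.1 hg
    rw [Subgroup.coe_mul, Subgroup.coe_mul, Subgroup.coe_inv] at hgy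
    have := ti h (inv_mem g.2) (Subgroup.mem_subgroupOf.1 hy) (by rw [inv_inv]; exact hgy)
      (fun e => hy1 (Subtype.ext e))
    exact Subgroup.mem_subgroupOf.2 (by simpa using inv_mem this)
  have hN : Subgroup.normalizer (T : Set ↥G₁) = (B₁).subgroupOf G₁ := by
    refine le_antisymm (fun g hg => ?_) hBn
    have hne : T ≠ ⊥ := fun e => by
      rw [e, Subgroup.card_bot] at hTc
      have : 3 ≤ 3 ^ (2 * m + 1) := Nat.le_self_pow (by omega) 3
      nlinarith [Nat.le_self_pow (show (3 : ℕ) ≠ 0 by norm_num) (3 ^ (2 * m + 1))]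
    obtain ⟨y, hy, hy1⟩ := (Subgroup.bot_or_exists_ne_one T).resolve_left hne
    exact hti y hy hy1 g ((Subgroup.mem_normalizer_iff.1 hg y).1 hy)
  have e := card_conjugates T (fun y hy hy1 g hg => hN ▸ hti y hy hy1 g hg)
  rw [hN, hTc, Nat.card_congr (Subgroup.subgroupOfEquivOfLe inf_le_right).toEquiv, card_borel_twisted h] at e
  rw [← e]
  congr 1
  refine Nat.card_congr (Equiv.subtypeEquivRight fun z => and_congr_right fun _ => ⟨fun hz => ?_, ?_⟩)
  · obtain ⟨-, g, hg⟩ := three_element h (k := 2) (by norm_num; exact hz)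
    exact ⟨g, Subgroup.mem_subgroupOf.2 ⟨hg, (g * z * g⁻¹).2⟩⟩
  · rintro ⟨g, hg⟩
    obtain ⟨k, hk⟩ := (IsPGroup.of_card (hTc.trans (pow_mul 3 _ 3).symm)) ⟨_, hg⟩
    have hk' : (g * z * g⁻¹) ^ 3 ^ k = 1 := congrArg Subtype.val hk
    rw [conj_pow, conj_eq_one_iff] at hk'
    exact (three_element h hk').1

include h in
theorem card_involutions (hm : 1 ≤ m) :
    Nat.card {t : ↥G₁ // orderOf t = 2} * (8 * 3 ^ (2 * m + 1) * nSplit m * nEll m) = Nat.card ↥G₁ := by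
  have := h.finite
  obtain ⟨b, -, hb1, hb2⟩ := exists_involution h
  have hb : orderOf b = 2 := orderOf_eq_prime (by rw [pow_two, hb2]) hb1
  set T := Subgroup.zpowers b with hT
  have hmem : ∀ y ∈ T, y ≠ 1 → y = b := by
    intro y hy hy1
    obtain ⟨i, rfl⟩ := Subgroup.mem_zpowers_iff.1 hy
    have hb2' : b ^ (2 : ℤ) = 1 := by rw [zpow_two, hb2]
    rcases Int.even_or_odd i with ⟨l, rfl⟩ | ⟨l, rfl⟩
    · exact absurd (by rw [← two_mul, zpow_mul, hb2', one_zpow]) hy1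
    · rw [zpow_add, zpow_mul, hb2', one_zpow, one_mul, zpow_one]
  have hN : Subgroup.normalizer (T : Set ↥G₁) = Subgroup.centralizer {b} := by
    refine le_antisymm (fun g hg => ?_) (fun g hg => Subgroup.mem_normalizer_iff.2 fun x => ?_)
    · rw [Subgroup.mem_centralizer_singleton_iff, ← mul_inv_eq_iff_eq_mul]
      exact hmem _ ((Subgroup.mem_normalizer_iff.1 hg b).1 (Subgroup.mem_zpowers b))
        (fun e => hb1 (conj_eq_one_iff.1 e))
    · rw [Subgroup.mem_centralizer_singleton_iff] at hg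
      constructor
      · intro hx
        obtain ⟨i, rfl⟩ := Subgroup.mem_zpowers_iff.1 hx
        rw [((show Commute g b from hg).zpow_right i).eq, mul_inv_cancel_right]
        exact Subgroup.zpow_mem_zpowers _ _
      · intro hx
        obtain ⟨i, hi⟩ := Subgroup.mem_zpowers_iff.1 hx
        have : x = g⁻¹ * b ^ i * g := by rw [hi]; group
        rw [this, mul_assoc, ← ((show Commute g b from hg).zpow_right i).eq, inv_mul_cancel_left]
        exact Subgroup.zpow_mem_zpowers _ _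
  have e := card_conjugates T (fun y hy hy1 g hg => by
    obtain rfl := hmem y hy hy1
    rw [hN, Subgroup.mem_centralizer_singleton_iff, ← mul_inv_eq_iff_eq_mul]
    exact hmem _ hg (fun e => hy1 (conj_eq_one_iff.1 e)))
  rw [hN, card_centralizer_eq h hm hb, Nat.card_zpowers, hb] at e
  rw [show Nat.card ↥G₁ * (2 - 1) = Nat.card ↥G₁ from mul_one _] at e
  rw [← e]
  congr 1
  refine Nat.card_congr (Equiv.subtypeEquivRight fun z => ⟨fun hz => ?_, ?_⟩)
  · refine ⟨fun e => by rw [e, orderOf_one] at hz; norm_num at hz, ?_⟩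
    obtain ⟨g, hg⟩ := isConj_iff.1 (involutions_conj_all h hm hz hb)
    exact ⟨g, hg ▸ Subgroup.mem_zpowers b⟩
  · rintro ⟨hz1, g, hg⟩
    have := hmem _ hg (fun e => hz1 (conj_eq_one_iff.1 e))
    rw [← this, ← MulAut.conj_apply, MulEquiv.orderOf_eq] at hb
    exact hb

include h in
theorem card_split (hm : 1 ≤ m) :
    Nat.card {z : ↥G₁ // z ≠ 1 ∧ z ^ nSplit m = 1} * (2 * (3 ^ (2 * m + 1) - 1)) =
      Nat.card ↥G₁ * (nSplit m - 1) := by
  have := h.finite
  have hcomm : ∀ y : ↥G₁, y ≠ 1 → y ^ nSplit m = 1 → _ := fun y h1 h2 => (split_centralizer h h1 h2).1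
  have hge := (nSplit_ge hm).1
  obtain ⟨y, hy1, hy⟩ := exists_of_prime h (by omega) (dvd_card h _ (Or.inl rfl))
  obtain ⟨A, hA⟩ := exists_torusOf hcomm hy1 hy
  obtain ⟨hcyc, hcard, hnorm⟩ := split_data h hm hy1 hy hA
  have e := card_conjugates A (fun x hx hx1 g hg => by
    obtain ⟨-, -, hy'⟩ := normalizer_torus hcomm hx1 ((hA x).1 hx).2 (A := A) (fun z => by
      rw [hA, centralizer_torus hcomm hy1 hy ((hA x).1 hx).1 ((hA x).1 hx).2 hx1]) hcyc
    exact hy' g hg)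
  rw [hnorm, hcard] at e
  rw [← e]
  congr 1
  obtain ⟨-, -, -, g0, hg0⟩ := split_centralizer h hy1 hy
  refine Nat.card_congr (Equiv.subtypeEquivRight fun z => and_congr_right fun hz1 => ⟨fun hz => ?_, ?_⟩)
  · obtain ⟨-, -, -, g1, hg1⟩ := split_centralizer h hz1 hz
    refine ⟨g0 * g1⁻¹, (hA _).2 ⟨?_, by rw [conj_pow, conj_eq_one_iff]; exact hz⟩⟩
    have hzC : z ∈ Subgroup.centralizer {z} := Subgroup.mem_centralizer_singleton_iff.2 rfl
    rw [hg1, Subgroup.mem_map] at hzC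
    obtain ⟨d, hd, rfl⟩ := hzC
    rw [hg0, Subgroup.mem_map]
    refine ⟨d, hd, ?_⟩
    show g0 * d * g0⁻¹ = g0 * g1⁻¹ * (g1 * d * g1⁻¹) * (g0 * g1⁻¹)⁻¹
    group
  · rintro ⟨g, hg⟩
    have := ((hA _).1 hg).2
    rwa [conj_pow, conj_eq_one_iff] at this

include h in
/-- tori of order `(q+1)/4` are conjugate -/
theorem ell_conj (hm : 1 ≤ m) {y y' : ↥G₁} (hy1 : y ≠ 1) (hy : y ^ nEll m = 1) (hy1' : y' ≠ 1)
    (hy' : y' ^ nEll m = 1) : ∃ g : ↥G₁, g * y * g⁻¹ ∈ Subgroup.centralizer {y'} := by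
  classical
  have := h.finite
  have := h.char
  let := Fintype.ofFinite K
  have hn : Odd (nEll m) := (odd_three m).2.1
  have hq4 : Fintype.card K + 1 = 4 * nEll m := by rw [← Nat.card_eq_fintype_card, h.card, q_add_one h]
  have hpair : ∀ z : ↥G₁, z ≠ 1 → z ^ nEll m = 1 → ∃ t s : ↥G₁, orderOf t = 2 ∧ orderOf s = 2 ∧ s ≠ t ∧
      s * t = t * s ∧ z * t = t * z ∧ z * s = s * z := by
    intro z hz1 hz
    obtain ⟨hc, -, hinv⟩ := ell_centralizer h hm hz1 hz
    let := Fintype.ofFinite {x : ↥(Subgroup.centralizer {z}) // x ^ 2 = 1}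
    have h3 : 1 < Nat.card {x : {x : ↥(Subgroup.centralizer {z}) // x ^ 2 = 1} // x ≠ ⟨1, one_pow _⟩} := by
      rw [Nat.card_eq_fintype_card, Fintype.card_subtype_compl, Fintype.card_subtype_eq, ← Nat.card_eq_fintype_card,
        hinv]
      norm_num
    have := Finite.one_lt_card_iff_nontrivial.1 h3
    obtain ⟨⟨⟨a, ha⟩, ha1⟩, ⟨⟨b, hb⟩, hb1⟩, hab⟩ :=
      exists_pair_ne {x : {x : ↥(Subgroup.centralizer {z}) // x ^ 2 = 1} // x ≠ ⟨1, one_pow _⟩}
    refine ⟨a.1, b.1, orderOf_eq_prime (congrArg Subtype.val ha) (fun e => ha1 (Subtype.ext (Subtype.ext e))),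
      orderOf_eq_prime (congrArg Subtype.val hb) (fun e => hb1 (Subtype.ext (Subtype.ext e))),
      fun e => hab (Subtype.ext (Subtype.ext (Subtype.ext e.symm))), hc _ b.2 _ a.2,
      (Subgroup.mem_centralizer_singleton_iff.1 a.2).symm, (Subgroup.mem_centralizer_singleton_iff.1 b.2).symm⟩
  obtain ⟨t, s, ht, hs, hst, hstc, hyt, hys⟩ := hpair y hy1 hy
  obtain ⟨t', s', ht', hs', hst', hstc', hyt', hys'⟩ := hpair y' hy1' hy'
  obtain ⟨k, hk⟩ := isConj_iff.1 (involutions_conj_all h hm ht ht')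
  obtain ⟨ι, hinj, hr, hι⟩ := card_centralizer_involution h hm ht'
  obtain ⟨z', v', w', hyv', hv', -, hsw', hw', hvw'⟩ := involution_coord h hm hinj hr hι hy1' hy' hs' hys' hstc' hst' hyt'
  have hcj : ∀ a b : ↥G₁, a * b = b * a → k * a * k⁻¹ * (k * b * k⁻¹) = k * b * k⁻¹ * (k * a * k⁻¹) := fun a b e => by
    calc k * a * k⁻¹ * (k * b * k⁻¹) = k * (a * b) * k⁻¹ := by group
      _ = k * (b * a) * k⁻¹ := by rw [e]
      _ = _ := by group
  have hinjc : ∀ a : ↥G₁, orderOf (k * a * k⁻¹) = orderOf a := fun a => by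
    rw [← MulAut.conj_apply, MulEquiv.orderOf_eq]
  obtain ⟨z, v, w, hyv, hv, -, hsw, hw, hvw⟩ := involution_coord h hm hinj hr hι
    (y := k * y * k⁻¹) (fun e => hy1 (conj_eq_one_iff.1 e)) (by rw [conj_pow, conj_eq_one_iff]; exact hy)
    (s := k * s * k⁻¹) (by rw [hinjc]; exact hs) (hcj _ _ hys) (by rw [← hk]; exact hcj _ _ hstc)
    (by rw [← hk]; exact fun e => hst (mul_left_cancel (mul_right_cancel e))) (by rw [← hk]; exact hcj _ _ hyt)
  obtain ⟨u, hu⟩ := isConj_iff.1 (Linear.involutions_conj (PSLTorus.two_ne (PSLTorus.q_mod hn hq4)) w w' hw hw')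
  refine ⟨ι (1, u) * k, Subgroup.mem_centralizer_singleton_iff.2 ?_⟩
  have e : ι (1, u) * k * y * (ι (1, u) * k)⁻¹ = ι (1, u * v * u⁻¹) := by
    rw [show ι (1, u) * k * y * (ι (1, u) * k)⁻¹ = ι (1, u) * (k * y * k⁻¹) * (ι (1, u))⁻¹ by group, hyv,
      ← map_inv, ← map_mul, ← map_mul]
    simp
  have hvw2 : u * v * u⁻¹ * w' = w' * (u * v * u⁻¹) := by
    rw [← hu]
    calc u * v * u⁻¹ * (u * w * u⁻¹) = u * (v * w) * u⁻¹ := by group
      _ = u * (w * v) * u⁻¹ := by rw [hvw]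
      _ = _ := by group
  rw [e, hyv', ← map_mul, ← map_mul, Prod.mk_mul_mk, Prod.mk_mul_mk,
    PSLTorus.commute_of_commute_involution hn hq4 hw' (by rw [conj_pow, hv, mul_one, mul_inv_cancel]) hv' hvw2 hvw']

include h in
theorem card_ell (hm : 1 ≤ m) :
    Nat.card {z : ↥G₁ // z ≠ 1 ∧ z ^ nEll m = 1} * (6 * (3 ^ (2 * m + 1) + 1)) =
      Nat.card ↥G₁ * (nEll m - 1) := by
  have := h.finite
  have hcomm : ∀ y : ↥G₁, y ≠ 1 → y ^ nEll m = 1 → _ := fun y h1 h2 => (ell_centralizer h hm h1 h2).1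
  have hge := (nSplit_ge hm).2.1
  obtain ⟨y, hy1, hy⟩ := exists_of_prime h (by omega) (dvd_card h _ (Or.inr (Or.inl rfl)))
  obtain ⟨A, hA⟩ := exists_torusOf hcomm hy1 hy
  obtain ⟨hcyc, hcard⟩ := ell_data h hm hy1 hy hA
  have e := card_conjugates A (fun x hx hx1 g hg => by
    obtain ⟨-, -, hy'⟩ := normalizer_torus hcomm hx1 ((hA x).1 hx).2 (A := A) (fun z => by
      rw [hA, centralizer_torus hcomm hy1 hy ((hA x).1 hx).1 ((hA x).1 hx).2 hx1]) hcyc
    exact hy' g hg)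
  rw [card_normalizer_ell h hm hy1 hy hA, hcard] at e
  rw [← e]
  congr 1
  refine Nat.card_congr (Equiv.subtypeEquivRight fun z => and_congr_right fun hz1 => ⟨fun hz => ?_, ?_⟩)
  · obtain ⟨g, hg⟩ := ell_conj h hm hz1 hz hy1 hy
    exact ⟨g, (hA _).2 ⟨hg, by rw [conj_pow, conj_eq_one_iff]; exact hz⟩⟩
  · rintro ⟨g, hg⟩
    have := ((hA _).1 hg).2
    rwa [conj_pow, conj_eq_one_iff] at this

/-! ### The elements of even order -/

include h in
theorem order_parity {x : ↥G₁} (hm : 1 ≤ m) (hx : 2 ∣ orderOf x) : ∃ r, Odd r ∧ orderOf x = 2 * r := by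
  have := h.finite
  refine ⟨orderOf x / 2, ?_, (Nat.mul_div_cancel' hx).symm⟩
  rw [← Nat.not_even_iff_odd, even_iff_two_dvd]
  intro h2
  have h4 : 2 * 2 ∣ orderOf x := (Nat.mul_dvd_mul_left 2 h2).trans (dvd_of_eq (Nat.mul_div_cancel' hx))
  have ho : orderOf (x ^ (orderOf x / 4)) = 4 := by
    rw [orderOf_pow_of_dvd (Nat.div_ne_zero_iff.2 ⟨by norm_num, Nat.le_of_dvd (orderOf_pos x) h4⟩)
      (Nat.div_dvd_of_dvd h4), Nat.div_div_self h4 (orderOf_pos x).ne']
  have h2' : orderOf (x ^ (orderOf x / 4)) ∣ 2 := orderOf_dvd_of_pow_eq_one (by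
    rw [pow_two]
    refine two_element_sq h hm (k := 2) ?_
    rw [show (2 : ℕ) ^ 2 = orderOf (x ^ (orderOf x / 4)) by rw [ho]; norm_num]
    exact pow_orderOf_eq_one _)
  rw [ho] at h2'
  norm_num at h2'

include h in
/-- exponent nine elements commuting with an involution -/
theorem card_three_commuting (hm : 1 ≤ m) {t : ↥G₁} (ht : orderOf t = 2) :
    Nat.card {x : ↥G₁ // x * t = t * x ∧ x ^ 9 = 1} = (3 ^ (2 * m + 1)) ^ 2 := by
  have := h.finite
  have := h.char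
  let := Fintype.ofFinite K
  have hn : Odd (nEll m) := (odd_three m).2.1
  have hq4 : Fintype.card K + 1 = 4 * nEll m := by rw [← Nat.card_eq_fintype_card, h.card, q_add_one h]
  obtain ⟨ι, hinj, hr, -⟩ := card_centralizer_involution h hm ht
  rw [← h.card, Nat.card_eq_fintype_card (α := K), ← PSLTorus.card_three (F := K) (PSLTorus.two_ne (PSLTorus.q_mod hn hq4))]
  refine (Nat.card_eq_of_bijective (fun v => ⟨ι (1, v.1), Subgroup.mem_centralizer_singleton_iff.1 (hr ▸ ⟨_, rfl⟩),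
    by rw [← map_pow, Prod.pow_mk, one_pow, v.2]; exact map_one ι⟩) ⟨?_, ?_⟩).symm
  · intro a b e
    exact Subtype.ext (congrArg Prod.snd (hinj (congrArg Subtype.val e)) :)
  · rintro ⟨x, hc, hx⟩
    obtain ⟨v, hv, rfl⟩ := iota_odd h hinj hr (n := 9) (by decide) hx hc
    exact ⟨⟨v, hv⟩, rfl⟩

include h in
theorem card_split_commuting (hm : 1 ≤ m) {z : ↥G₁} (hz1 : z ≠ 1) (hz : z ^ nSplit m = 1) :
    Nat.card {t : ↥G₁ // orderOf t = 2 ∧ z * t = t * z} = 1 := by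
  have := h.finite
  obtain ⟨-, hcyc, hcard, -⟩ := split_centralizer h hz1 hz
  obtain ⟨j, hj, e1, -, -⟩ := arith m
  let := hcyc.commGroup
  have e : Nat.card {x : ↥(powMonoidHom 2 : ↥(Subgroup.centralizer {z}) →* ↥(Subgroup.centralizer {z})).ker // x ≠ 1} = 1 := by
    let := Fintype.ofFinite ↥(powMonoidHom 2 : ↥(Subgroup.centralizer {z}) →* ↥(Subgroup.centralizer {z})).ker
    classical
    rw [Nat.card_eq_fintype_card, Fintype.card_subtype_compl, Fintype.card_subtype_eq, ← Nat.card_eq_fintype_card,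
      IsCyclic.card_powMonoidHom_ker, hcard, show 3 ^ (2 * m + 1) - 1 = nSplit m * 2 by omega, Nat.gcd_mul_left_left]
  refine Eq.trans ?_ e
  refine Nat.card_congr ⟨fun t => ⟨⟨⟨t.1, Subgroup.mem_centralizer_singleton_iff.2 t.2.2.symm⟩,
      MonoidHom.mem_ker.2 (Subtype.ext (show t.1 ^ 2 = 1 by have := pow_orderOf_eq_one t.1; rwa [t.2.1] at this))⟩,
        fun e => ?_⟩,
    fun x => ⟨x.1.1.1, orderOf_eq_prime (congrArg Subtype.val (MonoidHom.mem_ker.1 x.1.2))
      (fun e => x.2 (Subtype.ext (Subtype.ext e))), (Subgroup.mem_centralizer_singleton_iff.1 x.1.1.2).symm⟩,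
    fun _ => rfl, fun _ => rfl⟩
  have h1 : t.1 = 1 := congrArg (fun y : ↥(powMonoidHom 2 : ↥(Subgroup.centralizer {z}) →* _).ker => y.1.1) e
  have h2 := t.2.1
  rw [h1, orderOf_one] at h2
  norm_num at h2

include h in
theorem card_ell_commuting (hm : 1 ≤ m) {z : ↥G₁} (hz1 : z ≠ 1) (hz : z ^ nEll m = 1) :
    Nat.card {t : ↥G₁ // orderOf t = 2 ∧ z * t = t * z} = 3 := by
  have := h.finite
  obtain ⟨-, -, hinv⟩ := ell_centralizer h hm hz1 hz
  classical
  have e : Nat.card {x : {x : ↥(Subgroup.centralizer {z}) // x ^ 2 = 1} // x ≠ ⟨1, one_pow _⟩} = 3 := by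
    let := Fintype.ofFinite {x : ↥(Subgroup.centralizer {z}) // x ^ 2 = 1}
    rw [Nat.card_eq_fintype_card, Fintype.card_subtype_compl, Fintype.card_subtype_eq, ← Nat.card_eq_fintype_card, hinv]
  refine Eq.trans ?_ e
  refine Nat.card_congr ⟨fun t => ⟨⟨⟨t.1, Subgroup.mem_centralizer_singleton_iff.2 t.2.2.symm⟩,
      Subtype.ext (show t.1 ^ 2 = 1 by have := pow_orderOf_eq_one t.1; rwa [t.2.1] at this)⟩, fun e => ?_⟩,
    fun x => ⟨x.1.1.1, orderOf_eq_prime (congrArg Subtype.val x.1.2)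
      (fun e => x.2 (Subtype.ext (Subtype.ext e))), (Subgroup.mem_centralizer_singleton_iff.1 x.1.1.2).symm⟩,
    fun _ => rfl, fun _ => rfl⟩
  have h1 : t.1 = 1 := congrArg (fun y : {x : ↥(Subgroup.centralizer {z}) // x ^ 2 = 1} => y.1.1) e
  have h2 := t.2.1
  rw [h1, orderOf_one] at h2
  norm_num at h2

/-- double counting -/
theorem card_pairs {α β : Type*} [Finite α] [Finite β] (R : α → β → Prop) (c : ℕ) (hc : ∀ a, Nat.card {b // R a b} = c) :
    Nat.card {p : α × β // R p.1 p.2} = Nat.card α * c := by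
  classical
  let := Fintype.ofFinite α
  rw [Nat.card_congr (Equiv.subtypeProdEquivSigmaSubtype R), Nat.card_sigma, Finset.sum_congr rfl fun a _ => hc a,
    Finset.sum_const, Finset.card_univ, smul_eq_mul, Nat.card_eq_fintype_card]

include h in
/-- the elements of even order -/
theorem card_even (hm : 1 ≤ m) :
    Nat.card {x : ↥G₁ // 2 ∣ orderOf x} =
      Nat.card {t : ↥G₁ // orderOf t = 2} * (3 ^ (2 * m + 1)) ^ 2 +
        Nat.card {z : ↥G₁ // z ≠ 1 ∧ z ^ nSplit m = 1} + 3 * Nat.card {z : ↥G₁ // z ≠ 1 ∧ z ^ nEll m = 1} := by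
  classical
  have := h.finite
  let R : {t : ↥G₁ // orderOf t = 2} → ↥G₁ → Prop := fun t x => x * t.1 = t.1 * x ∧ Odd (orderOf x)
  have hbij : Nat.card {p : {t : ↥G₁ // orderOf t = 2} × ↥G₁ // R p.1 p.2} = Nat.card {x : ↥G₁ // 2 ∣ orderOf x} := by
    refine Nat.card_eq_of_bijective (fun p => ⟨p.1.1.1 * p.1.2, ?_⟩) ⟨?_, ?_⟩
    · rw [(show Commute p.1.1.1 p.1.2 from p.2.1.symm).orderOf_mul_eq_mul_orderOf_of_coprime
        (by rw [p.1.1.2]; exact (Nat.coprime_two_left).2 p.2.2), p.1.1.2]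
      exact Dvd.intro _ rfl
    · rintro ⟨⟨⟨t, ht⟩, x⟩, hc, hx⟩ ⟨⟨⟨t', ht'⟩, x'⟩, hc', hx'⟩ e
      have e' : t * x = t' * x' := congrArg Subtype.val e
      have hpow : ∀ s w : ↥G₁, orderOf s = 2 → w * s = s * w → w ^ (orderOf x * orderOf x') = 1 →
          (s * w) ^ (orderOf x * orderOf x') = s := by
        intro s w hs hsw hw
        obtain ⟨l, hl⟩ := hx.mul hx'
        have hs2 : s ^ 2 = 1 := by have := pow_orderOf_eq_one s; rwa [hs] at this
        rw [(show Commute s w from hsw.symm).mul_pow, hw, mul_one, hl, pow_succ, pow_mul, hs2, one_pow, one_mul]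
      have htt : t = t' := by
        rw [← hpow t x ht hc (by rw [pow_mul, pow_orderOf_eq_one, one_pow]), e',
          hpow t' x' ht' hc' (by rw [mul_comm, pow_mul, pow_orderOf_eq_one, one_pow])]
      subst htt
      simp only [Subtype.mk.injEq, Prod.mk.injEq, true_and]
      exact mul_left_cancel e'
    · rintro ⟨x, hx⟩
      obtain ⟨r, hr, hor⟩ := order_parity h hm hx
      have ht : orderOf (x ^ r) = 2 := by
        rw [orderOf_pow_of_dvd hr.pos.ne' (hor ▸ Dvd.intro_left _ rfl), hor, Nat.mul_div_cancel _ hr.pos]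
      have ht2 : (x ^ r) * (x ^ r) = 1 := by
        have := pow_orderOf_eq_one (x ^ r); rwa [ht, pow_two] at this
      refine ⟨⟨(⟨x ^ r, ht⟩, x ^ (r + 1)), ((Commute.refl x).pow_pow _ _).eq, ?_⟩, Subtype.ext ?_⟩
      · have : (x ^ (r + 1)) ^ r = 1 := by
          obtain ⟨l, rfl⟩ := hr
          rw [← pow_mul, show (2 * l + 1 + 1) * (2 * l + 1) = 2 * (2 * l + 1) * (l + 1) by ring, pow_mul, ← hor,
            pow_orderOf_eq_one, one_pow]
        exact hr.of_dvd_nat (orderOf_dvd_of_pow_eq_one this)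
      · show x ^ r * x ^ (r + 1) = x
        rw [pow_succ, ← mul_assoc, ht2, one_mul]
  rw [← hbij]
  -- split the odd parts by kind
  have hkind : ∀ p : {t : ↥G₁ // orderOf t = 2} × ↥G₁, R p.1 p.2 ↔
      (p.2 * p.1.1 = p.1.1 * p.2 ∧ p.2 ^ 9 = 1) ∨ ((p.2 * p.1.1 = p.1.1 * p.2 ∧ p.2 ≠ 1 ∧ p.2 ^ nSplit m = 1) ∨
        (p.2 * p.1.1 = p.1.1 * p.2 ∧ p.2 ≠ 1 ∧ p.2 ^ nEll m = 1)) := by
    rintro ⟨t, x⟩
    constructor
    · rintro ⟨hc, ho⟩
      rcases kinds h hm x with e | e | e | e | e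
      · exact absurd e (Odd.not_two_dvd_nat ho)
      · exact Or.inl ⟨hc, e⟩
      · by_cases hx1 : x = 1
        · exact Or.inl ⟨hc, by rw [show x = 1 from hx1, one_pow]⟩
        exact Or.inr (Or.inl ⟨hc, hx1, e⟩)
      · by_cases hx1 : x = 1
        · exact Or.inl ⟨hc, by rw [show x = 1 from hx1, one_pow]⟩
        exact Or.inr (Or.inr ⟨hc, hx1, e⟩)
      · by_cases hx1 : x = 1
        · exact Or.inl ⟨hc, by rw [show x = 1 from hx1, one_pow]⟩
        exfalso
        obtain ⟨-, -, hd⟩ := cox_centralizer h hm hx1 e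
        have ht : t.1 ∈ Subgroup.centralizer {x} := Subgroup.mem_centralizer_singleton_iff.2 hc.symm
        have := (Subgroup.orderOf_dvd_natCard _ ht).trans hd
        rw [t.2] at this
        exact Odd.not_two_dvd_nat (odd_three m).2.2 this
    · rintro (⟨hc, e⟩ | ⟨hc, -, e⟩ | ⟨hc, -, e⟩) <;> refine ⟨hc, ?_⟩
      · exact (show Odd 9 by decide).of_dvd_nat (orderOf_dvd_of_pow_eq_one e)
      · exact (odd_three m).1.of_dvd_nat (orderOf_dvd_of_pow_eq_one e)
      · exact (odd_three m).2.1.of_dvd_nat (orderOf_dvd_of_pow_eq_one e)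
  rw [Nat.card_congr (Equiv.subtypeEquivRight hkind)]
  have hdis : ∀ x : ↥G₁, ∀ a b, Nat.Coprime a b → x ^ a = 1 → x ^ b = 1 → x = 1 := fun x a b hab ha hb => by
    have := (pow_gcd_eq_one (a := x)).2 ⟨ha, hb⟩
    rwa [hab, pow_one] at this
  have c9 : ∀ n, ¬ 3 ∣ n → Nat.Coprime 9 n := fun n hn => by
    rw [show (9 : ℕ) = 3 ^ 2 by norm_num]; exact ((Nat.prime_three.coprime_iff_not_dvd).2 hn).pow_left 2
  rw [Nat.card_congr (subtypeOrEquiv _ _ ?_), Nat.card_sum, Nat.card_congr (subtypeOrEquiv _ _ ?_), Nat.card_sum,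
    ← Nat.add_assoc]
  rotate_left
  · rw [Pi.disjoint_iff]
    intro p
    refine disjoint_iff_inf_le.2 ?_
    rintro ⟨h12, h34⟩
    exact h12.2.1 (hdis _ _ _ (coprime_split_ell m) h12.2.2 h34.2.2)
  · rw [Pi.disjoint_iff]
    intro p
    refine disjoint_iff_inf_le.2 ?_
    rintro ⟨h0, h1 | h1⟩
    · exact h1.2.1 (hdis _ _ _ (c9 _ (three_not_dvd m).1) h0.2 h1.2.2)
    · exact h1.2.1 (hdis _ _ _ (c9 _ (three_not_dvd m).2.1) h0.2 h1.2.2)
  congr 1
  congr 1
  · exact card_pairs (fun (t : {t : ↥G₁ // orderOf t = 2}) x => x * t.1 = t.1 * x ∧ x ^ 9 = 1) _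
      fun t => card_three_commuting h hm t.2
  · rw [← mul_one (Nat.card {z : ↥G₁ // z ≠ 1 ∧ z ^ nSplit m = 1}),
      ← card_pairs (fun (z : {z : ↥G₁ // z ≠ 1 ∧ z ^ nSplit m = 1}) t => orderOf t = 2 ∧ z.1 * t = t * z.1) _
        fun z => card_split_commuting h hm z.2.1 z.2.2]
    exact Nat.card_congr ⟨fun p => ⟨(⟨p.1.2, p.2.2⟩, p.1.1.1), p.1.1.2, p.2.1⟩,
      fun p => ⟨(⟨p.1.2, p.2.1⟩, p.1.1.1), p.2.2, p.1.1.2⟩, fun _ => rfl, fun _ => rfl⟩
  · rw [mul_comm 3, ← card_pairs (fun (z : {z : ↥G₁ // z ≠ 1 ∧ z ^ nEll m = 1}) t => orderOf t = 2 ∧ z.1 * t = t * z.1) _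
        fun z => card_ell_commuting h hm z.2.1 z.2.2]
    exact Nat.card_congr ⟨fun p => ⟨(⟨p.1.2, p.2.2⟩, p.1.1.1), p.1.1.2, p.2.1⟩,
      fun p => ⟨(⟨p.1.2, p.2.1⟩, p.1.1.1), p.2.2, p.1.1.2⟩, fun _ => rfl, fun _ => rfl⟩

include h in
set_option maxHeartbeats 1600000 in
/-- the number of elements whose order divides `q² − q + 1` -/
theorem card_cox (hm : 1 ≤ m) :
    6 * Nat.card {z : ↥G₁ // z ≠ 1 ∧ z ^ nCox m = 1} * nCox m + Nat.card ↥G₁ * (2 * (3 ^ (2 * m + 1) + 1)) =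
      Nat.card ↥G₁ * (2 * nCox m) := by
  classical
  have := h.finite
  let := Fintype.ofFinite ↥G₁
  let q' : ℕ := 3 ^ (2 * m + 1)
  set U := Nat.card {z : ↥G₁ // z ≠ 1 ∧ z ^ 9 = 1}
  set I := Nat.card {t : ↥G₁ // orderOf t = 2}
  set S := Nat.card {z : ↥G₁ // z ≠ 1 ∧ z ^ nSplit m = 1}
  set E := Nat.card {z : ↥G₁ // z ≠ 1 ∧ z ^ nEll m = 1}
  set X := Nat.card {z : ↥G₁ // z ≠ 1 ∧ z ^ nCox m = 1}
  set Ev := Nat.card {x : ↥G₁ // 2 ∣ orderOf x} with hEv
  -- the partition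
  have hsum : Nat.card ↥G₁ = 1 + U + Ev + S + E + X := by
    let P : Fin 6 → ↥G₁ → Prop := ![fun x => x = 1, fun x => x ≠ 1 ∧ x ^ 9 = 1, fun x => 2 ∣ orderOf x,
      fun x => x ≠ 1 ∧ x ^ nSplit m = 1, fun x => x ≠ 1 ∧ x ^ nEll m = 1, fun x => x ≠ 1 ∧ x ^ nCox m = 1]
    have hdis : ∀ x : ↥G₁, ∀ a b, Nat.Coprime a b → x ≠ 1 → x ^ a = 1 → x ^ b = 1 → False := fun x a b hab h1 ha hb => by
      have := (pow_gcd_eq_one (a := x)).2 ⟨ha, hb⟩
      rw [hab, pow_one] at this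
      exact h1 this
    have c9 : ∀ n, ¬ 3 ∣ n → Nat.Coprime 9 n := fun n hn => by
      rw [show (9 : ℕ) = 3 ^ 2 by norm_num]; exact ((Nat.prime_three.coprime_iff_not_dvd).2 hn).pow_left 2
    obtain ⟨o1, o2, o3⟩ := odd_three m
    obtain ⟨t1, t2, t3⟩ := three_not_dvd m
    have heven : ∀ x : ↥G₁, ∀ n, Odd n → x ^ n = 1 → ¬ 2 ∣ orderOf x := fun x n hn e =>
      Odd.not_two_dvd_nat (hn.of_dvd_nat (orderOf_dvd_of_pow_eq_one e))
    have huniq : ∀ x : ↥G₁, ∃! i, P i x := by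
      intro x
      obtain ⟨i, hi⟩ : ∃ i, P i x := by
        by_cases hx1 : x = 1
        · exact ⟨0, hx1⟩
        rcases kinds h hm x with e | e | e | e | e
        exacts [⟨2, e⟩, ⟨1, hx1, e⟩, ⟨3, hx1, e⟩, ⟨4, hx1, e⟩, ⟨5, hx1, e⟩]
      refine ⟨i, hi, fun i' hi' => ?_⟩
      have h91 : Odd 9 := by decide
      fin_cases i <;> fin_cases i' <;> first | rfl | (exfalso; simp only [P] at hi hi'; simp at hi hi') <;>
        first
          | exact hdis x _ _ (c9 _ t1) hi.1 hi.2 hi'.2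
          | exact hdis x _ _ (c9 _ t1) hi.1 hi'.2 hi.2
          | exact hdis x _ _ (c9 _ t2) hi.1 hi.2 hi'.2
          | exact hdis x _ _ (c9 _ t2) hi.1 hi'.2 hi.2
          | exact hdis x _ _ (c9 _ t3) hi.1 hi.2 hi'.2
          | exact hdis x _ _ (c9 _ t3) hi.1 hi'.2 hi.2
          | exact hdis x _ _ (coprime_split_ell m) hi.1 hi.2 hi'.2
          | exact hdis x _ _ (coprime_split_ell m) hi.1 hi'.2 hi.2
          | exact hdis x _ _ (coprime_cox m).1 hi.1 hi.2 hi'.2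
          | exact hdis x _ _ (coprime_cox m).1 hi.1 hi'.2 hi.2
          | exact hdis x _ _ (coprime_cox m).2 hi.1 hi.2 hi'.2
          | exact hdis x _ _ (coprime_cox m).2 hi.1 hi'.2 hi.2
          | exact heven x _ h91 hi.2 hi'
          | exact heven x _ h91 hi'.2 hi
          | exact heven x _ o1 hi.2 hi'
          | exact heven x _ o1 hi'.2 hi
          | exact heven x _ o2 hi.2 hi'
          | exact heven x _ o2 hi'.2 hi
          | exact heven x _ o3 hi.2 hi'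
          | exact heven x _ o3 hi'.2 hi
          | exact hi.1 hi'
          | exact hi'.1 hi
          | (rw [hi, orderOf_one] at hi'; norm_num at hi')
          | (rw [hi', orderOf_one] at hi; norm_num at hi)
    have e : Nat.card ↥G₁ = Nat.card (Σ i : Fin 6, {x : ↥G₁ // P i x}) := by
      refine (Nat.card_eq_of_bijective (fun s => s.2.1) ⟨?_, fun x => ?_⟩).symm
      · rintro ⟨i, x, hx⟩ ⟨i', x', hx'⟩ e
        obtain rfl : x = x' := e
        obtain rfl : i = i' := (huniq x).unique hx hx'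
        rfl
      · obtain ⟨i, hi, -⟩ := huniq x
        exact ⟨⟨i, x, hi⟩, rfl⟩
    rw [e, Nat.card_sigma, Fin.sum_univ_six]
    show Nat.card {x : ↥G₁ // x = 1} + _ + _ + _ + _ + _ = _
    rw [Nat.card_eq_fintype_card, Fintype.card_subtype_eq]
    rfl
  have hev : Ev = I * (3 ^ (2 * m + 1)) ^ 2 + S + 3 * E := hEv.trans (card_even h hm)
  rw [hev] at hsum
  have hU : U * _ = _ := card_three_elements h
  have hI : I * _ = _ := card_involutions h hm
  have hS : S * _ = _ := card_split h hm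
  have hE : E * _ = _ := card_ell h hm
  have hG := card_twisted h
  clear_value U I S E X Ev
  obtain ⟨j, hj, e1, e2, e3⟩ := arith m
  rw [e1, e2] at hI
  rw [e1] at hS
  rw [e2] at hE
  rw [e3]
  rw [hj] at hU hI hS hE hG hsum ⊢
  rw [show 4 * j + 1 - 1 = 4 * j by omega] at hS
  rw [show 2 * j + 1 - 1 = 2 * j by omega] at hE
  rw [show 8 * j + 3 - 1 = 8 * j + 2 by omega] at hU hS hG
  obtain ⟨c, hc⟩ : ∃ c, (8 * j + 3) ^ 3 = c + 1 := ⟨(8 * j + 3) ^ 3 - 1, by
    have := Nat.one_le_pow 3 (8 * j + 3) (by omega); omega⟩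
  rw [show (8 * j + 3) ^ 3 - 1 = c by omega] at hU
  set G := Nat.card ↥G₁
  have hcQ : (c : ℚ) = (8 * (j : ℚ) + 3) ^ 3 - 1 := by
    have := congrArg (Nat.cast : ℕ → ℚ) hc; push_cast at this; linarith
  have qU := congrArg (Nat.cast : ℕ → ℚ) hU
  have qI := congrArg (Nat.cast : ℕ → ℚ) hI
  have qS := congrArg (Nat.cast : ℕ → ℚ) hS
  have qE := congrArg (Nat.cast : ℕ → ℚ) hE
  have qG := congrArg (Nat.cast : ℕ → ℚ) hG
  have qs := congrArg (Nat.cast : ℕ → ℚ) hsum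
  push_cast at qU qI qS qE qG qs
  rw [hcQ] at qU
  rw [← Nat.cast_inj (R := ℚ)]
  push_cast
  have hj0 : (0 : ℚ) ≤ j := Nat.cast_nonneg j
  set q : ℚ := 8 * (j : ℚ) + 3 with hq
  have hq3 : (3 : ℚ) ≤ q := by rw [hq]; linarith
  have hj' : (j : ℚ) = (q - 3) / 8 := by rw [hq]; ring
  have hq1 : q - 1 ≠ 0 := by linarith
  have hq2 : q + 1 ≠ 0 := by linarith
  have hq0 : q ≠ 0 := by linarith
  have hq13 : (q : ℚ) ^ 3 + 1 ≠ 0 := by positivity
  clear_value q
  rw [hj'] at qU qI qS qE qG ⊢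
  have vU : (U : ℚ) = G * (q ^ 3 - 1) / (q ^ 3 * (q - 1)) := by
    field_simp at qU ⊢; linear_combination qU
  have vI : (I : ℚ) = G / (q * (q ^ 2 - 1)) := by
    have : q ^ 2 - 1 ≠ 0 := by nlinarith
    field_simp at qI ⊢; linear_combination qI / 8
  have vS : (S : ℚ) = G * ((q - 1) / 2 - 1) / (2 * (q - 1)) := by
    field_simp at qS ⊢; linear_combination qS / 4
  have vE : (E : ℚ) = G * ((q + 1) / 4 - 1) / (6 * (q + 1)) := by
    field_simp at qE ⊢; linear_combination qE / 2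
  have vX : (X : ℚ) = G - 1 - U - (I * q ^ 2 + S + 3 * E) - S - E := by linear_combination -qs
  rw [vX, vU, vI, vS, vE, qG]
  have : q ^ 2 - 1 ≠ 0 := by nlinarith
  field_simp
  ring

end Cfsg.Agent.Suzuki.Ree
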