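import Cfsg.Agent.Suzuki.ReeCount

/-!
The two classes of cyclic tori of orders `q ∓ r + 1` in the small Ree group.
-/

set_option autoImplicit false

universe u

namespace Cfsg.Agent.Suzuki.Ree

open Cfsg.Lie Cfsg.Agent.Chev Cfsg.Agent.Linear
open scoped Matrix MatrixGroups Pointwise

variable {K : Type u} [Field K] {m : ℕ} (h : Ctx K m)

/-- `G¹` -/
local notation "G₁" => twistedG2 K (3 ^ m)

include h in
theorem cox_torus (hm : 1 ≤ m) {x : ↥G₁} (hx1 : x ≠ 1) (hx : x ^ nCox m = 1) (z : ↥G₁) :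
    z ∈ Subgroup.centralizer {x} ↔ z ∈ Subgroup.centralizer {x} ∧ z ^ nCox m = 1 :=
  ⟨fun hz => ⟨hz, orderOf_dvd_iff_pow_eq_one.1
    ((Subgroup.orderOf_dvd_natCard _ hz).trans (cox_centralizer h hm hx1 hx).2.2)⟩, And.left⟩

include h in
theorem cox_normalizer (hm : 1 ≤ m) {x : ↥G₁} (hx1 : x ≠ 1) (hx : x ^ nCox m = 1) :
    (∀ A₀ : Subgroup ↥G₁, A₀ ≤ Subgroup.centralizer {x} → A₀ ≠ ⊥ →
      Subgroup.normalizer (A₀ : Set ↥G₁) =
        Subgroup.normalizer ((Subgroup.centralizer {x}) : Set ↥G₁)) ∧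
    ∀ y ∈ Subgroup.centralizer {x}, y ≠ 1 → ∀ g : ↥G₁, g * y * g⁻¹ ∈ Subgroup.centralizer {x} →
      g ∈ Subgroup.normalizer ((Subgroup.centralizer {x}) : Set ↥G₁) := by
  have := h.finite
  have hcomm : ∀ y : ↥G₁, y ≠ 1 → y ^ nCox m = 1 → _ := fun y h1 h2 => (cox_centralizer h hm h1 h2).1
  have hcyc := (cox_centralizer h hm hx1 hx).2.1
  refine ⟨(normalizer_torus hcomm hx1 hx (cox_torus h hm hx1 hx) hcyc).1, fun y hy hy1 g hg => ?_⟩
  have hyn := ((cox_torus h hm hx1 hx y).1 hy).2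
  have e := centralizer_torus hcomm hx1 hx hy hyn hy1
  exact (normalizer_torus hcomm hy1 hyn (A := Subgroup.centralizer {x})
    (fun z => by rw [e]; exact cox_torus h hm hx1 hx z) hcyc).2.2 g hg

include h in
/-- the Weyl groups of these tori have order dividing six -/
theorem cox_weyl (hm : 1 ≤ m) {x : ↥G₁} (hx1 : x ≠ 1) (hx : x ^ nCox m = 1) :
    ∃ w, w ∣ 6 ∧ Nat.card ↥(Subgroup.normalizer ((Subgroup.centralizer {x}) : Set ↥G₁)) =
      w * Nat.card ↥(Subgroup.centralizer {x}) := by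
  classical
  have := h.finite
  have := h.char
  let := Fintype.ofFinite K
  have hcomm : ∀ y : ↥G₁, y ≠ 1 → y ^ nCox m = 1 → _ := fun y h1 h2 => (cox_centralizer h hm h1 h2).1
  obtain ⟨hc, hcyc, hdvd⟩ := cox_centralizer h hm hx1 hx
  obtain ⟨p, hp, hpd, k, hk⟩ := exists_prime_power_elem hx1
  have : Fact p.Prime := ⟨hp⟩
  have hpn : p ∣ nCox m := hpd.trans (orderOf_dvd_of_pow_eq_one hx)
  obtain ⟨hnq, hord⟩ := cox_ord h hp hpn
  set z := x ^ k
  set C := Subgroup.centralizer {x} with hC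
  set N := Subgroup.normalizer ((Subgroup.centralizer {x}) : Set ↥G₁) with hN
  have hz1 : z ≠ 1 := fun e => hp.ne_one (by rw [← hk, e, orderOf_one])
  have hzC : z ∈ C := Subgroup.mem_centralizer_singleton_iff.2 ((Commute.refl x).pow_left k).eq
  have hzn : z ^ nCox m = 1 := ((cox_torus h hm hx1 hx z).1 hzC).2
  have hCz : Subgroup.centralizer {z} = C := centralizer_torus hcomm hx1 hx hzC hzn hz1
  -- conjugation acts on the subgroup of order `p`
  have hexp : ∀ g : ↥N, ∃ i : ℕ, g.1 * z * g.1⁻¹ = z ^ i := by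
    intro g
    have hgz : g.1 * z * g.1⁻¹ ∈ C := (Subgroup.mem_normalizer_iff.1 g.2 z).1 hzC
    let := hcyc.commGroup
    have key : ∀ a : ↥C, Subgroup.zpowers a = (powMonoidHom (orderOf a) : ↥C →* ↥C).ker := fun a => by
      refine Subgroup.eq_of_le_of_card_ge
        (by rw [Subgroup.zpowers_le, MonoidHom.mem_ker, powMonoidHom_apply]; exact pow_orderOf_eq_one a) ?_
      rw [Nat.card_zpowers, IsCyclic.card_powMonoidHom_ker]
      exact Nat.le_of_dvd (orderOf_pos a) (Nat.gcd_dvd_right _ _)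
    have : (⟨g.1 * z * g.1⁻¹, hgz⟩ : ↥C) ∈ Subgroup.zpowers (⟨z, hzC⟩ : ↥C) := by
      rw [key, Subgroup.orderOf_mk, MonoidHom.mem_ker, powMonoidHom_apply]
      refine Subtype.ext ?_
      show (g.1 * z * g.1⁻¹) ^ orderOf z = 1
      rw [conj_pow, pow_orderOf_eq_one, mul_one, mul_inv_cancel]
    obtain ⟨i, hi⟩ := (Submonoid.mem_powers_iff _ _).1 (mem_powers_iff_mem_zpowers.2 this)
    exact ⟨i, (congrArg Subtype.val hi).symm⟩
  choose f hf using hexp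
  have hcast : ∀ a b : ℕ, z ^ a = z ^ b ↔ (a : ZMod p) = b := fun a b => by
    rw [pow_eq_pow_iff_modEq, hk, ZMod.natCast_eq_natCast_iff]
  let χ : ↥N →* ZMod p :=
    { toFun := fun g => (f g : ZMod p)
      map_one' := by
        rw [← Nat.cast_one, ← hcast, ← hf, pow_one]
        simp
      map_mul' := fun a b => by
        rw [← Nat.cast_mul, ← hcast, ← hf, mul_comm (f a), pow_mul]
        calc (a * b).1 * z * (a * b).1⁻¹ = a.1 * (b.1 * z * b.1⁻¹) * a.1⁻¹ := by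
              rw [Subgroup.coe_mul]; group
          _ = (a.1 * z * a.1⁻¹) ^ f b := by rw [hf b, conj_pow]
          _ = (z ^ f b) ^ f a := by rw [hf a, ← pow_mul z, ← pow_mul z, mul_comm] }
  -- its values are powers of the field order
  have hmem : ∀ g : ↥G₁, g.1 ∈ chevG2.group K := fun g => twisted_le_group h g.2
  have hcardK : Fintype.card K = 3 ^ (2 * m + 1) := by rw [← Nat.card_eq_fintype_card, h.card]
  let ρ : ↥G₁ →* Matrix (Fin 7) (Fin 7) K :=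
    { toFun := fun g => rI g.1
      map_one' := one_props.2.1
      map_mul' := fun g g' => rI_mul (hmem g) (hmem g') }
  have hρ : ∀ g g', ρ g = ρ g' → g = g' := fun g g' e => Subtype.ext (rI_inj (hmem g) (hmem g') e)
  have hq0 : (Fintype.card K : ZMod p) ≠ 0 := fun e => hnq (hcardK ▸ (ZMod.natCast_eq_zero_iff _ _).1 e)
  set qU : (ZMod p)ˣ := Units.mk0 (Fintype.card K : ZMod p) hq0 with hqU
  have hq6 : qU ^ 6 = 1 := by
    have hd : p ∣ (3 ^ (2 * m + 1)) ^ 3 + 1 := by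
      obtain ⟨j, hj, -, -, e3⟩ := arith m
      refine hpn.trans (Dvd.intro_left (3 ^ (2 * m + 1) + 1) ?_)
      rw [e3, hj]; ring
    have h3 : (((3 ^ (2 * m + 1)) ^ 3 + 1 : ℕ) : ZMod p) = 0 := (ZMod.natCast_eq_zero_iff _ _).2 hd
    rw [Units.ext_iff, Units.val_pow_eq_pow_val, hqU, Units.val_mk0, hcardK, Units.val_one]
    push_cast at h3 ⊢
    linear_combination (((3 : ZMod p) ^ (2 * m + 1)) ^ 3 - 1) * h3
  have hrange : χ.toHomUnits.range ≤ Subgroup.zpowers qU := by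
    rintro _ ⟨g, rfl⟩
    obtain ⟨j, hj⟩ := exponent_of_similar (X := ρ z) (p := p) (hcardK ▸ hnq) (by rw [hcardK]; exact hord)
      (by rw [← map_pow, ← hk, pow_orderOf_eq_one, map_one])
      (fun e => hz1 (hρ _ _ (e.trans (map_one ρ).symm)))
      (g := ρ g.1) (g' := ρ g.1⁻¹) (by rw [← map_mul, mul_inv_cancel, map_one])
      (i := f g) (by rw [← map_mul, ← map_mul, hf g, map_pow])
    refine ⟨(j.val : ℤ), Units.ext ?_⟩
    show ((qU ^ (j.val : ℤ) : (ZMod p)ˣ) : ZMod p) = (f g : ZMod p)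
    rw [zpow_natCast, Units.val_pow_eq_pow_val, hqU, Units.val_mk0]
    exact hj.symm
  have hker : χ.toHomUnits.ker.map N.subtype = C := by
    ext g
    rw [Subgroup.mem_map]
    constructor
    · rintro ⟨g, hg, rfl⟩
      have e : (f g : ZMod p) = ((1 : ℕ) : ZMod p) := by
        rw [Nat.cast_one]; exact congrArg Units.val (MonoidHom.mem_ker.1 hg)
      rw [← hcast, ← hf, pow_one] at e
      rw [← hCz, Subgroup.mem_centralizer_singleton_iff]
      exact mul_inv_eq_iff_eq_mul.1 e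
    · intro hg
      have hgN : g ∈ N := Subgroup.le_normalizer hg
      refine ⟨⟨g, hgN⟩, MonoidHom.mem_ker.2 (Units.ext ?_), rfl⟩
      show (f ⟨g, hgN⟩ : ZMod p) = 1
      rw [← Nat.cast_one, ← hcast, ← hf, pow_one]
      rw [← hCz, Subgroup.mem_centralizer_singleton_iff] at hg
      exact mul_inv_eq_iff_eq_mul.2 hg
  refine ⟨Nat.card ↥χ.toHomUnits.range, (Subgroup.card_dvd_of_le hrange).trans ?_, ?_⟩
  · rw [Nat.card_zpowers]; exact orderOf_dvd_of_pow_eq_one hq6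
  · rw [← hker, Subgroup.card_map_of_injective N.subtype_injective, ← Subgroup.index_ker, mul_comm]
    exact χ.toHomUnits.ker.card_mul_index.symm

theorem sq_two_tori (m : ℕ) {a b : ℕ} (hsum : a + b = 2 * (3 ^ (2 * m + 1) + 1)) (hmul : a * b = nCox m) :
    (a = 3 ^ (2 * m + 1) - 3 ^ (m + 1) + 1 ∧ b = 3 ^ (2 * m + 1) + 3 ^ (m + 1) + 1) ∨
      (b = 3 ^ (2 * m + 1) - 3 ^ (m + 1) + 1 ∧ a = 3 ^ (2 * m + 1) + 3 ^ (m + 1) + 1) := by
  set q := 3 ^ (2 * m + 1) with hq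
  set r := 3 ^ (m + 1) with hr
  have hr2 : r * r = 3 * q := by rw [hr, hq, ← pow_add, ← pow_succ']; congr 1; ring
  have hrq : r ≤ q := Nat.pow_le_pow_right (by norm_num) (by omega)
  have hq1 : 1 ≤ q := Nat.one_le_pow _ _ (by norm_num)
  obtain ⟨d, hd⟩ : ∃ d, q = d + 1 := ⟨q - 1, by omega⟩
  have hN : nCox m = q * d + 1 := by rw [nCox, ← hq, hd, Nat.add_sub_cancel]
  rw [hN] at hmul
  have hq' : (q : ℤ) = d + 1 := by exact_mod_cast hd
  have hsum' : (a : ℤ) + b = 2 * ((q : ℤ) + 1) := by exact_mod_cast hsum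
  have hmul' : (a : ℤ) * b = q * d + 1 := by exact_mod_cast hmul
  have hr2' : (r : ℤ) * r = 3 * q := by exact_mod_cast hr2
  have key : ((a : ℤ) - (q + 1) - r) * ((a : ℤ) - (q + 1) + r) = 0 := by
    linear_combination (a : ℤ) * hsum' - hmul' + (q : ℤ) * hq' - hr2'
  rcases mul_eq_zero.1 key with e | e
  · right; omega
  · left; omega

include h in
set_option maxHeartbeats 1600000 in
/-- two classes, of orders `q ∓ r + 1` -/
theorem cox_tori (hm : 1 ≤ m) : ∃ x₁ x₂ : ↥G₁, x₁ ≠ 1 ∧ x₁ ^ nCox m = 1 ∧ x₂ ≠ 1 ∧ x₂ ^ nCox m = 1 ∧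
    Nat.card ↥(Subgroup.centralizer {x₁}) = 3 ^ (2 * m + 1) - 3 ^ (m + 1) + 1 ∧
    Nat.card ↥(Subgroup.centralizer {x₂}) = 3 ^ (2 * m + 1) + 3 ^ (m + 1) + 1 ∧
    Nat.card ↥(Subgroup.normalizer ((Subgroup.centralizer {x₁}) : Set ↥G₁)) =
      6 * (3 ^ (2 * m + 1) - 3 ^ (m + 1) + 1) ∧
    Nat.card ↥(Subgroup.normalizer ((Subgroup.centralizer {x₂}) : Set ↥G₁)) =
      6 * (3 ^ (2 * m + 1) + 3 ^ (m + 1) + 1) ∧
    ∀ x : ↥G₁, x ≠ 1 → x ^ nCox m = 1 →
      Nat.card ↥(Subgroup.centralizer {x}) = Nat.card ↥(Subgroup.centralizer {x₁}) ∨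
      Nat.card ↥(Subgroup.centralizer {x}) = Nat.card ↥(Subgroup.centralizer {x₂}) := by
  classical
  have := h.finite
  have hcomm : ∀ y : ↥G₁, y ≠ 1 → y ^ nCox m = 1 → _ := fun y h1 h2 => (cox_centralizer h hm h1 h2).1
  obtain ⟨j, hj, -, e2, e3⟩ := arith m
  have hge := (nSplit_ge hm).2.2
  have hge' := (nSplit_ge hm).2.1
  set q := 3 ^ (2 * m + 1) with hq
  set N := nCox m with hNdef
  set G := Nat.card ↥G₁ with hG
  set X := Nat.card {z : ↥G₁ // z ≠ 1 ∧ z ^ N = 1} with hX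
  have hXeq : 6 * X * N + G * (2 * (q + 1)) = G * (2 * N) := card_cox h hm
  have hG0 : 0 < G := Nat.card_pos
  -- the class of an element
  let cls : ↥G₁ → ↥G₁ → Prop := fun x z => z ≠ 1 ∧ ∃ g, g * z * g⁻¹ ∈ Subgroup.centralizer {x}
  have hclsN : ∀ x, x ≠ 1 → x ^ N = 1 → ∀ z, cls x z → z ≠ 1 ∧ z ^ N = 1 := by
    rintro x hx1 hx z ⟨hz, g, hg⟩
    have := ((cox_torus h hm hx1 hx _).1 hg).2
    rw [conj_pow, conj_eq_one_iff] at this
    exact ⟨hz, this⟩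
  have hself : ∀ x, x ≠ 1 → cls x x := fun x hx =>
    ⟨hx, 1, by simpa using Subgroup.mem_centralizer_singleton_iff.2 (rfl : x * x = x * x)⟩
  -- centralisers in a class are conjugate
  have hclsC : ∀ x, x ≠ 1 → x ^ N = 1 → ∀ z, cls x z → ∃ g : ↥G₁,
      Subgroup.centralizer {x} = (Subgroup.centralizer {z}).map (MulAut.conj g).toMonoidHom := by
    rintro x hx1 hx z ⟨hz, g, hg⟩
    refine ⟨g, ?_⟩
    rw [← centralizer_conj_eq, centralizer_torus hcomm hx1 hx hg ((cox_torus h hm hx1 hx _).1 hg).2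
      (fun e => hz (conj_eq_one_iff.1 e))]
  have hsymm : ∀ x, x ≠ 1 → x ^ N = 1 → ∀ y, y ≠ 1 → y ^ N = 1 → ∀ z, cls x z → cls y z → cls x y := by
    intro x hx1 hx y hy1 hy z hxz hyz
    obtain ⟨g, hg⟩ := hclsC x hx1 hx z hxz
    obtain ⟨g', hg'⟩ := hclsC y hy1 hy z hyz
    refine ⟨hy1, g * g'⁻¹, ?_⟩
    have hyy : y ∈ Subgroup.centralizer {y} := Subgroup.mem_centralizer_singleton_iff.2 rfl
    rw [hg', Subgroup.mem_map] at hyy
    obtain ⟨u, hu, rfl⟩ := hyy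
    rw [hg, Subgroup.mem_map]
    refine ⟨u, hu, ?_⟩
    show g * u * g⁻¹ = g * g'⁻¹ * (g' * u * g'⁻¹) * (g * g'⁻¹)⁻¹
    group
  -- its size
  have hcls : ∀ x, x ≠ 1 → x ^ N = 1 → ∃ n w, Nat.card ↥(Subgroup.centralizer {x}) = n ∧ w ∣ 6 ∧ n ∣ N ∧ 7 ≤ n ∧
      Nat.card ↥(Subgroup.normalizer ((Subgroup.centralizer {x}) : Set ↥G₁)) = w * n ∧
      Nat.card {z // cls x z} * (w * n) = G * (n - 1) := by
    intro x hx1 hx
    obtain ⟨w, hw, hcw⟩ := cox_weyl h hm hx1 hx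
    obtain ⟨-, -, hd⟩ := cox_centralizer h hm hx1 hx
    refine ⟨_, w, rfl, hw, hd, ?_, hcw, ?_⟩
    · have hn1 : Nat.card ↥(Subgroup.centralizer {x}) ≠ 1 := fun e => hx1 (by
        have := (Subgroup.card_eq_one.1 e).le (Subgroup.mem_centralizer_singleton_iff.2 (rfl : x * x = x * x))
        exact Subgroup.mem_bot.1 this)
      obtain ⟨p, hp, hpd⟩ := Nat.exists_prime_and_dvd hn1
      have hp3 := prime_gt_three (odd_three m).2.2 (three_not_dvd m).2.2 hp (hpd.trans hd)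
      refine le_trans ?_ (Nat.le_of_dvd Nat.card_pos hpd)
      obtain ⟨-, hord⟩ := cox_ord h hp (hpd.trans hd)
      by_contra hlt
      have hp5 : p = 5 := by
        have h6 : p ≠ 6 := fun e => by rw [e] at hp; norm_num at hp
        have h4 : p ≠ 4 := fun e => by rw [e] at hp; norm_num at hp
        omega
      subst hp5
      have h4 := hord 4 (by norm_num) (by norm_num) (by
        have hq5 : ¬ 5 ∣ q := fun e => by
          have := (Nat.prime_dvd_prime_iff_eq hp Nat.prime_three).1 (hp.dvd_of_dvd_pow e); omega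
        have hm4 : q ^ 4 % 5 = 1 := by
          rw [Nat.pow_mod]
          have : q % 5 = 1 ∨ q % 5 = 2 ∨ q % 5 = 3 ∨ q % 5 = 4 := by omega
          rcases this with e | e | e | e <;> rw [e] <;> norm_num
        have := Nat.one_le_pow 4 q (by positivity)
        show 5 ∣ q ^ 4 - 1
        omega)
      omega
    · rw [← hcw]
      exact card_conjugates _ (fun y hy hy1 g hg => (cox_normalizer h hm hx1 hx).2 y hy hy1 g hg)
  -- bounds
  have hle : ∀ x, x ≠ 1 → x ^ N = 1 → 6 * G ≤ 42 * Nat.card {z // cls x z} := by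
    intro x hx1 hx
    obtain ⟨n, w, -, hw, -, hn, -, e⟩ := hcls x hx1 hx
    have h6 : w ≤ 6 := Nat.le_of_dvd (by norm_num) hw
    have h7 : G * (6 * n) ≤ G * (7 * (n - 1)) := Nat.mul_le_mul_left _ (by omega)
    have hn0 : 0 < n := by omega
    refine Nat.le_of_mul_le_mul_right ?_ hn0
    have hcalc : Nat.card {z // cls x z} * (w * n) ≤ Nat.card {z // cls x z} * (6 * n) :=
      Nat.mul_le_mul_left _ (Nat.mul_le_mul_right _ h6)
    nlinarith
  have hXlt : 3 * X < G := by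
    have h2 : 0 < G * (2 * (q + 1)) := by positivity
    nlinarith
  obtain ⟨x₁, hx₁1, hx₁⟩ := exists_of_prime h (by omega : 1 < nCox m) (dvd_card h _ (Or.inr (Or.inr rfl)))
  obtain ⟨n₁, w₁, hn₁, hw₁, hd₁, h7₁, hN₁, hc₁⟩ := hcls x₁ hx₁1 hx₁
  have hNq : 4 * (q + 1) < N := by
    rw [e3, hj]
    nlinarith [nSplit_ge hm]
  -- a single class is impossible
  obtain ⟨x₂, hx₂1, hx₂, hx₂c⟩ : ∃ x₂, x₂ ≠ 1 ∧ x₂ ^ N = 1 ∧ ¬ cls x₁ x₂ := by
    by_contra hcon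
    push Not at hcon
    have hX1 : X = Nat.card {z // cls x₁ z} := Nat.card_congr (Equiv.subtypeEquivRight fun z =>
      ⟨fun hz => hcon z hz.1 hz.2, hclsN x₁ hx₁1 hx₁ z⟩)
    rw [← hX1] at hc₁
    have key : 6 * ((n₁ - 1) * N) + w₁ * n₁ * (2 * (q + 1)) = 2 * (w₁ * n₁ * N) := by
      refine Nat.eq_of_mul_eq_mul_left hG0 ?_
      have h1 := congrArg (fun t => t * (w₁ * n₁)) hXeq
      simp only [add_mul] at h1
      calc G * (6 * ((n₁ - 1) * N) + w₁ * n₁ * (2 * (q + 1)))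
          = 6 * (G * (n₁ - 1)) * N + G * (2 * (q + 1)) * (w₁ * n₁) := by ring
        _ = 6 * X * N * (w₁ * n₁) + G * (2 * (q + 1)) * (w₁ * n₁) := by rw [← hc₁]; ring
        _ = G * (2 * N) * (w₁ * n₁) := h1
        _ = _ := by ring
    obtain ⟨d, hd⟩ : ∃ d, n₁ = d + 1 := ⟨n₁ - 1, by omega⟩
    rw [hd, Nat.add_sub_cancel] at key
    have hw6 : w₁ = 1 ∨ w₁ = 2 ∨ w₁ = 3 ∨ w₁ = 6 := by
      have := Nat.le_of_dvd (by norm_num) hw₁
      interval_cases w₁ <;> omega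
    rcases hw6 with rfl | rfl | rfl | rfl
    · nlinarith [Nat.zero_le (d * (q + 1))]
    · nlinarith [Nat.zero_le (d * (q + 1))]
    · -- here `q + 1` would divide `N`
      have hNd : N = (q + 1) * (d + 1) := by nlinarith
      have hdq : nEll m ∣ N := hNd ▸ Dvd.dvd.mul_right (by
        rw [hq, q_add_one h]; exact Dvd.intro_left _ rfl) _
      have := Nat.dvd_gcd hdq (dvd_refl (nEll m))
      rw [(coprime_cox m).2, Nat.dvd_one] at this
      omega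
    · have hlt : (d + 1) * (4 * (q + 1)) < (d + 1) * N := Nat.mul_lt_mul_of_pos_left hNq (by omega)
      nlinarith
  obtain ⟨n₂, w₂, hn₂, hw₂, hd₂, h7₂, hN₂, hc₂⟩ := hcls x₂ hx₂1 hx₂
  -- three classes are impossible
  have hcover : ∀ z, z ≠ 1 → z ^ N = 1 → cls x₁ z ∨ cls x₂ z := by
    intro z hz1 hz
    by_contra hcon
    push Not at hcon
    have h3 : Nat.card {y // cls x₁ y} + Nat.card {y // cls x₂ y} + Nat.card {y // cls z y} ≤ X := by
      rw [← Nat.card_sum, ← Nat.card_sum]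
      refine Nat.card_le_card_of_injective (Sum.elim (Sum.elim (fun y => ⟨y.1, hclsN x₁ hx₁1 hx₁ _ y.2⟩)
        fun y => ⟨y.1, hclsN x₂ hx₂1 hx₂ _ y.2⟩) fun y => ⟨y.1, hclsN z hz1 hz _ y.2⟩) ?_
      rintro ((a | a) | a) ((b | b) | b) e <;> simp only [Sum.elim_inl, Sum.elim_inr, Subtype.mk.injEq] at e
      · rw [Subtype.ext e]
      · exact absurd (hsymm x₁ hx₁1 hx₁ x₂ hx₂1 hx₂ _ a.2 (e ▸ b.2)) hx₂c
      · exact absurd (hsymm x₁ hx₁1 hx₁ z hz1 hz _ a.2 (e ▸ b.2)) hcon.1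
      · exact absurd (hsymm x₁ hx₁1 hx₁ x₂ hx₂1 hx₂ _ b.2 (e ▸ a.2)) hx₂c
      · rw [Subtype.ext e]
      · exact absurd (hsymm x₂ hx₂1 hx₂ z hz1 hz _ a.2 (e ▸ b.2)) hcon.2
      · exact absurd (hsymm x₁ hx₁1 hx₁ z hz1 hz _ b.2 (e ▸ a.2)) hcon.1
      · exact absurd (hsymm x₂ hx₂1 hx₂ z hz1 hz _ b.2 (e ▸ a.2)) hcon.2
      · rw [Subtype.ext e]
    have := hle x₁ hx₁1 hx₁
    have := hle x₂ hx₂1 hx₂
    have := hle z hz1 hz
    omega
  have hdis : ∀ z, cls x₁ z → cls x₂ z → False := fun z a b => hx₂c (hsymm x₁ hx₁1 hx₁ x₂ hx₂1 hx₂ z a b)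
  have hX2 : X = Nat.card {y // cls x₁ y} + Nat.card {y // cls x₂ y} := by
    rw [← Nat.card_sum, ← Nat.card_congr (subtypeOrEquiv _ _ (Pi.disjoint_iff.2 fun z =>
      disjoint_iff_inf_le.2 fun ⟨a, b⟩ => hdis z a b))]
    exact Nat.card_congr (Equiv.subtypeEquivRight fun z =>
      ⟨fun hz => hcover z hz.1 hz.2, fun hz => hz.elim (hclsN x₁ hx₁1 hx₁ z) (hclsN x₂ hx₂1 hx₂ z)⟩)
  -- both have Weyl groups of order six
  have hsix : ∀ x y, x ≠ 1 → x ^ N = 1 → y ≠ 1 → y ^ N = 1 → ∀ n w, 7 ≤ n → w ∣ 6 →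
      Nat.card {z // cls x z} * (w * n) = G * (n - 1) →
      X = Nat.card {z // cls x z} + Nat.card {z // cls y z} → w = 6 := by
    intro x y hx1 hx hy1 hy n w hn hw e hXs
    by_contra hne
    have h3 : w ≤ 3 := by
      have := Nat.le_of_dvd (by norm_num) hw
      interval_cases w <;> omega
    have h7 : G * (6 * n) ≤ G * (7 * (n - 1)) := Nat.mul_le_mul_left _ (by omega)
    have hbig : 6 * G ≤ 21 * Nat.card {z // cls x z} := by
      refine Nat.le_of_mul_le_mul_right ?_ (show 0 < n by omega)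
      have hcalc : Nat.card {z // cls x z} * (w * n) ≤ Nat.card {z // cls x z} * (3 * n) :=
        Nat.mul_le_mul_left _ (Nat.mul_le_mul_right _ h3)
      nlinarith
    have := hle y hy1 hy
    omega
  obtain rfl : w₁ = 6 := hsix x₁ x₂ hx₁1 hx₁ hx₂1 hx₂ n₁ w₁ h7₁ hw₁ hc₁ hX2
  obtain rfl : w₂ = 6 := hsix x₂ x₁ hx₂1 hx₂ hx₁1 hx₁ n₂ w₂ h7₂ hw₂ hc₂ (hX2.trans (Nat.add_comm _ _))
  -- the equation
  obtain ⟨a, ha⟩ : ∃ a, n₁ = a + 1 := ⟨n₁ - 1, by omega⟩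
  obtain ⟨b, hb⟩ : ∃ b, n₂ = b + 1 := ⟨n₂ - 1, by omega⟩
  have heq : N * (n₁ + n₂) = 2 * (q + 1) * (n₁ * n₂) := by
    refine Nat.eq_of_mul_eq_mul_left hG0 ?_
    rw [ha, Nat.add_sub_cancel] at hc₁
    rw [hb, Nat.add_sub_cancel] at hc₂
    rw [hX2] at hXeq
    rw [ha, hb]
    have h1 := congrArg (Nat.cast : ℕ → ℤ) hXeq
    have h2 := congrArg (Nat.cast : ℕ → ℤ) hc₁
    have h3 := congrArg (Nat.cast : ℕ → ℤ) hc₂
    rw [← Nat.cast_inj (R := ℤ)]
    push_cast at h1 h2 h3 ⊢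
    linear_combination ((N : ℤ) * (b + 1)) * h2 + ((N : ℤ) * (a + 1)) * h3 - ((a + 1 : ℤ) * (b + 1)) * h1
  have hco : Nat.Coprime n₁ n₂ := by
    refine Nat.coprime_of_dvd fun p hp hp1 hp2 => ?_
    have : Fact p.Prime := ⟨hp⟩
    rw [← hn₁] at hp1
    rw [← hn₂] at hp2
    obtain ⟨⟨u₁, hu₁⟩, ho₁⟩ := exists_prime_orderOf_dvd_card' p hp1
    obtain ⟨⟨u₂, hu₂⟩, ho₂⟩ := exists_prime_orderOf_dvd_card' p hp2
    rw [Subgroup.orderOf_mk] at ho₁ ho₂
    have hu11 : u₁ ≠ 1 := fun e => hp.ne_one (by rw [← ho₁, e, orderOf_one])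
    have hu21 : u₂ ≠ 1 := fun e => hp.ne_one (by rw [← ho₂, e, orderOf_one])
    have hp3 := prime_gt_three (odd_three m).2.2 (three_not_dvd m).2.2 hp
      (ho₁ ▸ orderOf_dvd_of_pow_eq_one ((cox_torus h hm hx₁1 hx₁ u₁).1 hu₁).2)
    have hsyl : ∀ u : ↥G₁, orderOf u = p → ∃ S : Sylow p ↥G₁, u ∈ S := by
      intro u hu
      have hP : IsPGroup p ↥(Subgroup.zpowers u) := IsPGroup.of_card (n := 1) (by rw [Nat.card_zpowers, hu, pow_one])
      obtain ⟨S, hS⟩ := hP.exists_le_sylow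
      exact ⟨S, hS (Subgroup.mem_zpowers u)⟩
    obtain ⟨S₁, hS₁⟩ := hsyl u₁ ho₁
    obtain ⟨S₂, hS₂⟩ := hsyl u₂ ho₂
    obtain ⟨g, hg⟩ := MulAction.exists_smul_eq ↥G₁ S₂ S₁
    have hu2' : g * u₂ * g⁻¹ ∈ (S₁ : Subgroup ↥G₁) := by
      rw [← hg, Sylow.coe_subgroup_smul]
      exact Subgroup.smul_mem_pointwise_smul _ _ _ hS₂
    have hScyc := sylow_odd_cyclic h hp3 S₁
    let := hScyc.commGroup
    have hmem : g * u₂ * g⁻¹ ∈ Subgroup.zpowers u₁ := by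
      have e : Subgroup.zpowers (⟨u₁, hS₁⟩ : ↥(S₁ : Subgroup ↥G₁)) =
          (powMonoidHom p : ↥(S₁ : Subgroup ↥G₁) →* ↥(S₁ : Subgroup ↥G₁)).ker := by
        refine Subgroup.eq_of_le_of_card_ge
          (by rw [Subgroup.zpowers_le, MonoidHom.mem_ker, powMonoidHom_apply]
              have hp' := pow_orderOf_eq_one u₁
              rw [ho₁] at hp'
              exact Subtype.ext hp') ?_
        rw [Nat.card_zpowers, Subgroup.orderOf_mk, ho₁, IsCyclic.card_powMonoidHom_ker]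
        exact Nat.le_of_dvd hp.pos (Nat.gcd_dvd_right _ _)
      have : (⟨g * u₂ * g⁻¹, hu2'⟩ : ↥(S₁ : Subgroup ↥G₁)) ∈ Subgroup.zpowers (⟨u₁, hS₁⟩ : ↥(S₁ : Subgroup ↥G₁)) := by
        rw [e, MonoidHom.mem_ker, powMonoidHom_apply]
        refine Subtype.ext ?_
        show (g * u₂ * g⁻¹) ^ p = 1
        have hp' := pow_orderOf_eq_one u₂
        rw [ho₂] at hp'
        rw [conj_pow, hp', mul_one, mul_inv_cancel]
      obtain ⟨i, hi⟩ := Subgroup.mem_zpowers_iff.1 this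
      exact Subgroup.mem_zpowers_iff.2 ⟨i, congrArg Subtype.val hi⟩
    exact hdis u₂ ⟨hu21, g, (Subgroup.zpowers_le.2 hu₁) hmem⟩ ⟨hu21, 1, by simpa using hu₂⟩
  have hmul : n₁ * n₂ = N := by
    refine Nat.dvd_antisymm (hco.mul_dvd_of_dvd_of_dvd hd₁ hd₂) ?_
    have hcoN : Nat.Coprime N (2 * (q + 1)) := by
      rw [hq, q_add_one h, show 2 * (4 * nEll m) = 2 ^ 3 * nEll m by ring]
      exact Nat.Coprime.mul_right (((Nat.coprime_two_right).2 (odd_three m).2.2).pow_right 3) (coprime_cox m).2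
    exact hcoN.dvd_of_dvd_mul_left (heq ▸ Dvd.intro _ rfl)
  have hsum : n₁ + n₂ = 2 * (q + 1) := by
    rw [hmul, mul_comm (2 * (q + 1))] at heq
    exact Nat.eq_of_mul_eq_mul_left (by omega) heq
  have hlast : ∀ z : ↥G₁, z ≠ 1 → z ^ N = 1 →
      Nat.card ↥(Subgroup.centralizer {z}) = n₁ ∨ Nat.card ↥(Subgroup.centralizer {z}) = n₂ := by
    intro z hz1 hz
    rcases hcover z hz1 hz with hc | hc
    · obtain ⟨g, hg⟩ := hclsC x₁ hx₁1 hx₁ z hc
      left; rw [← hn₁, hg, Subgroup.card_map_of_injective (MulEquiv.injective _)]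
    · obtain ⟨g, hg⟩ := hclsC x₂ hx₂1 hx₂ z hc
      right; rw [← hn₂, hg, Subgroup.card_map_of_injective (MulEquiv.injective _)]
  rcases sq_two_tori m hsum hmul with ⟨h1, h2⟩ | ⟨h2, h1⟩
  · exact ⟨x₁, x₂, hx₁1, hx₁, hx₂1, hx₂, hn₁.trans h1, hn₂.trans h2, by rw [hN₁, h1], by rw [hN₂, h2],
      fun z a b => by rw [hn₁, hn₂]; exact hlast z a b⟩
  · exact ⟨x₂, x₁, hx₂1, hx₂, hx₁1, hx₁, hn₂.trans h2, hn₁.trans h1, by rw [hN₂, h2], by rw [hN₁, h1],
      fun z a b => by rw [hn₁, hn₂]; exact (hlast z a b).symm⟩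

end Cfsg.Agent.Suzuki.Ree
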