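import Cfsg.Agent.Suzuki.ReeTori

/-!
Centralisers of the elements of order dividing `(q + 1) / 4` in the small Ree group.
-/

set_option autoImplicit false

universe u

namespace Cfsg.Agent.Suzuki.Ree

open Cfsg.Lie Cfsg.Agent.Chev Cfsg.Agent.Linear
open scoped Matrix MatrixGroups Pointwise

section Generic

variable {G : Type*} [Group G] [Finite G]

/-- elements of prime power order meet every conjugacy class of subgroups of index prime to `p` -/
theorem exists_conj_mem {p : ℕ} [Fact p.Prime] (H : Subgroup G) (hidx : ¬ p ∣ H.index) {x : G} {k : ℕ}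
    (hx : x ^ p ^ k = 1) : ∃ g : G, g * x * g⁻¹ ∈ H := by
  have hxp : IsPGroup p ↥(Subgroup.zpowers x) := by
    intro z
    obtain ⟨z, hz⟩ := z
    obtain ⟨i, rfl⟩ := Subgroup.mem_zpowers_iff.1 hz
    refine ⟨k, Subtype.ext ?_⟩
    show (x ^ i) ^ p ^ k = 1
    rw [← zpow_natCast, ← zpow_mul, mul_comm, zpow_mul, zpow_natCast, hx, one_zpow]
  obtain ⟨P, hP⟩ := hxp.exists_le_sylow
  obtain ⟨Q⟩ : Nonempty (Sylow p ↥H) := inferInstance
  have hcard : Nat.card ↥((Q : Subgroup ↥H).map H.subtype) = p ^ (Nat.card G).factorization p := by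
    rw [Subgroup.card_map_of_injective H.subtype_injective, Q.card_eq_multiplicity, ← H.card_mul_index,
      Nat.factorization_mul Nat.card_pos.ne' Subgroup.FiniteIndex.index_ne_zero, Finsupp.add_apply,
      Nat.factorization_eq_zero_of_not_dvd hidx, add_zero]
  obtain ⟨g, hg⟩ := MulAction.exists_smul_eq G P (Sylow.ofCard _ hcard)
  refine ⟨g, ?_⟩
  have : g * x * g⁻¹ ∈ ((g • P : Sylow p G) : Subgroup G) := by
    rw [Sylow.coe_subgroup_smul]
    exact Subgroup.smul_mem_pointwise_smul _ _ _ (hP (Subgroup.mem_zpowers x))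
  rw [hg, Sylow.coe_ofCard] at this
  exact Subgroup.map_subtype_le _ this

/-- a power of prime order -/
theorem exists_prime_power_elem {y : G} (hy : y ≠ 1) :
    ∃ p : ℕ, p.Prime ∧ p ∣ orderOf y ∧ ∃ k : ℕ, orderOf (y ^ k) = p := by
  have h1 : orderOf y ≠ 1 := fun e => hy (orderOf_eq_one_iff.1 e)
  refine ⟨(orderOf y).minFac, Nat.minFac_prime h1, Nat.minFac_dvd _, orderOf y / (orderOf y).minFac, ?_⟩
  rw [orderOf_pow_of_dvd (Nat.div_ne_zero_iff.2 ⟨(Nat.minFac_pos _).ne', Nat.minFac_le (orderOf_pos y)⟩)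
    (Nat.div_dvd_of_dvd (Nat.minFac_dvd _)), Nat.div_div_self (Nat.minFac_dvd _) (orderOf_pos y).ne']

omit [Finite G] in
/-- a central element of a centraliser -/
theorem centralizer_pow_le (y : G) (k : ℕ) : Subgroup.centralizer {y} ≤ Subgroup.centralizer {y ^ k} := by
  intro x hx
  rw [Subgroup.mem_centralizer_singleton_iff] at hx ⊢
  exact ((show Commute x y from hx).pow_right k).eq

omit [Finite G] in
/-- an element of a commutative centraliser of a power has that same centraliser -/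
theorem centralizer_eq_of_pow {y : G} {k : ℕ}
    (hab : ∀ a ∈ Subgroup.centralizer {y ^ k}, ∀ b ∈ Subgroup.centralizer {y ^ k}, a * b = b * a) :
    Subgroup.centralizer {y} = Subgroup.centralizer {y ^ k} := by
  refine le_antisymm (centralizer_pow_le y k) fun x hx => ?_
  rw [Subgroup.mem_centralizer_singleton_iff]
  exact hab x hx y (Subgroup.mem_centralizer_singleton_iff.2 ((Commute.refl y).pow_right k).eq)

omit [Finite G] in
/-- an involution of a cyclic group of automorphisms -/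
theorem conj_eq_self_or_inv {r k : ℕ} (hr : r.Prime) (hr2 : r ≠ 2) {c t : G} (hc : orderOf c = r ^ k)
    (ht : t * t = 1) {i : ℤ} (hi : t * c * t⁻¹ = c ^ i) : t * c * t⁻¹ = c ∨ t * c * t⁻¹ = c⁻¹ := by
  have h1 : c ^ (i * i - 1) = 1 := by
    have e : t * (t * c * t⁻¹) * t⁻¹ = c := by
      calc t * (t * c * t⁻¹) * t⁻¹ = (t * t) * c * (t * t)⁻¹ := by group
        _ = c := by rw [ht]; group
    have e2 : t * (t * c * t⁻¹) * t⁻¹ = c ^ (i * i) := by
      conv_lhs => rw [hi]
      rw [← conj_zpow, hi, ← zpow_mul]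
    rw [zpow_sub, zpow_one, ← e2, e, mul_inv_cancel]
  have hd : ((r : ℤ) ^ k) ∣ (i - 1) * (i + 1) := by
    have := orderOf_dvd_iff_zpow_eq_one.2 h1
    rw [hc] at this
    push_cast at this
    rwa [show (i - 1) * (i + 1) = i * i - 1 by ring]
  have hrp : Prime (r : ℤ) := Nat.prime_iff_prime_int.1 hr
  by_cases hd1 : (r : ℤ) ∣ i + 1
  · refine Or.inr ?_
    have hn : ¬ (r : ℤ) ∣ i - 1 := fun hd2 => by
      have h3 := dvd_sub hd1 hd2
      rw [show (i + 1) - (i - 1) = ((2 : ℕ) : ℤ) by push_cast; ring, Int.natCast_dvd_natCast] at h3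
      exact hr2 ((Nat.prime_dvd_prime_iff_eq hr Nat.prime_two).1 h3)
    have h4 := hrp.pow_dvd_of_dvd_mul_left k hn hd
    have h5 : c ^ (i + 1) = 1 := orderOf_dvd_iff_zpow_eq_one.1 (by rw [hc]; push_cast; exact h4)
    rw [hi]
    rw [zpow_add, zpow_one] at h5
    exact eq_inv_of_mul_eq_one_left h5
  · refine Or.inl ?_
    have h4 := hrp.pow_dvd_of_dvd_mul_right k hd1 hd
    have h5 : c ^ (i - 1) = 1 := orderOf_dvd_iff_zpow_eq_one.1 (by rw [hc]; push_cast; exact h4)
    rw [hi]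
    rw [zpow_sub, zpow_one] at h5
    exact mul_inv_eq_one.1 h5

end Generic

variable {K : Type u} [Field K] {m : ℕ} (h : Ctx K m)

/-- `G¹` -/
local notation "G₁" => twistedG2 K (3 ^ m)

include h in
/-- elements of odd order centralising an involution lie in the projective factor -/
theorem iota_odd {t : ↥G₁} {ι : Multiplicative (ZMod 2) × Matrix.ProjectiveSpecialLinearGroup (Fin 2) K →* ↥G₁}
    (hinj : Function.Injective ι) (hr : ι.range = Subgroup.centralizer {t}) {n : ℕ} (hn : Odd n) {x : ↥G₁}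
    (hx : x ^ n = 1) (hc : x * t = t * x) : ∃ v, v ^ n = 1 ∧ x = ι (1, v) := by
  have := h.finite
  obtain ⟨⟨z, v⟩, rfl⟩ : x ∈ ι.range := by rw [hr]; exact Subgroup.mem_centralizer_singleton_iff.2 hc
  have e : ((z, v) : Multiplicative (ZMod 2) × Matrix.ProjectiveSpecialLinearGroup (Fin 2) K) ^ n = 1 :=
    hinj (by rw [map_pow, hx, map_one])
  rw [Prod.pow_mk, Prod.mk_eq_one] at e
  obtain ⟨l, rfl⟩ := hn
  have hz : z = 1 := by
    have := e.1
    rwa [pow_succ, pow_mul, pow_two, z2_sq, one_pow, one_mul] at this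
  exact ⟨v, e.2, by rw [hz]⟩

include h in
theorem q_add_one : 3 ^ (2 * m + 1) + 1 = 4 * nEll m := by
  obtain ⟨j, hj, -, e, -⟩ := arith m
  omega

include h in
/-- inside the centraliser of an involution -/
theorem ell_inner (hm : 1 ≤ m) {t y : ↥G₁} (ht : orderOf t = 2) (hy1 : y ≠ 1) (hy : y ^ nEll m = 1)
    (hc : y * t = t * y) :
    (∀ a ∈ Subgroup.centralizer {y} ⊓ Subgroup.centralizer {t}, ∀ b ∈ Subgroup.centralizer {y} ⊓ Subgroup.centralizer {t}, a * b = b * a) ∧
      Nat.card ↥(Subgroup.centralizer {y} ⊓ Subgroup.centralizer {t}) = 3 ^ (2 * m + 1) + 1 ∧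
      Nat.card {x : ↥(Subgroup.centralizer {y} ⊓ Subgroup.centralizer {t}) // x ^ 2 = 1} = 4 := by
  have := h.finite
  have := h.char
  let := Fintype.ofFinite K
  classical
  have hn : Odd (nEll m) := (odd_three m).2.1
  have hq4 : Fintype.card K + 1 = 4 * nEll m := by rw [← Nat.card_eq_fintype_card, h.card, q_add_one h]
  obtain ⟨ι, hinj, hr, -⟩ := card_centralizer_involution h hm ht
  obtain ⟨v, hv, rfl⟩ := iota_odd h hinj hr hn hy hc
  have hv1 : v ≠ 1 := fun e => hy1 (by rw [e]; exact map_one ι)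
  obtain ⟨g, rfl, hg⟩ := PSLTorus.exists_lift hn hv
  have hg1 : g ≠ 1 := fun e => hv1 (by rw [e, map_one])
  obtain ⟨hcyc, hcard⟩ := PSLTorus.centralizer_SL (PSLTorus.noEigen_odd hn hq4 h.char (three_not_dvd m).2.1 hg hg1)
  have h2 : (2 : K) ≠ 0 := PSLTorus.two_ne (PSLTorus.q_mod hn hq4)
  set f := toPSL.comp (Subgroup.centralizer {g}).subtype with hf
  have hJ : ∀ w, w ∈ f.range ↔ toPSL g * w = w * toPSL g := by
    intro w
    constructor
    · rintro ⟨⟨z, hz⟩, rfl⟩
      show toPSL g * toPSL z = toPSL z * toPSL g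
      rw [← map_mul, ← map_mul, Subgroup.mem_centralizer_singleton_iff.1 hz]
    · intro hw
      obtain ⟨z, rfl⟩ := toPSL_surjective w
      exact ⟨⟨z, Subgroup.mem_centralizer_singleton_iff.2 (PSLTorus.commute_lift h2 hn hg hw).symm⟩, rfl⟩
  have hJcard : Nat.card ↥f.range = 2 * nEll m := by
    have hk : Nat.card ↥f.ker = 2 := by
      rw [Nat.card_eq_two_iff]
      have hmem : (-1 : Matrix.SpecialLinearGroup (Fin 2) K) ∈ Subgroup.centralizer {g} := by
        rw [Subgroup.mem_centralizer_singleton_iff, neg_one_mul, mul_neg_one]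
      refine ⟨⟨1, one_mem _⟩, ⟨⟨-1, hmem⟩, MonoidHom.mem_ker.2 (toPSL_eq_one_iff.2 (Or.inr rfl))⟩, ?_, ?_⟩
      · intro e
        exact one_ne_neg_one_SL h2 (congrArg (fun z => z.1.1) e)
      · ext ⟨⟨z, hz⟩, hzk⟩
        simp only [Set.mem_insert_iff, Set.mem_singleton_iff, Set.mem_univ, iff_true, Subtype.mk.injEq]
        rcases toPSL_eq_one_iff.1 (MonoidHom.mem_ker.1 hzk : toPSL z = 1) with e | e
        · exact Or.inl (Subtype.ext e)
        · exact Or.inr e
    have := f.ker.card_mul_index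
    rw [Subgroup.index_ker, hk, hcard, hq4] at this
    omega
  have hJcyc : IsCyclic ↥f.range := isCyclic_of_surjective _ f.rangeRestrict_surjective
  let := hJcyc.commGroup
  let e : Multiplicative (ZMod 2) × ↥f.range →* ↥G₁ := ι.comp (MonoidHom.prodMap (MonoidHom.id _) f.range.subtype)
  have heinj : Function.Injective e := hinj.comp (fun a b hab => Prod.ext (congrArg Prod.fst hab :) (Subtype.ext (congrArg Prod.snd hab :)))
  have her : e.range = Subgroup.centralizer {ι (1, toPSL g)} ⊓ Subgroup.centralizer {t} := by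
    ext x
    rw [Subgroup.mem_inf, ← hr, Subgroup.mem_centralizer_singleton_iff]
    constructor
    · rintro ⟨⟨z, w⟩, rfl⟩
      refine ⟨?_, ⟨(z, w.1), rfl⟩⟩
      show ι (z, w.1) * ι (1, toPSL g) = ι (1, toPSL g) * ι (z, w.1)
      rw [← map_mul, ← map_mul, Prod.mk_mul_mk, Prod.mk_mul_mk, mul_one, one_mul, ((hJ _).1 w.2)]
    · rintro ⟨hx, ⟨⟨z, w⟩, rfl⟩⟩
      rw [← map_mul, ← map_mul] at hx
      exact ⟨(z, ⟨w, (hJ w).2 (congrArg Prod.snd (hinj hx)).symm⟩), rfl⟩
  refine ⟨?_, ?_, ?_⟩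
  · rw [← her]
    rintro _ ⟨a, rfl⟩ _ ⟨b, rfl⟩
    rw [← map_mul, ← map_mul, mul_comm]
  · rw [← her, ← Nat.card_congr (MonoidHom.ofInjective heinj).toEquiv, Nat.card_prod, hJcard, q_add_one h,
      show Nat.card (Multiplicative (ZMod 2)) = 2 by simp]
    ring
  · rw [← her]
    let E := MonoidHom.ofInjective heinj
    rw [← Nat.card_congr (Equiv.subtypeEquiv (p := fun p : Multiplicative (ZMod 2) × ↥f.range => p ^ 2 = 1) E.toEquiv
      (fun p => by show p ^ 2 = 1 ↔ E p ^ 2 = 1; rw [← map_pow, MulEquiv.map_eq_one_iff]))]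
    have : Nat.card {p : Multiplicative (ZMod 2) × ↥f.range // p ^ 2 = 1} =
        Nat.card (Multiplicative (ZMod 2)) * Nat.card ↥(powMonoidHom 2 : ↥f.range →* ↥f.range).ker := by
      rw [← Nat.card_prod]
      refine Nat.card_congr ⟨fun p => (p.1.1, ⟨p.1.2, congrArg Prod.snd p.2⟩),
        fun p => ⟨(p.1, p.2.1), Prod.ext (by rw [Prod.pow_fst, pow_two]; exact z2_sq _) p.2.2⟩,
        fun p => rfl, fun p => rfl⟩
    rw [this, IsCyclic.card_powMonoidHom_ker, hJcard, Nat.gcd_eq_right (Dvd.intro _ rfl)]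
    simp

include h in
theorem card_sylow_two (hm : 1 ≤ m) (S : Sylow 2 ↥G₁) : Nat.card S = 8 ∧ ∀ x ∈ S, x * x = 1 := by
  obtain ⟨b, hb, hb1, hb2⟩ := exists_involution h
  exact (involution_centralizer h b hb hb1 hb2).2 S

include h in
/-- two-elements are involutions -/
theorem two_element_sq (hm : 1 ≤ m) {x : ↥G₁} {k : ℕ} (hx : x ^ 2 ^ k = 1) : x * x = 1 := by
  have := h.finite
  have hp : IsPGroup 2 ↥(Subgroup.zpowers x) := by
    intro z
    obtain ⟨z, hz⟩ := z
    obtain ⟨i, rfl⟩ := Subgroup.mem_zpowers_iff.1 hz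
    refine ⟨k, Subtype.ext ?_⟩
    show (x ^ i) ^ 2 ^ k = 1
    rw [← zpow_natCast, ← zpow_mul, mul_comm, zpow_mul, zpow_natCast, hx, one_zpow]
  obtain ⟨S, hS⟩ := hp.exists_le_sylow
  exact (card_sylow_two h hm S).2 x (hS (Subgroup.mem_zpowers x))

include h in
/-- elements of three power order have exponent nine -/
theorem three_element {x : ↥G₁} {k : ℕ} (hx : x ^ 3 ^ k = 1) :
    x ^ 9 = 1 ∧ ∃ g : ↥G₁, (g * x * g⁻¹).1 ∈ chevG2.posUnipotent K := by
  have := h.finite
  have := h.char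
  have : Fact (Nat.Prime 3) := ⟨Nat.prime_three⟩
  have hidx : ¬ 3 ∣ ((chevG2.posUnipotent K ⊓ twistedG2 K (3 ^ m)).subgroupOf G₁).index := by
    intro hd
    have e := ((chevG2.posUnipotent K ⊓ twistedG2 K (3 ^ m)).subgroupOf G₁).card_mul_index
    rw [Nat.card_congr (Subgroup.subgroupOfEquivOfLe inf_le_right).toEquiv, card_unipotent h, card_eq h] at e
    obtain ⟨a1, a2, a3⟩ := three_not_dvd m
    have e' : ((chevG2.posUnipotent K ⊓ twistedG2 K (3 ^ m)).subgroupOf G₁).index = 8 * nSplit m * nEll m * nCox m :=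
      Nat.eq_of_mul_eq_mul_left (pow_pos (Nat.pow_pos (by norm_num)) 3) (e.trans (by ring))
    rw [e'] at hd
    simp [Nat.prime_three.dvd_mul, a1, a2, a3] at hd
  obtain ⟨g, hg⟩ := exists_conj_mem _ hidx hx
  refine ⟨?_, g, (Subgroup.mem_inf.1 (Subgroup.mem_subgroupOf.1 hg)).1⟩
  obtain ⟨t, u, v, e⟩ := (mem_unipotent_twisted h _).1 (Subgroup.mem_subgroupOf.1 hg)
  have key : (reeU m t u v ^ 3) ^ 3 = 1 := by
    obtain ⟨T, A, C, e3⟩ := (mem_unipotent_twisted h _).1
      (pow_mem ((mem_unipotent_twisted h _).2 ⟨t, u, v, rfl⟩) 3)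
    have hT : T = 0 := by
      rw [pow_succ, pow_two, reeU_eq, Ug_mul, Ug_mul, reeU_eq] at e3
      obtain ⟨-, e1, -⟩ := Ug_inj e3
      have h3 : (3 : K) = 0 := by exact_mod_cast CharP.cast_eq_zero K 3
      linear_combination -e1 + t * h3
    rw [e3]
    exact (cube_eq_one_iff h _ _ _).2 hT
  have h9 : (g * x * g⁻¹) ^ 9 = 1 := by
    apply Subtype.ext
    rw [Subgroup.coe_pow, e, show (9 : ℕ) = 3 * 3 from rfl, pow_mul]
    exact key
  rwa [conj_pow, conj_eq_one_iff] at h9

include h in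
set_option maxHeartbeats 1600000 in
/-- a prime order element of exponent `(q+1)/4` commuting with an involution -/
theorem ell_prime (hm : 1 ≤ m) {t y : ↥G₁} (ht : orderOf t = 2) (hy1 : y ≠ 1) (hy : y ^ nEll m = 1)
    (hc : y * t = t * y) : Subgroup.centralizer {y} ≤ Subgroup.centralizer {t} := by
  have := h.finite
  classical
  have : Fact (Nat.Prime 2) := ⟨Nat.prime_two⟩
  have hn : Odd (nEll m) := (odd_three m).2.1
  set D := Subgroup.centralizer {y} with hD
  set D0 := D ⊓ Subgroup.centralizer {t} with hD0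
  obtain ⟨-, hD0card, -⟩ := ell_inner h hm ht hy1 hy hc
  have hyodd : Odd (orderOf y) := hn.of_dvd_nat (orderOf_dvd_of_pow_eq_one hy)
  -- no elements of order three
  have h3 : ¬ 3 ∣ Nat.card ↥D := by
    intro hd
    have : Fact (Nat.Prime 3) := ⟨Nat.prime_three⟩
    obtain ⟨⟨u, hu⟩, hu3⟩ := exists_prime_orderOf_dvd_card' 3 hd
    rw [Subgroup.orderOf_mk] at hu3
    refine hy1 (centralizer_three h (x := u) (y := y) ?_ ?_ (Subgroup.mem_centralizer_singleton_iff.1 hu).symm ?_)
    · rw [show (9 : ℕ) = orderOf u * 3 by rw [hu3], pow_mul, pow_orderOf_eq_one, one_pow]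
    · intro e; rw [e, orderOf_one] at hu3; norm_num at hu3
    · have hd' := orderOf_dvd_of_pow_eq_one hy
      refine Nat.Coprime.coprime_dvd_left hd' (show Nat.Coprime (nEll m) (2 * 3) from Nat.Coprime.mul_right ?_ ?_)
      · exact (Nat.coprime_two_right).2 hn
      · exact Nat.Coprime.symm ((Nat.prime_three.coprime_iff_not_dvd).2 (three_not_dvd m).2.1)
  -- no Sylow subgroup of order eight
  have h8 : ¬ 8 ∣ Nat.card ↥D := by
    intro hd
    obtain ⟨E, hE⟩ := Sylow.exists_subgroup_card_pow_prime (G := ↥D) 2 (n := 3) (by norm_num; exact hd)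
    obtain ⟨S, hS⟩ := ((IsPGroup.of_card hE).map D.subtype).exists_le_sylow
    have hES : E.map D.subtype = S := Subgroup.eq_of_le_of_card_ge hS (by
      rw [(card_sylow_two h hm S).1, Subgroup.card_map_of_injective D.subtype_injective, hE]; norm_num)
    have hyS : y ∈ (S : Subgroup ↥G₁) := by
      rw [← (normalizer_sylow_two h hm S).1, Subgroup.mem_centralizer_iff]
      intro s hs
      rw [← hES] at hs
      obtain ⟨⟨s, hsD⟩, -, rfl⟩ := hs
      exact Subgroup.mem_centralizer_singleton_iff.1 hsD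
    have h2 : orderOf y ∣ 2 := orderOf_dvd_of_pow_eq_one (by rw [pow_two]; exact (card_sylow_two h hm S).2 y hyS)
    rcases (Nat.dvd_prime Nat.prime_two).1 h2 with e | e
    · exact hy1 (orderOf_eq_one_iff.1 e)
    · rw [e] at hyodd; exact absurd hyodd (by decide)
  have h4 : 4 ∣ Nat.card ↥D := by
    refine dvd_trans ?_ (Subgroup.card_dvd_of_le (inf_le_left : D0 ≤ D))
    rw [hD0card, q_add_one h]; exact Dvd.intro _ rfl
  obtain ⟨P⟩ : Nonempty (Sylow 2 ↥D) := inferInstance
  have hPcard : Nat.card ↥(P : Subgroup ↥D) = 4 := by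
    obtain ⟨l, hl⟩ := IsPGroup.iff_card.1 P.isPGroup'
    have a1 : 2 ^ 2 ∣ Nat.card ↥(P : Subgroup ↥D) := P.pow_dvd_card_of_pow_dvd_card (by norm_num; exact h4)
    have a2 : ¬ 2 ^ 3 ∣ Nat.card ↥(P : Subgroup ↥D) := fun a => h8 (by
      have := a.trans (Subgroup.card_subgroup_dvd_card _); norm_num at this; exact this)
    rw [hl] at a1 a2
    have b1 := (Nat.pow_dvd_pow_iff_le_right (by norm_num)).1 a1
    have b2 : ¬ 3 ≤ l := fun b => a2 (pow_dvd_pow 2 b)
    rw [hl, show l = 2 by omega]; norm_num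
  have hPsq : ∀ z ∈ (P : Subgroup ↥D), z * z = 1 := by
    intro z hz
    obtain ⟨k, hk⟩ := P.isPGroup' ⟨z, hz⟩
    exact Subtype.ext (two_element_sq h hm (k := k) (congrArg (fun a => a.1.1) hk))
  have hPodd : ¬ 2 ∣ (P : Subgroup ↥D).index := P.not_dvd_index
  have hPcomm : ∀ a ∈ (P : Subgroup ↥D), ∀ b ∈ (P : Subgroup ↥D), a * b = b * a := by
    intro a ha b hb
    calc a * b = (a * a) * (a * b) * (b * b) := by rw [hPsq a ha, hPsq b hb, one_mul, mul_one]
      _ = a * ((a * a) * (b * b)) * b := by group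
      _ = a * ((a * b) * (a * b)) * b := by rw [hPsq a ha, hPsq b hb, hPsq _ (mul_mem ha hb), one_mul]
      _ = (a * a) * (b * a) * (b * b) := by group
      _ = b * a := by rw [hPsq a ha, hPsq b hb, one_mul, mul_one]
  -- Burnside
  have hNC : Subgroup.normalizer ((P : Subgroup ↥D) : Set ↥D) ≤ Subgroup.centralizer ((P : Subgroup ↥D) : Set ↥D) := by
    set N := Subgroup.normalizer ((P : Subgroup ↥D) : Set ↥D)
    let f : ↥N →* Equiv.Perm ↥(P : Subgroup ↥D) :=
      (MulAut.toPerm _).comp (P : Subgroup ↥D).normalizerMonoidHom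
    have hle : (P : Subgroup ↥D).subgroupOf N ≤ f.ker := by
      intro a ha
      rw [MonoidHom.mem_ker]
      refine Equiv.ext fun b => Subtype.ext ?_
      show a.1 * b.1 * a.1⁻¹ = b.1
      rw [hPcomm a.1 ha b.1 b.2, mul_inv_cancel_right]
    have hd1 : Nat.card ↥f.range ∣ 24 := by
      have := Subgroup.card_subgroup_dvd_card f.range
      rwa [Nat.card_perm, hPcard] at this
    have hd2 : Nat.card ↥f.range ∣ (P : Subgroup ↥D).index := by
      rw [← Subgroup.index_ker]
      refine (Subgroup.index_dvd_of_le hle).trans ?_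
      exact Subgroup.relIndex_dvd_index_of_le (Subgroup.le_normalizer)
    have hd3 : ¬ 3 ∣ Nat.card ↥f.range := fun a =>
      h3 (a.trans (hd2.trans (Subgroup.index_dvd_card _)))
    have hd4 : ¬ 2 ∣ Nat.card ↥f.range := fun a => hPodd (a.trans hd2)
    have h1 : Nat.card ↥f.range = 1 := by
      have c2 : Nat.Coprime (Nat.card ↥f.range) 2 := ((Nat.prime_two.coprime_iff_not_dvd).2 hd4).symm
      have c3 : Nat.Coprime (Nat.card ↥f.range) 3 := ((Nat.prime_three.coprime_iff_not_dvd).2 hd3).symm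
      exact Nat.Coprime.eq_one_of_dvd (Nat.Coprime.mul_right (c2.pow_right 3) c3) hd1
    intro a ha b hb
    have : f ⟨a, ha⟩ = 1 := by
      have := (Subgroup.card_eq_one.1 h1).le ⟨⟨a, ha⟩, rfl⟩
      exact Subgroup.mem_bot.1 this
    have e := congrArg (fun σ : Equiv.Perm ↥(P : Subgroup ↥D) => (σ ⟨b, hb⟩).1) this
    change a * b * a⁻¹ = b at e
    rw [mul_inv_eq_iff_eq_mul] at e
    exact e.symm
  set M := (MonoidHom.transferSylow P hNC).ker with hM
  have hcompl := MonoidHom.ker_transferSylow_isComplement' P hNC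
  have hMcard : Nat.card ↥M * 4 = Nat.card ↥D := by rw [← hPcard]; exact hcompl.card_mul_card
  have hMn : M.Normal := MonoidHom.normal_ker _
  have hMdvd : Nat.card ↥M ∣ 3 ^ (2 * m + 1) + 1 := by
    rw [Nat.dvd_iff_prime_pow_dvd_dvd]
    intro r k hr hk
    rcases Nat.eq_zero_or_pos k with rfl | hk0
    · simp
    have : Fact r.Prime := ⟨hr⟩
    have hrD : r ∣ Nat.card ↥D := (dvd_pow_self r hk0.ne').trans (hk.trans (Dvd.intro _ hMcard))
    have hr3 : r ≠ 3 := fun e => h3 (e ▸ hrD)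
    have hrM : r ∣ Nat.card ↥M := (dvd_pow_self r hk0.ne').trans hk
    have hr2 : r ≠ 2 := by
      intro e
      refine MonoidHom.not_dvd_card_ker_transferSylow P hNC ?_
      rw [← hM]
      exact (dvd_of_eq e.symm).trans hrM
    obtain ⟨R⟩ : Nonempty (Sylow r ↥M) := inferInstance
    have hkR : r ^ k ∣ Nat.card ↥(R : Subgroup ↥M) := R.pow_dvd_card_of_pow_dvd_card hk
    refine hkR.trans ?_
    -- Frattini
    set N := Subgroup.normalizer (((R : Subgroup ↥M).map M.subtype : Subgroup ↥D) : Set ↥D) with hN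
    have hsup : N ⊔ M = ⊤ := Sylow.normalizer_sup_eq_top R
    have hN4 : 2 ^ 2 ∣ Nat.card ↥N := by
      have hprod : Nat.card ↥D ∣ Nat.card ↥N * Nat.card ↥M := by
        have e1 := M.card_mul_index
        have e2 : M.index ∣ Nat.card ↥N := by
          have := Subgroup.relIndex_sup_left (K := M) (H := N)
          rw [sup_comm] at hsup
          rw [hsup, Subgroup.relIndex_top_right] at this
          rw [this]
          exact Subgroup.index_dvd_card _
        rw [← e1, mul_comm]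
        exact Nat.mul_dvd_mul_right e2 _
      rw [← hMcard, mul_comm _ 4] at hprod
      have := Nat.dvd_of_mul_dvd_mul_right Nat.card_pos hprod
      exact this
    obtain ⟨Q, hQ⟩ := Sylow.exists_subgroup_card_pow_prime 2 hN4
    have hQsq : ∀ z ∈ Q, z * z = 1 := by
      intro z hz
      obtain ⟨k', hk'⟩ := IsPGroup.of_card hQ ⟨z, hz⟩
      exact Subtype.ext (Subtype.ext (two_element_sq h hm (k := k') (congrArg (fun a => a.1.1.1) hk')))
    -- the Sylow subgroup is cyclic
    set R' := ((R : Subgroup ↥M).map M.subtype).map D.subtype with hR'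
    have hR'card : Nat.card ↥R' = Nat.card ↥(R : Subgroup ↥M) := by
      rw [hR', Subgroup.card_map_of_injective D.subtype_injective, Subgroup.card_map_of_injective M.subtype_injective]
    obtain ⟨S, hS⟩ := ((R.isPGroup'.map M.subtype).map D.subtype).exists_le_sylow
    have hScyc := sylow_odd_cyclic h (p := r) (by have := hr.two_le; omega) S
    have hR'cyc : IsCyclic ↥R' := isCyclic_of_injective (Subgroup.inclusion hS) (Subgroup.inclusion_injective hS)
    obtain ⟨c, hc⟩ := hR'cyc.exists_generator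
    obtain ⟨l, hl⟩ := IsPGroup.iff_card.1 R.isPGroup'
    have hco : orderOf c.1 = r ^ l := by
      rw [Subgroup.orderOf_coe, orderOf_eq_card_of_forall_mem_zpowers hc, hR'card, hl]
    have hor : ∀ q ∈ Q, q.1.1 * c.1 * (q.1.1)⁻¹ = c.1 ∨ q.1.1 * c.1 * (q.1.1)⁻¹ = c.1⁻¹ := by
      intro q hq
      obtain ⟨c0, hc0, hcc⟩ := c.2
      have hmem : q.1.1 * c.1 * (q.1.1)⁻¹ ∈ R' := by
        refine ⟨q.1 * c0 * q.1⁻¹, (Subgroup.mem_normalizer_iff.1 q.2 c0).1 hc0, ?_⟩
        rw [← hcc]; rfl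
      obtain ⟨i, hi⟩ := Subgroup.mem_zpowers_iff.1 (hc ⟨_, hmem⟩)
      exact conj_eq_self_or_inv hr hr2 hco (congrArg (fun a => a.1.1) (hQsq q hq) :)
        (i := i) (congrArg Subtype.val hi).symm
    -- an involution centralising it
    obtain ⟨s, hsQ, hs1, hsc⟩ : ∃ s ∈ Q, s ≠ 1 ∧ s.1.1 * c.1 * (s.1.1)⁻¹ = c.1 := by
      by_contra hcon
      push Not at hcon
      have hQnt : 1 < Nat.card ↥Q := by rw [hQ]; norm_num
      obtain ⟨⟨a, ha⟩, ha1⟩ := @exists_ne ↥Q (Finite.one_lt_card_iff_nontrivial.1 hQnt) 1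
      have ha1' : a ≠ 1 := fun e => ha1 (Subtype.ext e)
      obtain ⟨b, hb, hb1, hba⟩ : ∃ b ∈ Q, b ≠ 1 ∧ b ≠ a := by
        by_contra hall
        push Not at hall
        have : Nat.card ↥Q ≤ 2 := by
          refine Nat.card_le_card_of_injective (fun z : ↥Q => decide (z.1 = 1)) ?_ |>.trans (by simp)
          intro z z' e
          by_cases hz : z.1 = 1 <;> by_cases hz' : z'.1 = 1 <;> simp [hz, hz'] at e
          · exact Subtype.ext (hz.trans hz'.symm)
          · exact Subtype.ext ((hall _ z.2 hz).trans (hall _ z'.2 hz').symm)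
        rw [hQ] at this; norm_num at this
      have e1 := (hor a ha).resolve_left (hcon a ha ha1')
      have e2 := (hor b hb).resolve_left (hcon b hb hb1)
      refine hcon (b * a) (mul_mem hb ha) (fun e => hba ?_) ?_
      · rw [mul_eq_one_iff_eq_inv.1 e, inv_eq_of_mul_eq_one_right (hQsq a ha)]
      · calc (b * a).1.1 * c.1 * ((b * a).1.1)⁻¹
            = b.1.1 * (a.1.1 * c.1 * (a.1.1)⁻¹) * (b.1.1)⁻¹ := by
              simp only [Subgroup.coe_mul, mul_inv_rev, mul_assoc]
          _ = b.1.1 * c.1⁻¹ * (b.1.1)⁻¹ := by rw [e1]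
          _ = c.1 := by rw [← conj_inv, e2, inv_inv]
    have hso : orderOf s.1.1 = 2 := by
      refine orderOf_eq_prime ?_ (fun e => hs1 (Subtype.ext (Subtype.ext e)))
      rw [pow_two]; exact congrArg (fun a => a.1.1) (hQsq s hsQ)
    have hsy : y * s.1.1 = s.1.1 * y := (Subgroup.mem_centralizer_singleton_iff.1 s.1.2).symm
    rw [← hR'card, ← (ell_inner h hm hso hy1 hy hsy).2.1]
    refine Subgroup.card_dvd_of_le fun x hx => ?_
    obtain ⟨i, hi⟩ := Subgroup.mem_zpowers_iff.1 (hc ⟨x, hx⟩)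
    have hx' : x = c.1 ^ i := (congrArg Subtype.val hi).symm
    refine Subgroup.mem_inf.2 ⟨?_, ?_⟩
    · obtain ⟨z, -, rfl⟩ := hx; exact z.2
    · rw [Subgroup.mem_centralizer_singleton_iff, hx']
      rw [mul_inv_eq_iff_eq_mul] at hsc
      exact ((show Commute c.1 s.1.1 from hsc.symm).zpow_left i).eq
  have hDdvd : Nat.card ↥D ∣ 3 ^ (2 * m + 1) + 1 := by
    rw [← hMcard]
    refine Nat.Coprime.mul_dvd_of_dvd_of_dvd ?_ hMdvd (by rw [q_add_one h]; exact Dvd.intro _ rfl)
    rw [show (4 : ℕ) = 2 ^ 2 by norm_num]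
    exact Nat.Coprime.pow_right 2 ((Nat.prime_two.coprime_iff_not_dvd).2
      (MonoidHom.not_dvd_card_ker_transferSylow P hNC)).symm
  have : D0 = D := Subgroup.eq_of_le_of_card_ge inf_le_left (by
    rw [hD0card]; exact Nat.le_of_dvd (Nat.succ_pos _) hDdvd)
  exact this ▸ inf_le_right

include h in
/-- centralisers of elements of exponent `(q+1)/4` -/
theorem ell_centralizer (hm : 1 ≤ m) {y : ↥G₁} (hy1 : y ≠ 1) (hy : y ^ nEll m = 1) :
    (∀ a ∈ Subgroup.centralizer {y}, ∀ b ∈ Subgroup.centralizer {y}, a * b = b * a) ∧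
      Nat.card ↥(Subgroup.centralizer {y}) = 3 ^ (2 * m + 1) + 1 ∧
      Nat.card {x : ↥(Subgroup.centralizer {y}) // x ^ 2 = 1} = 4 := by
  have := h.finite
  obtain ⟨p, hp, hpd, k, hk⟩ := exists_prime_power_elem hy1
  have : Fact p.Prime := ⟨hp⟩
  have hpn : p ∣ nEll m := hpd.trans (orderOf_dvd_of_pow_eq_one hy)
  obtain ⟨b, -, hb1, hb2⟩ := exists_involution h
  have hbo : orderOf b = 2 := orderOf_eq_prime (by rw [pow_two, hb2]) hb1
  have hidx : ¬ p ∣ (Subgroup.centralizer {b}).index := by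
    have e := (Subgroup.centralizer {b}).card_mul_index
    rw [card_centralizer_eq h hm hbo, card_eq h] at e
    have hne : 0 < 8 * 3 ^ (2 * m + 1) * nSplit m * nEll m := by
      have := (odd_three m).1.pos; have := (odd_three m).2.1.pos; positivity
    have e' : (Subgroup.centralizer {b}).index = (3 ^ (2 * m + 1)) ^ 2 * nCox m :=
      Nat.eq_of_mul_eq_mul_left hne (e.trans (by ring))
    rw [e', ← pow_mul]
    intro hd
    rcases hp.dvd_mul.1 hd with hd | hd
    · exact (three_not_dvd m).2.1 ((Nat.prime_dvd_prime_iff_eq hp Nat.prime_three).1 (hp.dvd_of_dvd_pow hd) ▸ hpn)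
    · exact hp.not_dvd_one ((coprime_cox m).2 ▸ Nat.dvd_gcd hd hpn)
  obtain ⟨g, hg⟩ := exists_conj_mem _ hidx (x := y ^ k) (k := 1) (by rw [pow_one, ← hk, pow_orderOf_eq_one])
  set y0 := y ^ k with hy0
  have hy01 : y0 ≠ 1 := fun e => hp.ne_one (by rw [← hk, e, orderOf_one])
  have hy0n : y0 ^ nEll m = 1 := by rw [hy0, ← pow_mul, mul_comm, pow_mul, hy, one_pow]
  set t := g⁻¹ * b * g with ht
  have hto : orderOf t = 2 := by
    rw [ht, show g⁻¹ * b * g = MulAut.conj g⁻¹ b by simp]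
    exact (MulEquiv.orderOf_eq _ _).trans hbo
  have hc : y0 * t = t * y0 := by
    rw [Subgroup.mem_centralizer_singleton_iff] at hg
    calc y0 * t = g⁻¹ * (g * y0 * g⁻¹ * b) * g := by rw [ht]; group
      _ = g⁻¹ * (b * (g * y0 * g⁻¹)) * g := by rw [hg]
      _ = t * y0 := by rw [ht]; group
  have hle := ell_prime h hm hto hy01 hy0n hc
  have hin := ell_inner h hm hto hy01 hy0n hc
  rw [inf_eq_left.2 hle] at hin
  rw [centralizer_eq_of_pow (y := y) (k := k) hin.1]
  exact hin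

end Cfsg.Agent.Suzuki.Ree
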