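import Cfsg.Agent.Suzuki.ReeTorusData

/-!
Normalisers of the tori of order `(q + 1) / 4`, and the centralisers of the elements whose order
divides `q ^ 2 - q + 1`, in the small Ree group.
-/

set_option autoImplicit false

universe u

namespace Cfsg.Agent.Suzuki.PSLTorus

open Cfsg.Agent.Linear
open scoped MatrixGroups

variable {F : Type*} [Field F] [Fintype F]

local notation "SL" => Matrix.SpecialLinearGroup (Fin 2) F
local notation "PSL" => Matrix.ProjectiveSpecialLinearGroup (Fin 2) F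

/-- lifts of elements commuting with the image of an element of order four -/
theorem lift_comm_or_anti {g j : SL} (hc : toPSL g * toPSL j = toPSL j * toPSL g) :
    g * j = j * g ∨ g * j = -(j * g) := by
  rwa [← map_mul, ← map_mul, toPSL_eq_iff] at hc

variable {n : ℕ} (hn : Odd n) (hq4 : Fintype.card F + 1 = 4 * n)

include hn hq4 in
/-- two elements of exponent `n` commuting with one involution commute -/
theorem commute_of_commute_involution {w v v' : PSL} (hw : orderOf w = 2) (hv : v ^ n = 1) (hv' : v' ^ n = 1)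
    (hc : v * w = w * v) (hc' : v' * w = w * v') : v * v' = v' * v := by
  have hq := q_mod hn hq4
  obtain ⟨j, hj, rfl⟩ := lift_of_involution hq hw
  obtain ⟨g, rfl, hg⟩ := exists_lift hn hv
  obtain ⟨g', rfl, hg'⟩ := exists_lift hn hv'
  obtain ⟨hcyc, -⟩ := centralizer_SL (noEigen_of_sq hq hj)
  let := hcyc.commGroup
  have := congrArg Subtype.val (mul_comm
    (⟨g, Subgroup.mem_centralizer_singleton_iff.2 (commute_lift (two_ne hq) hn hg hc)⟩ : ↥(Subgroup.centralizer {j}))
    ⟨g', Subgroup.mem_centralizer_singleton_iff.2 (commute_lift (two_ne hq) hn hg' hc')⟩)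
  rw [← map_mul, ← map_mul]
  exact congrArg toPSL this

include hn hq4 in
/-- the centraliser of an involution has order `q + 1` -/
theorem card_centralizer_involution {w : PSL} (hw : orderOf w = 2) :
    Nat.card ↥(Subgroup.centralizer {w}) = 4 * n := by
  classical
  have hq := q_mod hn hq4
  have h2 := two_ne hq
  obtain ⟨j, hj, rfl⟩ := lift_of_involution hq hw
  obtain ⟨hcyc, hcard⟩ := centralizer_SL (noEigen_of_sq hq hj)
  set f := toPSL.comp (Subgroup.centralizer {j}).subtype with hf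
  set C := Subgroup.centralizer {toPSL j}
  have hle : f.range ≤ C := by
    rintro _ ⟨⟨z, hz⟩, rfl⟩
    rw [Subgroup.mem_centralizer_singleton_iff]
    show toPSL z * toPSL j = toPSL j * toPSL z
    rw [← map_mul, ← map_mul, Subgroup.mem_centralizer_singleton_iff.1 hz]
  have hJcard : Nat.card ↥f.range = 2 * n := by
    have hk : Nat.card ↥f.ker = 2 := by
      rw [Nat.card_eq_two_iff]
      have hmem : (-1 : SL) ∈ Subgroup.centralizer {j} := by
        rw [Subgroup.mem_centralizer_singleton_iff, neg_one_mul, mul_neg_one]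
      refine ⟨⟨1, one_mem _⟩, ⟨⟨-1, hmem⟩, MonoidHom.mem_ker.2 (toPSL_eq_one_iff.2 (Or.inr rfl))⟩, ?_, ?_⟩
      · intro e
        exact one_ne_neg_one_SL h2 (congrArg (fun z => z.1.1) e)
      · ext ⟨⟨z, hz⟩, hzk⟩
        simp only [Set.mem_insert_iff, Set.mem_singleton_iff, Set.mem_univ, iff_true, Subtype.mk.injEq]
        rcases toPSL_eq_one_iff.1 (MonoidHom.mem_ker.1 hzk : toPSL z = 1) with e | e
        · exact Or.inl (Subtype.ext e)
        · exact Or.inr e
    have := f.ker.card_mul_index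
    rw [Subgroup.index_ker, hk, hcard, hq4] at this
    omega
  -- at most two cosets
  have hupper : Nat.card ↥C ≤ 2 * (2 * n) := by
    have hmul : ∀ x ∈ C, ∀ y ∈ C, x ∉ f.range → y ∉ f.range → x * y ∈ f.range := by
      intro x hx y hy hxn hyn
      rw [Subgroup.mem_centralizer_singleton_iff] at hx hy
      obtain ⟨g, rfl⟩ := toPSL_surjective x
      obtain ⟨g', rfl⟩ := toPSL_surjective y
      have ha := (lift_comm_or_anti hx).resolve_left fun e => hxn ⟨⟨g, Subgroup.mem_centralizer_singleton_iff.2 e⟩, rfl⟩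
      have hb := (lift_comm_or_anti hy).resolve_left fun e => hyn ⟨⟨g', Subgroup.mem_centralizer_singleton_iff.2 e⟩, rfl⟩
      refine ⟨⟨g * g', Subgroup.mem_centralizer_singleton_iff.2 ?_⟩, map_mul toPSL g g'⟩
      rw [mul_assoc, hb, mul_neg, ← mul_assoc, ha, neg_mul, neg_neg, mul_assoc]
    by_cases hall : C ≤ f.range
    · have := Nat.le_of_dvd Nat.card_pos (Subgroup.card_dvd_of_le hall)
      omega
    obtain ⟨x0, hx0, hx0n⟩ := SetLike.not_le_iff_exists.1 hall
    let F : Bool × ↥f.range → PSL := fun p => if p.1 then x0⁻¹ * p.2.1 else p.2.1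
    have : Nat.card ↥C ≤ Nat.card (Bool × ↥f.range) := by
      refine Nat.card_le_card_of_injective (fun c : ↥C => if hc : c.1 ∈ f.range then (false, ⟨c.1, hc⟩)
        else (true, ⟨x0 * c.1, hmul x0 hx0 c.1 c.2 hx0n hc⟩)) ?_
      intro c c' e
      dsimp only at e
      split_ifs at e <;> simp only [Prod.mk.injEq, Subtype.mk.injEq, Bool.false_eq_true, false_and, true_and,
        Bool.true_eq_false] at e
      · exact Subtype.ext e
      · exact Subtype.ext (mul_left_cancel e)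
    rw [Nat.card_prod, hJcard] at this
    simpa using this
  -- a Klein four-subgroup inside
  have hfour : 4 ∣ Nat.card ↥C := by
    obtain ⟨V, hV⟩ := KleinPSL.exists_klein (F := F) h2
    have : Fact (Nat.Prime 2) := ⟨Nat.prime_two⟩
    have h1 : 1 < Nat.card ↥V := by rw [hV.card_four]; norm_num
    obtain ⟨⟨a, ha⟩, ha1⟩ := @exists_ne ↥V (Finite.one_lt_card_iff_nontrivial.1 h1) 1
    have hao : orderOf a = 2 := orderOf_eq_prime (by rw [pow_two]; exact kleinFour_sq hV ha)
      (fun e => ha1 (Subtype.ext e))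
    obtain ⟨c, hc⟩ := isConj_iff.1 (involutions_conj h2 a _ hao hw)
    have hle' : V.map (MulAut.conj c).toMonoidHom ≤ C := by
      rintro _ ⟨b, hb, rfl⟩
      rw [Subgroup.mem_centralizer_singleton_iff, ← hc]
      show c * b * c⁻¹ * (c * a * c⁻¹) = c * a * c⁻¹ * (c * b * c⁻¹)
      have hab : b * a = a * b := by
        calc b * a = (a * a) * (b * a) * (b * b) := by rw [kleinFour_sq hV ha, kleinFour_sq hV hb, one_mul, mul_one]
          _ = a * ((a * b) * (a * b)) * b := by group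
          _ = a * b := by rw [kleinFour_sq hV (mul_mem ha hb), mul_one]
      calc c * b * c⁻¹ * (c * a * c⁻¹) = c * (b * a) * c⁻¹ := by group
        _ = c * (a * b) * c⁻¹ := by rw [hab]
        _ = c * a * c⁻¹ * (c * b * c⁻¹) := by group
    have := Subgroup.card_dvd_of_le hle'
    rwa [Subgroup.card_map_of_injective (MulEquiv.injective _), hV.card_four] at this
  obtain ⟨k, hk⟩ := (Subgroup.card_dvd_of_le hle)
  rw [hJcard] at hk
  have hk0 : k ≠ 0 := fun e => by rw [e, mul_zero] at hk; exact Nat.card_pos.ne' hk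
  have hkle : k ≤ 2 := by
    by_contra hlt
    have h3 : 2 * n * 3 ≤ 2 * n * k := Nat.mul_le_mul_left _ (by omega)
    have := hn.pos
    omega
  obtain ⟨l, rfl⟩ := hn
  rcases (show k = 1 ∨ k = 2 by omega) with rfl | rfl <;> omega

end Cfsg.Agent.Suzuki.PSLTorus

namespace Cfsg.Agent.Suzuki.Ree

open Cfsg.Lie Cfsg.Agent.Chev Cfsg.Agent.Linear
open scoped Matrix MatrixGroups Pointwise

variable {K : Type u} [Field K] {m : ℕ} (h : Ctx K m)

/-- `G¹` -/
local notation "G₁" => twistedG2 K (3 ^ m)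
/-- `PSL₂` -/
local notation "P₂" => Matrix.ProjectiveSpecialLinearGroup (Fin 2) K

theorem z2_cases : ∀ z : Multiplicative (ZMod 2), z = 1 ∨ z = Multiplicative.ofAdd 1 := by decide

include h in
/-- coordinates of the three involutions in the centraliser of one of them -/
theorem involution_coord (hm : 1 ≤ m) {t y : ↥G₁}
    {ι : Multiplicative (ZMod 2) × P₂ →* ↥G₁} (hinj : Function.Injective ι)
    (hr : ι.range = Subgroup.centralizer {t}) (hι : ι (Multiplicative.ofAdd 1, 1) = t)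
    (hy1 : y ≠ 1) (hy : y ^ nEll m = 1) {s : ↥G₁} (hs : orderOf s = 2) (hsy : y * s = s * y)
    (hst : s * t = t * s) (hne : s ≠ t) (hty : y * t = t * y) :
    ∃ z v w, y = ι (1, v) ∧ v ^ nEll m = 1 ∧ v ≠ 1 ∧ s = ι (z, w) ∧ orderOf w = 2 ∧ v * w = w * v := by
  have := h.finite
  obtain ⟨v, hv, rfl⟩ := iota_odd h hinj hr (odd_three m).2.1 hy hty
  have hv1 : v ≠ 1 := fun e => hy1 (by rw [e]; exact map_one ι)
  obtain ⟨⟨z, w⟩, rfl⟩ : s ∈ ι.range := by rw [hr]; exact Subgroup.mem_centralizer_singleton_iff.2 hst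
  refine ⟨z, v, w, rfl, hv, hv1, rfl, ?_, ?_⟩
  · have e : ((z, w) : Multiplicative (ZMod 2) × P₂) ^ 2 = 1 := hinj (by
      rw [map_pow, map_one]
      have := pow_orderOf_eq_one (ι (z, w))
      rwa [hs] at this)
    refine orderOf_eq_prime (congrArg Prod.snd e) fun hw => ?_
    rcases z2_cases z with rfl | rfl
    · rw [hw, Prod.mk_one_one, map_one, orderOf_one] at hs; norm_num at hs
    · exact hne (by rw [hw, hι])
  · rw [← map_mul, ← map_mul] at hsy
    exact congrArg Prod.snd (hinj hsy)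

include h in
/-- the normaliser of a torus of order `(q+1)/4` -/
theorem card_normalizer_ell (hm : 1 ≤ m) {y : ↥G₁} (hy1 : y ≠ 1) (hy : y ^ nEll m = 1) {A : Subgroup ↥G₁}
    (hA : ∀ x, x ∈ A ↔ x ∈ Subgroup.centralizer {y} ∧ x ^ nEll m = 1) :
    Nat.card ↥(Subgroup.normalizer (A : Set ↥G₁)) = 6 * (3 ^ (2 * m + 1) + 1) := by
  classical
  have := h.finite
  have := h.char
  let := Fintype.ofFinite K
  have hn : Odd (nEll m) := (odd_three m).2.1
  have hq4 : Fintype.card K + 1 = 4 * nEll m := by rw [← Nat.card_eq_fintype_card, h.card, q_add_one h]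
  obtain ⟨hc, hcard, hinv⟩ := ell_centralizer h hm hy1 hy
  set D := Subgroup.centralizer {y} with hD
  have hyD : y ∈ D := Subgroup.mem_centralizer_singleton_iff.2 rfl
  let T := {x : ↥G₁ // x ∈ D ∧ orderOf x = 2}
  have hT3 : Nat.card T = 3 := by
    have e : Nat.card T = Nat.card {x : {z : ↥D // z ^ 2 = 1} // x ≠ ⟨1, one_pow _⟩} := by
      refine Nat.card_congr ⟨fun x => ⟨⟨⟨x.1, x.2.1⟩, Subtype.ext (by
          have := pow_orderOf_eq_one x.1
          rwa [x.2.2] at this)⟩, fun e => ?_⟩,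
        fun x => ⟨x.1.1.1, x.1.1.2, ?_⟩, fun x => rfl, fun x => rfl⟩
      · have e' : x.1 = 1 := congrArg (fun z : {z : ↥D // z ^ 2 = 1} => z.1.1) e
        have h2 := x.2.2
        rw [e', orderOf_one] at h2
        norm_num at h2
      · exact orderOf_eq_prime (congrArg Subtype.val x.1.2) fun e => x.2 (Subtype.ext (Subtype.ext e))
    let := Fintype.ofFinite {z : ↥D // z ^ 2 = 1}
    rw [e, Nat.card_eq_fintype_card, Fintype.card_subtype_compl, Fintype.card_subtype_eq, ← Nat.card_eq_fintype_card, hinv]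
  have hTy : ∀ x : T, y * x.1 = x.1 * y := fun x => (Subgroup.mem_centralizer_singleton_iff.1 x.2.1).symm
  have hTc : ∀ x x' : T, x.1 * x'.1 = x'.1 * x.1 := fun x x' => hc _ x.2.1 _ x'.2.1
  obtain ⟨t, s, hts⟩ : ∃ t s : T, t ≠ s := by
    have hnt : Nontrivial T := Finite.one_lt_card_iff_nontrivial.1 (by rw [hT3]; norm_num)
    exact exists_pair_ne T
  -- elements of exponent `n` commuting with two involutions lie in the torus
  have hL : ∀ a b : T, a ≠ b → ∀ x : ↥G₁, x ^ nEll m = 1 → x * a.1 = a.1 * x → x * b.1 = b.1 * x → x ∈ A := by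
    intro a b hab x hx hxa hxb
    obtain ⟨ι, hinj, hr, hι⟩ := card_centralizer_involution h hm a.2.2
    obtain ⟨z, v, w, hyv, hv, -, hbw, hw, hvw⟩ := involution_coord h hm hinj hr hι hy1 hy b.2.2 (hTy b) (hTc b a)
      (fun e => hab (Subtype.ext e.symm)) (hTy a)
    obtain ⟨v', hv', rfl⟩ := iota_odd h hinj hr hn hx hxa
    refine (hA _).2 ⟨Subgroup.mem_centralizer_singleton_iff.2 ?_, hx⟩
    rw [hbw, ← map_mul, ← map_mul] at hxb
    rw [hyv, ← map_mul, ← map_mul, Prod.mk_mul_mk, Prod.mk_mul_mk,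
      PSLTorus.commute_of_commute_involution hn hq4 hw hv' hv (congrArg Prod.snd (hinj hxb)) hvw]
  have hAc : ∀ y : ↥G₁, y ≠ 1 → y ^ nEll m = 1 →
      ∀ a ∈ Subgroup.centralizer {y}, ∀ b ∈ Subgroup.centralizer {y}, a * b = b * a :=
    fun y h1 h2 => (ell_centralizer h hm h1 h2).1
  have hcA := isCyclic_of_comm h A (fun a ha b hb => hc a ((hA a).1 ha).1 b ((hA b).1 hb).1) (fun r hr hd =>
    prime_gt_three hn (three_not_dvd m).2.1 hr (prime_dvd_of_exponent h (fun x hx => ((hA x).1 hx).2) hr hd))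
  have hND := (normalizer_torus hAc hy1 hy hA hcA).2.1
  set N := Subgroup.normalizer (A : Set ↥G₁) with hN
  have hyA : y ∈ A := (hA y).2 ⟨hyD, hy⟩
  -- moving two involutions into the set puts us into the normaliser
  have hinN : ∀ g : ↥G₁, ∀ a b : T, a ≠ b → (∀ x : T, x = a ∨ x = b → g * x.1 * g⁻¹ ∈ D) → g ∈ N := by
    intro g a b hab hg
    have hconjT : ∀ x : T, x = a ∨ x = b → ∃ x' : T, x'.1 = g * x.1 * g⁻¹ := fun x hx =>
      ⟨⟨_, hg x hx, by rw [← MulAut.conj_apply, MulEquiv.orderOf_eq]; exact x.2.2⟩, rfl⟩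
    obtain ⟨a', ha'⟩ := hconjT a (Or.inl rfl)
    obtain ⟨b', hb'⟩ := hconjT b (Or.inr rfl)
    have hab' : a' ≠ b' := fun e => hab (Subtype.ext (by
      have : g * a.1 * g⁻¹ = g * b.1 * g⁻¹ := by rw [← ha', ← hb', e]
      exact mul_left_cancel (mul_right_cancel this)))
    refine (normalizer_torus hAc hy1 hy hA hcA).2.2 g (hL a' b' hab' _ ?_ ?_ ?_)
    · rw [conj_pow, conj_eq_one_iff]; exact hy
    · rw [ha']
      calc g * y * g⁻¹ * (g * a.1 * g⁻¹) = g * (y * a.1) * g⁻¹ := by group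
        _ = g * (a.1 * y) * g⁻¹ := by rw [hTy a]
        _ = _ := by group
    · rw [hb']
      calc g * y * g⁻¹ * (g * b.1 * g⁻¹) = g * (y * b.1) * g⁻¹ := by group
        _ = g * (b.1 * y) * g⁻¹ := by rw [hTy b]
        _ = _ := by group
  -- the action on the three involutions
  have hact : ∀ g ∈ N, ∀ x : T, g * x.1 * g⁻¹ ∈ D ∧ orderOf (g * x.1 * g⁻¹) = 2 := fun g hg x =>
    ⟨(Subgroup.mem_normalizer_iff.1 (hND ▸ hg) _).1 x.2.1, by
      rw [← MulAut.conj_apply, MulEquiv.orderOf_eq]; exact x.2.2⟩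
  let ψ : ↥N → T → T := fun g x => ⟨g.1 * x.1 * g.1⁻¹, hact g.1 g.2 x⟩
  let φ : ↥N →* Equiv.Perm T := MonoidHom.mk' (fun g =>
    ⟨ψ g, ψ g⁻¹, fun x => Subtype.ext (by show g.1⁻¹ * (g.1 * x.1 * g.1⁻¹) * g.1⁻¹⁻¹ = x.1; group),
      fun x => Subtype.ext (by show g.1 * (g.1⁻¹ * x.1 * g.1⁻¹⁻¹) * g.1⁻¹ = x.1; group)⟩)
    (fun g g' => Equiv.ext fun x => Subtype.ext (by
      show g.1 * g'.1 * x.1 * (g.1 * g'.1)⁻¹ = g.1 * (g'.1 * x.1 * g'.1⁻¹) * g.1⁻¹
      group))
  -- fixing one involution means fixing all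
  have hfix : ∀ g : ↥N, φ g t = t → φ g = 1 := by
    intro g hg
    refine Equiv.ext fun x => ?_
    show φ g x = x
    by_cases hxt : x = t
    · rw [hxt]; exact hg
    obtain ⟨ι, hinj, hr, hι⟩ := card_centralizer_involution h hm t.2.2
    have hgt : g.1 * t.1 = t.1 * g.1 := mul_inv_eq_iff_eq_mul.1 (congrArg Subtype.val hg)
    obtain ⟨⟨a, u⟩, hgu⟩ : g.1 ∈ ι.range := by rw [hr]; exact Subgroup.mem_centralizer_singleton_iff.2 hgt
    obtain ⟨z, v, w, hyv, hv, hv1, hxw, hw, hvw⟩ := involution_coord h hm hinj hr hι hy1 hy x.2.2 (hTy x) (hTc x t)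
      (fun e => hxt (Subtype.ext e)) (hTy t)
    have hne : (φ g x).1 ≠ t.1 := fun e => hxt ((φ g).injective ((Subtype.ext e).trans hg.symm))
    obtain ⟨z', v', w', hyv', -, -, hxw', hw', hvw'⟩ := involution_coord h hm hinj hr hι hy1 hy (φ g x).2.2
      (hTy (φ g x)) (hTc (φ g x) t) hne (hTy t)
    have hvv : v' = v := congrArg Prod.snd (hinj (hyv'.symm.trans hyv))
    rw [hvv] at hvw'
    obtain ⟨w0, -, huniq⟩ := PSLTorus.unique_involution hn hq4 h.char (three_not_dvd m).2.1 hv hv1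
    have hww : w' = w := (huniq w' ⟨hw', hvw'⟩).trans (huniq w ⟨hw, hvw⟩).symm
    refine Subtype.ext ?_
    have e : (φ g x).1 = g.1 * x.1 * g.1⁻¹ := rfl
    rw [hxw', hxw, ← hgu, ← map_inv, ← map_mul, ← map_mul] at e
    have hz : z' = z := by
      have := congrArg Prod.fst (hinj e)
      simpa [mul_comm a z, mul_assoc] using this
    rw [hxw', hxw, hz, hww]
  -- the image has order three
  have hrange : Nat.card ↥φ.range = 3 := by
    refine Eq.trans ?_ hT3
    refine Nat.card_eq_of_bijective (fun σ : ↥φ.range => σ.1 t) ⟨?_, ?_⟩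
    · rintro ⟨_, g, rfl⟩ ⟨_, g', rfl⟩ e
      apply Subtype.ext
      show φ g = φ g'
      rw [← inv_mul_eq_one, ← map_inv, ← map_mul]
      refine hfix _ ?_
      rw [map_mul, map_inv, Equiv.Perm.mul_apply, ← (show φ g t = φ g' t from e)]
      exact (φ g).symm_apply_apply t
    · intro x
      by_cases hxt : x = t
      · exact ⟨1, by rw [hxt]; rfl⟩
      -- move `t` to `x`, then correct inside the centraliser of `x`
      obtain ⟨k, hk⟩ := isConj_iff.1 (involutions_conj_all h hm t.2.2 x.2.2)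
      obtain ⟨ι, hinj, hr, hι⟩ := card_centralizer_involution h hm x.2.2
      obtain ⟨z, v, w, hyv, hv, hv1, htw, hw, hvw⟩ := involution_coord h hm hinj hr hι hy1 hy t.2.2 (hTy t) (hTc t x)
        (fun e => hxt (Subtype.ext e.symm)) (hTy x)
      -- the image of `x`
      obtain ⟨⟨z', w'⟩, hkx⟩ : k * x.1 * k⁻¹ ∈ ι.range := by
        rw [hr, Subgroup.mem_centralizer_singleton_iff]
        calc k * x.1 * k⁻¹ * x.1 = k * x.1 * k⁻¹ * (k * t.1 * k⁻¹) := by rw [hk]
          _ = k * (x.1 * t.1) * k⁻¹ := by group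
          _ = k * (t.1 * x.1) * k⁻¹ := by rw [hTc x t]
          _ = k * t.1 * k⁻¹ * (k * x.1 * k⁻¹) := by group
          _ = x.1 * (k * x.1 * k⁻¹) := by rw [hk]
      have hw' : orderOf w' = 2 := by
        have hsq : k * x.1 * k⁻¹ * (k * x.1 * k⁻¹) = 1 := by
          have hxx : x.1 * x.1 = 1 := by
            have := pow_orderOf_eq_one x.1
            rwa [x.2.2, pow_two] at this
          rw [show k * x.1 * k⁻¹ * (k * x.1 * k⁻¹) = k * (x.1 * x.1) * k⁻¹ by group, hxx, mul_one, mul_inv_cancel]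
        rw [← hkx, ← map_mul] at hsq
        refine orderOf_eq_prime (by rw [pow_two]; exact congrArg Prod.snd (hinj (hsq.trans (map_one ι).symm))) ?_
        intro e1
        rcases z2_cases z' with rfl | rfl
        · rw [e1, Prod.mk_one_one, map_one, eq_comm, conj_eq_one_iff] at hkx
          have := x.2.2
          rw [hkx, orderOf_one] at this
          norm_num at this
        · rw [e1, hι] at hkx
          have : k * x.1 * k⁻¹ = k * t.1 * k⁻¹ := by rw [hk]; exact hkx.symm
          exact hxt (Subtype.ext (mul_left_cancel (mul_right_cancel this)))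
      obtain ⟨u, hu⟩ := isConj_iff.1 (Linear.involutions_conj (PSLTorus.two_ne (PSLTorus.q_mod hn hq4)) w' w hw' hw)
      set g := ι (1, u) * k with hg
      have hgt : g * t.1 * g⁻¹ = x.1 := by
        rw [hg, show ι (1, u) * k * t.1 * (ι (1, u) * k)⁻¹ = ι (1, u) * (k * t.1 * k⁻¹) * (ι (1, u))⁻¹ by group, hk]
        have hux : ι (1, u) ∈ Subgroup.centralizer {x.1} := hr ▸ ⟨_, rfl⟩
        rw [Subgroup.mem_centralizer_singleton_iff.1 hux, mul_inv_cancel_right]
      have hgx : g * x.1 * g⁻¹ ∈ D := by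
        rw [hg, show ι (1, u) * k * x.1 * (ι (1, u) * k)⁻¹ = ι (1, u) * (k * x.1 * k⁻¹) * (ι (1, u))⁻¹ by group,
          ← hkx, ← map_inv, ← map_mul, ← map_mul, Prod.inv_mk, Prod.mk_mul_mk, Prod.mk_mul_mk, inv_one, one_mul,
          mul_one, hu]
        have e : ι (z', w) = ι (z' * z⁻¹, 1) * t.1 := by
          rw [htw, ← map_mul, Prod.mk_mul_mk, inv_mul_cancel_right, one_mul]
        rw [e]
        refine mul_mem ?_ t.2.1
        rcases z2_cases (z' * z⁻¹) with e' | e' <;> rw [e']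
        · rw [Prod.mk_one_one, map_one]; exact one_mem _
        · rw [hι]; exact x.2.1
      have hgN : g ∈ N := hinN g t x (fun e => hxt e.symm) (by
        rintro x' (e | e) <;> subst x'
        · rw [hgt]; exact x.2.1
        · exact hgx)
      exact ⟨⟨φ ⟨g, hgN⟩, ⟨g, hgN⟩, rfl⟩, Subtype.ext hgt⟩
  -- the kernel is the centraliser of the four-group
  have hker : Nat.card ↥φ.ker = 2 * (3 ^ (2 * m + 1) + 1) := by
    obtain ⟨ι, hinj, hr, hι⟩ := card_centralizer_involution h hm t.2.2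
    obtain ⟨z, v, w, hyv, hv, hv1, hsw, hw, hvw⟩ := involution_coord h hm hinj hr hι hy1 hy s.2.2 (hTy s) (hTc s t)
      (fun e => hts (Subtype.ext e.symm)) (hTy t)
    have hcw := PSLTorus.card_centralizer_involution hn hq4 hw
    let e : Multiplicative (ZMod 2) × ↥(Subgroup.centralizer {w}) →* ↥G₁ :=
      ι.comp (MonoidHom.prodMap (MonoidHom.id _) (Subgroup.centralizer {w}).subtype)
    have heinj : Function.Injective e := hinj.comp (fun a b hab =>
      Prod.ext (congrArg Prod.fst hab :) (Subtype.ext (congrArg Prod.snd hab :)))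
    have her : ∀ g, g ∈ e.range ↔ g * t.1 = t.1 * g ∧ g * s.1 = s.1 * g := by
      intro g
      constructor
      · rintro ⟨⟨a, u⟩, rfl⟩
        refine ⟨?_, ?_⟩
        · exact Subgroup.mem_centralizer_singleton_iff.1 (hr ▸ ⟨_, rfl⟩)
        · show ι (a, u.1) * s.1 = s.1 * ι (a, u.1)
          rw [hsw, ← map_mul, ← map_mul, Prod.mk_mul_mk, Prod.mk_mul_mk, mul_comm a,
            Subgroup.mem_centralizer_singleton_iff.1 u.2]
      · rintro ⟨h1, h2⟩
        obtain ⟨⟨a, u⟩, rfl⟩ : g ∈ ι.range := by rw [hr]; exact Subgroup.mem_centralizer_singleton_iff.2 h1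
        rw [hsw, ← map_mul, ← map_mul] at h2
        exact ⟨(a, ⟨u, Subgroup.mem_centralizer_singleton_iff.2 (congrArg Prod.snd (hinj h2))⟩), rfl⟩
    have hk : φ.ker.map N.subtype = e.range := by
      ext g
      rw [Subgroup.mem_map, her]
      constructor
      · rintro ⟨g, hg, rfl⟩
        rw [MonoidHom.mem_ker] at hg
        exact ⟨mul_inv_eq_iff_eq_mul.1 (congrArg (fun σ : Equiv.Perm T => (σ t).1) hg),
          mul_inv_eq_iff_eq_mul.1 (congrArg (fun σ : Equiv.Perm T => (σ s).1) hg)⟩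
      · rintro ⟨h1, h2⟩
        have hgN : g ∈ N := hinN g t s hts (by
          rintro x (e | e) <;> subst x
          · rw [mul_inv_eq_iff_eq_mul.2 h1]; exact t.2.1
          · rw [mul_inv_eq_iff_eq_mul.2 h2]; exact s.2.1)
        exact ⟨⟨g, hgN⟩, MonoidHom.mem_ker.2 (hfix _ (Subtype.ext (mul_inv_eq_iff_eq_mul.2 h1))), rfl⟩
    rw [← Subgroup.card_map_of_injective N.subtype_injective, hk, ← Nat.card_congr (MonoidHom.ofInjective heinj).toEquiv,
      Nat.card_prod, hcw, show Nat.card (Multiplicative (ZMod 2)) = 2 by simp, q_add_one h]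
  rw [← φ.ker.card_mul_index, Subgroup.index_ker, hker, hrange]
  ring

include h in
/-- the data of a torus of order `(q+1)/4` -/
theorem ell_data (hm : 1 ≤ m) {y : ↥G₁} (hy1 : y ≠ 1) (hy : y ^ nEll m = 1) {A : Subgroup ↥G₁}
    (hA : ∀ x, x ∈ A ↔ x ∈ Subgroup.centralizer {y} ∧ x ^ nEll m = 1) :
    IsCyclic ↥A ∧ Nat.card ↥A = nEll m := by
  classical
  have := h.finite
  obtain ⟨hc, hcard, hinv⟩ := ell_centralizer h hm hy1 hy
  set D := Subgroup.centralizer {y}
  have hn : Odd (nEll m) := (odd_three m).2.1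
  refine ⟨isCyclic_of_comm h A (fun a ha b hb => hc a ((hA a).1 ha).1 b ((hA b).1 hb).1) (fun r hr hd =>
    prime_gt_three hn (three_not_dvd m).2.1 hr (prime_dvd_of_exponent h (fun x hx => ((hA x).1 hx).2) hr hd)), ?_⟩
  let : CommGroup ↥D := { (inferInstance : Group ↥D) with mul_comm := fun a b => Subtype.ext (hc _ a.2 _ b.2) }
  set f := (powMonoidHom (nEll m) : ↥D →* ↥D) with hf
  have hAeq : A = f.ker.map D.subtype := by
    ext x
    rw [hA, Subgroup.mem_map]
    constructor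
    · rintro ⟨h1, h2⟩
      exact ⟨⟨x, h1⟩, MonoidHom.mem_ker.2 (Subtype.ext h2), rfl⟩
    · rintro ⟨z, hz, rfl⟩
      exact ⟨z.2, congrArg Subtype.val (MonoidHom.mem_ker.1 hz)⟩
  rw [hAeq, Subgroup.card_map_of_injective D.subtype_injective]
  have hmul : Nat.card ↥f.ker * Nat.card ↥f.range = 4 * nEll m := by
    rw [← Subgroup.index_ker, f.ker.card_mul_index, hcard, q_add_one h]
  have hrle : Nat.card ↥f.range ≤ 4 := by
    rw [← hinv]
    refine Nat.card_le_card_of_injective (fun x : ↥f.range => (⟨x.1, ?_⟩ : {x : ↥D // x ^ 2 = 1}))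
      (fun a b e => Subtype.ext (congrArg Subtype.val e :))
    obtain ⟨z, hz⟩ := x.2
    have h4 : (x.1.1) ^ 2 ^ 2 = 1 := by
      rw [← hz]
      show ((z ^ nEll m : ↥D)).1 ^ 2 ^ 2 = 1
      have := congrArg Subtype.val (pow_card_eq_one' (x := z))
      rw [hcard, q_add_one h, mul_comm, pow_mul] at this
      exact this
    exact Subtype.ext (by rw [SubgroupClass.coe_pow, pow_two]; exact two_element_sq h hm h4)
  have hodd : Odd (Nat.card ↥f.ker) := by
    rw [← Nat.not_even_iff_odd, even_iff_two_dvd]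
    intro hd
    have : Fact (Nat.Prime 2) := ⟨Nat.prime_two⟩
    obtain ⟨⟨a, ha⟩, hao⟩ := exists_prime_orderOf_dvd_card' 2 hd
    rw [Subgroup.orderOf_mk] at hao
    exact Odd.not_two_dvd_nat hn (hao ▸ orderOf_dvd_of_pow_eq_one (MonoidHom.mem_ker.1 ha))
  have hge : nEll m ≤ Nat.card ↥f.ker := by
    have := Nat.mul_le_mul_left (Nat.card ↥f.ker) hrle
    omega
  have hdvd : Nat.card ↥f.ker ∣ nEll m :=
    (Nat.Coprime.pow_right 2 ((Nat.coprime_two_right).2 hodd)).dvd_of_dvd_mul_left (by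
      show Nat.card ↥f.ker ∣ 2 ^ 2 * nEll m
      exact Dvd.intro _ (by rw [hmul]))
  exact Nat.le_antisymm (Nat.le_of_dvd hn.pos hdvd) hge

include h in
/-- arithmetic of the field order modulo a prime divisor of `q² − q + 1` -/
theorem cox_ord {p : ℕ} (hp : p.Prime) (hpd : p ∣ nCox m) :
    ¬ p ∣ 3 ^ (2 * m + 1) ∧ ∀ d : ℕ, 1 ≤ d → d ≤ 7 → p ∣ (3 ^ (2 * m + 1)) ^ d - 1 → d = 6 := by
  have : Fact p.Prime := ⟨hp⟩
  have hp3 : 3 < p := prime_gt_three (odd_three m).2.2 (three_not_dvd m).2.2 hp hpd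
  obtain ⟨j, hj, e1, e2, e3⟩ := arith m
  set q := 3 ^ (2 * m + 1) with hq
  have hq1 : 1 ≤ q := Nat.one_le_pow _ _ (by norm_num)
  have hnq : ¬ p ∣ q := fun e => by
    have := (Nat.prime_dvd_prime_iff_eq hp Nat.prime_three).1 (hp.dvd_of_dvd_pow e); omega
  have hd : ∀ a, (a = q - 1 ∨ a = q + 1) → ¬ p ∣ a := by
    rintro a (rfl | rfl) hdd
    · rw [show q - 1 = 2 * nSplit m by omega] at hdd
      rcases hp.dvd_mul.1 hdd with e | e
      · have := (Nat.prime_dvd_prime_iff_eq hp Nat.prime_two).1 e; omega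
      · exact hp.not_dvd_one ((coprime_cox m).1 ▸ Nat.dvd_gcd hpd e)
    · rw [show q + 1 = 2 * (2 * nEll m) by omega] at hdd
      rcases hp.dvd_mul.1 hdd with e | e
      · have := (Nat.prime_dvd_prime_iff_eq hp Nat.prime_two).1 e; omega
      · rcases hp.dvd_mul.1 e with e | e
        · have := (Nat.prime_dvd_prime_iff_eq hp Nat.prime_two).1 e; omega
        · exact hp.not_dvd_one ((coprime_cox m).2 ▸ Nat.dvd_gcd hpd e)
  have hq3 : p ∣ q ^ 3 + 1 := by
    refine hpd.trans (Dvd.intro_left (q + 1) ?_)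
    rw [e3, hj]; ring
  refine ⟨hnq, fun d hd1 hd7 hpdd => ?_⟩
  have z3 : (q : ZMod p) ^ 3 = -1 := by
    have : ((q ^ 3 + 1 : ℕ) : ZMod p) = 0 := (ZMod.natCast_eq_zero_iff _ _).2 hq3
    push_cast at this
    linear_combination this
  have zd : (q : ZMod p) ^ d = 1 := by
    have : ((q ^ d - 1 : ℕ) : ZMod p) = 0 := (ZMod.natCast_eq_zero_iff _ _).2 hpdd
    rw [Nat.cast_sub (Nat.one_le_pow _ _ hq1)] at this
    push_cast at this
    linear_combination this
  have z1 : (q : ZMod p) ≠ 1 := fun e => hd _ (Or.inl rfl) ((ZMod.natCast_eq_zero_iff _ _).1 (by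
    rw [Nat.cast_sub hq1, e]; simp))
  have z2 : (q : ZMod p) ≠ -1 := fun e => hd _ (Or.inr rfl) ((ZMod.natCast_eq_zero_iff _ _).1 (by
    push_cast; rw [e]; ring))
  have h2 : (2 : ZMod p) ≠ 0 := fun e => by
    have := (ZMod.natCast_eq_zero_iff 2 p).1 (by exact_mod_cast e)
    exact absurd (Nat.le_of_dvd (by norm_num) this) (by omega)
  interval_cases d
  · exact absurd (by simpa using zd) z1
  · rcases sq_eq_one_iff.1 zd with e | e
    · exact absurd e z1
    · exact absurd e z2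
  · exact absurd (show (2 : ZMod p) = 0 by linear_combination z3 - zd) h2
  · refine absurd ?_ z2
    linear_combination (-1 : ZMod p) * zd + (q : ZMod p) * z3
  · have e4 : (q : ZMod p) ^ 2 = -1 := by linear_combination (q : ZMod p) ^ 2 * z3 - zd
    exact absurd (show (q : ZMod p) = 1 by linear_combination (q : ZMod p) * e4 - z3) z1
  · rfl
  · refine absurd ?_ z1
    linear_combination zd - (q : ZMod p) * ((q : ZMod p) ^ 3 - 1) * z3

include h in
/-- centralisers of elements of exponent `q² − q + 1` -/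
theorem cox_centralizer (hm : 1 ≤ m) {x : ↥G₁} (hx1 : x ≠ 1) (hx : x ^ nCox m = 1) :
    (∀ a ∈ Subgroup.centralizer {x}, ∀ b ∈ Subgroup.centralizer {x}, a * b = b * a) ∧
      IsCyclic ↥(Subgroup.centralizer {x}) ∧ Nat.card ↥(Subgroup.centralizer {x}) ∣ nCox m := by
  have := h.finite
  have := h.char
  let := Fintype.ofFinite K
  obtain ⟨p, hp, hpd, k, hk⟩ := exists_prime_power_elem hx1
  have : Fact p.Prime := ⟨hp⟩
  have hpn : p ∣ nCox m := hpd.trans (orderOf_dvd_of_pow_eq_one hx)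
  obtain ⟨hnq, hord⟩ := cox_ord h hp hpn
  have hp3 : 3 < p := prime_gt_three (odd_three m).2.2 (three_not_dvd m).2.2 hp hpn
  set x0 := x ^ k
  have hx01 : x0 ≠ 1 := fun e => hp.ne_one (by rw [← hk, e, orderOf_one])
  have hmem : ∀ g : ↥G₁, g.1 ∈ chevG2.group K := fun g => twisted_le_group h g.2
  have hcardK : Fintype.card K = 3 ^ (2 * m + 1) := by rw [← Nat.card_eq_fintype_card, h.card]
  have hcomm : ∀ a ∈ Subgroup.centralizer {x0}, ∀ b ∈ Subgroup.centralizer {x0}, a * b = b * a := by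
    intro a ha b hb
    rw [Subgroup.mem_centralizer_singleton_iff] at ha hb
    let ρ : ↥G₁ →* Matrix (Fin 7) (Fin 7) K :=
      { toFun := fun g => rI g.1
        map_one' := one_props.2.1
        map_mul' := fun g g' => rI_mul (hmem g) (hmem g') }
    have hρ : ∀ g g', ρ g = ρ g' → g = g' := fun g g' e => Subtype.ext (rI_inj (hmem g) (hmem g') e)
    refine hρ _ _ ?_
    rw [map_mul, map_mul]
    refine commutant_comm (X := ρ x0) (p := p) (hcardK ▸ hnq) (by rw [hcardK]; exact hord)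
      (by rw [← map_pow, ← hk, pow_orderOf_eq_one, map_one]) ?_ ((show Commute a x0 from ha).map ρ)
      ((show Commute b x0 from hb).map ρ)
    exact fun e => hx01 (hρ _ _ (e.trans (map_one ρ).symm))
  rw [centralizer_eq_of_pow (y := x) (k := k) hcomm]
  set C := Subgroup.centralizer {x0}
  obtain ⟨j, hj, e1, e2, -⟩ := arith m
  -- only prime divisors of `q² − q + 1`
  have hprimes : ∀ r : ℕ, r.Prime → r ∣ Nat.card ↥C → r ≠ 2 ∧ r ≠ 3 ∧ ¬ r ∣ nSplit m ∧ ¬ r ∣ nEll m := by
    intro r hr hrd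
    have : Fact r.Prime := ⟨hr⟩
    obtain ⟨⟨u, huC⟩, hu⟩ := exists_prime_orderOf_dvd_card' r hrd
    rw [Subgroup.orderOf_mk] at hu
    have hu1 : u ≠ 1 := fun e => hr.ne_one (by rw [← hu, e, orderOf_one])
    have hxu : x0 ∈ Subgroup.centralizer {u} := by
      rw [Subgroup.mem_centralizer_singleton_iff]
      exact (Subgroup.mem_centralizer_singleton_iff.1 huC).symm
    have hdvd : ∀ N, Nat.card ↥(Subgroup.centralizer {u}) = N → p ∣ N := fun N e => by
      rw [← e, ← hk]; exact Subgroup.orderOf_dvd_natCard _ hxu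
    refine ⟨fun e => ?_, fun e => ?_, fun e => ?_, fun e => ?_⟩
    · have h2 := hdvd _ (card_centralizer_eq h hm (hu.trans e))
      rcases hp.dvd_mul.1 h2 with h2 | h2
      · rcases hp.dvd_mul.1 h2 with h2 | h2
        · rcases hp.dvd_mul.1 h2 with h2 | h2
          · have := (Nat.prime_dvd_prime_iff_eq hp Nat.prime_two).1 (hp.dvd_of_dvd_pow (show p ∣ 2 ^ 3 from h2))
            omega
          · exact hnq h2
        · exact hp.not_dvd_one ((coprime_cox m).1 ▸ Nat.dvd_gcd hpn h2)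
      · exact hp.not_dvd_one ((coprime_cox m).2 ▸ Nat.dvd_gcd hpn h2)
    · refine hx01 (centralizer_three h (x := u) ?_ hu1 (Subgroup.mem_centralizer_singleton_iff.1 huC).symm ?_)
      · rw [show (9 : ℕ) = orderOf u * 3 by rw [hu, e], pow_mul, pow_orderOf_eq_one, one_pow]
      · rw [hk]
        exact (Nat.coprime_primes hp Nat.prime_two).2 (by omega) |>.mul_right
          ((Nat.coprime_primes hp Nat.prime_three).2 (by omega))
    · have h2 := hdvd _ (split_centralizer h hu1 (orderOf_dvd_iff_pow_eq_one.1 (hu ▸ e))).2.2.1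
      rw [show 3 ^ (2 * m + 1) - 1 = 2 * nSplit m by omega] at h2
      rcases hp.dvd_mul.1 h2 with h2 | h2
      · have := (Nat.prime_dvd_prime_iff_eq hp Nat.prime_two).1 h2; omega
      · exact hp.not_dvd_one ((coprime_cox m).1 ▸ Nat.dvd_gcd hpn h2)
    · have h2 := hdvd _ (ell_centralizer h hm hu1 (orderOf_dvd_iff_pow_eq_one.1 (hu ▸ e))).2.1
      rw [q_add_one h] at h2
      rcases hp.dvd_mul.1 h2 with h2 | h2
      · have := (Nat.prime_dvd_prime_iff_eq hp Nat.prime_two).1 (hp.dvd_of_dvd_pow (show p ∣ 2 ^ 2 from h2))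
        omega
      · exact hp.not_dvd_one ((coprime_cox m).2 ▸ Nat.dvd_gcd hpn h2)
  refine ⟨hcomm, isCyclic_of_comm h C hcomm (fun r hr hrd => ?_), ?_⟩
  · obtain ⟨a, b, -, -⟩ := hprimes r hr hrd
    have := hr.two_le
    omega
  · have hd : Nat.card ↥C ∣ 2 ^ 3 * 3 ^ (3 * (2 * m + 1)) * nSplit m * nEll m * nCox m := by
      have := Subgroup.card_subgroup_dvd_card C
      rw [card_eq h, ← pow_mul, mul_comm (2 * m + 1) 3] at this
      exact this
    refine Nat.Coprime.dvd_of_dvd_mul_left (k := Nat.card ↥C) ?_ hd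
    refine Nat.coprime_of_dvd fun r hr hr1 hr2 => ?_
    obtain ⟨a, b, c, d⟩ := hprimes r hr hr1
    rcases hr.dvd_mul.1 hr2 with hr2 | hr2
    · rcases hr.dvd_mul.1 hr2 with hr2 | hr2
      · rcases hr.dvd_mul.1 hr2 with hr2 | hr2
        · exact a ((Nat.prime_dvd_prime_iff_eq hr Nat.prime_two).1 (hr.dvd_of_dvd_pow hr2))
        · exact b ((Nat.prime_dvd_prime_iff_eq hr Nat.prime_three).1 (hr.dvd_of_dvd_pow hr2))
      · exact c hr2
    · exact d hr2

end Cfsg.Agent.Suzuki.Ree
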