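import Cfsg.Agent.Suzuki.ReeEll

/-!
The three kinds of maximal tori of odd order in the small Ree group and their normalisers.
-/

set_option autoImplicit false

universe u

namespace Cfsg.Agent.Suzuki.Ree

open Cfsg.Lie Cfsg.Agent.Chev Cfsg.Agent.Linear
open scoped Matrix MatrixGroups Pointwise

section Generic

variable {G : Type*} [Group G]

/-- centralisers of conjugates -/
theorem mem_centralizer_conj (g x z : G) :
    g * z * g⁻¹ ∈ Subgroup.centralizer {g * x * g⁻¹} ↔ z ∈ Subgroup.centralizer {x} := by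
  rw [Subgroup.mem_centralizer_singleton_iff, Subgroup.mem_centralizer_singleton_iff]
  constructor
  · intro e
    calc z * x = g⁻¹ * (g * z * g⁻¹ * (g * x * g⁻¹)) * g := by group
      _ = g⁻¹ * (g * x * g⁻¹ * (g * z * g⁻¹)) * g := by rw [e]
      _ = x * z := by group
  · intro e
    calc g * z * g⁻¹ * (g * x * g⁻¹) = g * (z * x) * g⁻¹ := by group
      _ = g * (x * z) * g⁻¹ := by rw [e]
      _ = g * x * g⁻¹ * (g * z * g⁻¹) := by group

/-- the centraliser of a conjugate -/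
theorem centralizer_conj_eq (g x : G) :
    Subgroup.centralizer {g * x * g⁻¹} = (Subgroup.centralizer {x}).map (MulAut.conj g).toMonoidHom := by
  ext z
  rw [Subgroup.mem_map_equiv, MulAut.conj_symm_apply, ← mem_centralizer_conj g x (g⁻¹ * z * g)]
  rw [show g * (g⁻¹ * z * g) * g⁻¹ = z by group]

variable [Finite G] {n : ℕ}
  (hcomm : ∀ y : G, y ≠ 1 → y ^ n = 1 → ∀ a ∈ Subgroup.centralizer {y}, ∀ b ∈ Subgroup.centralizer {y}, a * b = b * a)

include hcomm in
/-- the elements of exponent `n` commuting with `y` -/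
theorem exists_torusOf {y : G} (hy1 : y ≠ 1) (hy : y ^ n = 1) :
    ∃ A : Subgroup G, ∀ x, x ∈ A ↔ x ∈ Subgroup.centralizer {y} ∧ x ^ n = 1 :=
  ⟨{ carrier := {x | x ∈ Subgroup.centralizer {y} ∧ x ^ n = 1}
     mul_mem' := fun {a b} ha hb => ⟨mul_mem ha.1 hb.1, by
       rw [(show Commute a b from hcomm y hy1 hy a ha.1 b hb.1).mul_pow, ha.2, hb.2, one_mul]⟩
     one_mem' := ⟨one_mem _, one_pow _⟩
     inv_mem' := fun {a} ha => ⟨inv_mem ha.1, by rw [inv_pow, ha.2, inv_one]⟩ }, fun _ => Iff.rfl⟩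

include hcomm in
/-- nontrivial elements of a torus share their centraliser -/
theorem centralizer_torus {y : G} (hy1 : y ≠ 1) (hy : y ^ n = 1) {z : G} (hz : z ∈ Subgroup.centralizer {y})
    (hzn : z ^ n = 1) (hz1 : z ≠ 1) : Subgroup.centralizer {z} = Subgroup.centralizer {y} := by
  refine le_antisymm (fun x hx => ?_) (fun x hx => ?_) <;> rw [Subgroup.mem_centralizer_singleton_iff]
  · refine hcomm z hz1 hzn x hx y ?_
    rw [Subgroup.mem_centralizer_singleton_iff] at hz ⊢
    exact hz.symm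
  · exact hcomm y hy1 hy x hx z hz

include hcomm in
/-- normalisers inside a cyclic torus -/
theorem normalizer_torus {y : G} (hy1 : y ≠ 1) (hy : y ^ n = 1) {A : Subgroup G}
    (hA : ∀ x, x ∈ A ↔ x ∈ Subgroup.centralizer {y} ∧ x ^ n = 1) (hcyc : IsCyclic ↥A) :
    (∀ A₀ : Subgroup G, A₀ ≤ A → A₀ ≠ ⊥ →
      Subgroup.normalizer (A₀ : Set G) = Subgroup.normalizer (A : Set G)) ∧
    Subgroup.normalizer (A : Set G) = Subgroup.normalizer ((Subgroup.centralizer {y}) : Set G) ∧
    ∀ g : G, g * y * g⁻¹ ∈ A → g ∈ Subgroup.normalizer (A : Set G) := by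
  have hkey : ∀ z ∈ A, z ≠ 1 → ∀ g : G, g * z * g⁻¹ ∈ A → ∀ x, g * x * g⁻¹ ∈ A ↔ x ∈ A := by
    intro z hz hz1 g hg x
    have e1 := centralizer_torus hcomm hy1 hy ((hA z).1 hz).1 ((hA z).1 hz).2 hz1
    have e2 := centralizer_torus hcomm hy1 hy ((hA _).1 hg).1 ((hA _).1 hg).2
      (fun e => hz1 (conj_eq_one_iff.1 e))
    rw [hA, hA, conj_pow, conj_eq_one_iff]
    refine and_congr_left fun _ => ?_
    conv_lhs => rw [← e2]
    rw [mem_centralizer_conj, e1]
  have hyA : y ∈ A := (hA y).2 ⟨Subgroup.mem_centralizer_singleton_iff.2 rfl, hy⟩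
  refine ⟨?_, ?_, fun g hg => Subgroup.mem_normalizer_iff.2 fun x => (hkey y hyA hy1 g hg x).symm⟩
  · intro A₀ hle hne
    obtain ⟨z, hz, hz1⟩ := (Subgroup.bot_or_exists_ne_one A₀).resolve_left hne
    refine le_antisymm (fun g hg => Subgroup.mem_normalizer_iff.2 fun x =>
      (hkey z (hle hz) hz1 g (hle ((Subgroup.mem_normalizer_iff.1 hg z).1 hz)) x).symm) ?_
    intro g hg
    have hstep : ∀ g ∈ Subgroup.normalizer (A : Set G), ∀ x ∈ A₀, g * x * g⁻¹ ∈ A₀ := by
      intro g hg x hx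
      have hxA := hle hx
      -- the unique subgroup of a given order
      have : (⟨g * x * g⁻¹, (Subgroup.mem_normalizer_iff.1 hg x).1 hxA⟩ : ↥A) ∈ Subgroup.zpowers (⟨x, hxA⟩ : ↥A) := by
        let := hcyc.commGroup
        have key : ∀ a : ↥A, Subgroup.zpowers a = (powMonoidHom (orderOf a) : ↥A →* ↥A).ker := fun a => by
          refine Subgroup.eq_of_le_of_card_ge
            (by rw [Subgroup.zpowers_le, MonoidHom.mem_ker, powMonoidHom_apply]; exact pow_orderOf_eq_one a) ?_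
          rw [Nat.card_zpowers, IsCyclic.card_powMonoidHom_ker]
          exact Nat.le_of_dvd (orderOf_pos a) (Nat.gcd_dvd_right _ _)
        have e : Subgroup.zpowers (⟨g * x * g⁻¹, (Subgroup.mem_normalizer_iff.1 hg x).1 hxA⟩ : ↥A) =
            Subgroup.zpowers (⟨x, hxA⟩ : ↥A) := by
          rw [key, key, Subgroup.orderOf_mk, Subgroup.orderOf_mk, ← MulAut.conj_apply, MulEquiv.orderOf_eq]
        rw [← e]; exact Subgroup.mem_zpowers _
      obtain ⟨i, hi⟩ := Subgroup.mem_zpowers_iff.1 this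
      have e := congrArg Subtype.val hi
      simp only [Subgroup.coe_zpow] at e
      rw [← e]
      exact zpow_mem hx i
    refine Subgroup.mem_normalizer_iff.2 fun x => ⟨hstep g hg x, fun hx => ?_⟩
    have := hstep g⁻¹ (inv_mem hg) _ hx
    rwa [show g⁻¹ * (g * x * g⁻¹) * g⁻¹⁻¹ = x by group] at this
  · refine le_antisymm (fun g hg => Subgroup.mem_normalizer_iff.2 fun x => ?_) (fun g hg => ?_)
    · have hgy := (Subgroup.mem_normalizer_iff.1 hg y).1 hyA
      have e2 := centralizer_torus hcomm hy1 hy ((hA _).1 hgy).1 ((hA _).1 hgy).2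
        (fun e => hy1 (conj_eq_one_iff.1 e))
      show x ∈ Subgroup.centralizer {y} ↔ g * x * g⁻¹ ∈ Subgroup.centralizer {y}
      conv_rhs => rw [← e2, mem_centralizer_conj]
    · refine Subgroup.mem_normalizer_iff.2 fun x => ?_
      rw [hA, hA, conj_pow, conj_eq_one_iff]
      exact and_congr_left fun _ => Subgroup.mem_normalizer_iff.1 hg x

end Generic

variable {K : Type u} [Field K] {m : ℕ} (h : Ctx K m)

/-- `G¹` -/
local notation "G₁" => twistedG2 K (3 ^ m)
/-- `H¹` -/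
local notation "H₁" => chevG2.diagonalSubgroup K ⊓ twistedG2 K (3 ^ m)

include h in
/-- commutative subgroups of order prime to six are cyclic -/
theorem isCyclic_of_comm (A : Subgroup ↥G₁) (hc : ∀ a ∈ A, ∀ b ∈ A, a * b = b * a)
    (h6 : ∀ r : ℕ, r.Prime → r ∣ Nat.card ↥A → 3 < r) : IsCyclic ↥A := by
  have := h.finite
  let : CommGroup ↥A := { (inferInstance : Group ↥A) with mul_comm := fun a b => Subtype.ext (hc _ a.2 _ b.2) }
  have : IsZGroup ↥A := ⟨fun p hp P => by
    have : Fact p.Prime := ⟨hp⟩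
    by_cases hd : p ∣ Nat.card ↥(P : Subgroup ↥A)
    · obtain ⟨S, hS⟩ := (P.isPGroup'.map A.subtype).exists_le_sylow
      have := sylow_odd_cyclic h (h6 p hp (hd.trans (Subgroup.card_subgroup_dvd_card _))) S
      exact isCyclic_of_injective (((Subgroup.inclusion hS).comp
          (((P : Subgroup ↥A).equivMapOfInjective A.subtype A.subtype_injective).toMonoidHom)))
        ((Subgroup.inclusion_injective hS).comp
          (((P : Subgroup ↥A).equivMapOfInjective A.subtype A.subtype_injective).injective))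
    · have h1 := P.isPGroup'.card_eq_or_dvd.resolve_right hd
      have : Subsingleton ↥(P : Subgroup ↥A) := (Nat.card_eq_one_iff_unique.1 h1).1
      infer_instance⟩
  infer_instance

include h in
/-- the prime divisors of a subgroup of exponent `n` -/
theorem prime_dvd_of_exponent {n r : ℕ} {A : Subgroup ↥G₁} (hA : ∀ x ∈ A, x ^ n = 1) (hr : r.Prime)
    (hd : r ∣ Nat.card ↥A) : r ∣ n := by
  have := h.finite
  have : Fact r.Prime := ⟨hr⟩
  obtain ⟨⟨a, ha⟩, hao⟩ := exists_prime_orderOf_dvd_card' r hd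
  rw [Subgroup.orderOf_mk] at hao
  exact hao ▸ orderOf_dvd_of_pow_eq_one (hA a ha)

theorem prime_gt_three {n r : ℕ} (hn : Odd n) (h3 : ¬ 3 ∣ n) (hr : r.Prime) (hd : r ∣ n) : 3 < r := by
  rcases lt_or_ge 3 r with e | e
  · exact e
  · rcases eq_or_ne r 2 with rfl | h2
    · exact absurd hd (Odd.not_two_dvd_nat hn)
    rcases eq_or_ne r 3 with rfl | h3'
    · exact absurd hd h3
    have := hr.two_le
    omega

/-! ### The split torus -/

include h in
theorem torus_isCyclic : IsCyclic ↥((H₁).subgroupOf G₁) := by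
  have := h.finite
  let f : ↥((H₁).subgroupOf G₁) →* Kˣ :=
    MonoidHom.mk' (fun d => Units.mk0 (kap d.1.1) (kap_ne_zero (Subgroup.mem_subgroupOf.1 d.2).1))
      (fun a b => Units.ext (kap_mul (Subgroup.mem_subgroupOf.1 a.2).1 (Subgroup.mem_subgroupOf.1 b.2).1))
  refine isCyclic_of_injective f ?_
  intro a b e
  have ha := Subgroup.mem_subgroupOf.1 a.2
  have hb := Subgroup.mem_subgroupOf.1 b.2
  exact Subtype.ext (Subtype.ext (kap_inj h ha.1 hb.1 (sig_of_mem h ha.2) (sig_of_mem h hb.2)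
    (congrArg Units.val e)))

include h in
/-- centralisers of elements of exponent `(q-1)/2` -/
theorem split_centralizer {y : ↥G₁} (hy1 : y ≠ 1) (hy : y ^ nSplit m = 1) :
    (∀ a ∈ Subgroup.centralizer {y}, ∀ b ∈ Subgroup.centralizer {y}, a * b = b * a) ∧
      IsCyclic ↥(Subgroup.centralizer {y}) ∧ Nat.card ↥(Subgroup.centralizer {y}) = 3 ^ (2 * m + 1) - 1 ∧
      ∃ g : ↥G₁, Subgroup.centralizer {y} = ((H₁).subgroupOf G₁).map (MulAut.conj g).toMonoidHom := by
  have := h.finite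
  obtain ⟨p, hp, hpd, k, hk⟩ := exists_prime_power_elem hy1
  have : Fact p.Prime := ⟨hp⟩
  have hpn : p ∣ nSplit m := hpd.trans (orderOf_dvd_of_pow_eq_one hy)
  have hp3 : 3 < p := prime_gt_three (odd_three m).1 (three_not_dvd m).1 hp hpn
  obtain ⟨j, hj, e1, -, -⟩ := arith m
  have hq1 : 3 ^ (2 * m + 1) - 1 = 2 * nSplit m := by omega
  have hidx : ¬ p ∣ ((H₁).subgroupOf G₁).index := by
    have e := ((H₁).subgroupOf G₁).card_mul_index
    rw [Nat.card_congr (Subgroup.subgroupOfEquivOfLe inf_le_right).toEquiv, card_torus h, hq1, card_eq h] at e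
    have hne : 0 < 2 * nSplit m := by have := (odd_three m).1.pos; omega
    have e' : ((H₁).subgroupOf G₁).index = 4 * (3 ^ (2 * m + 1)) ^ 3 * nEll m * nCox m :=
      Nat.eq_of_mul_eq_mul_left hne (e.trans (by ring))
    rw [e', ← pow_mul]
    intro hd
    rcases hp.dvd_mul.1 hd with hd | hd
    · rcases hp.dvd_mul.1 hd with hd | hd
      · rcases hp.dvd_mul.1 hd with hd | hd
        · have := (Nat.prime_dvd_prime_iff_eq hp Nat.prime_two).1 (hp.dvd_of_dvd_pow (show p ∣ 2 ^ 2 from hd))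
          omega
        · have := (Nat.prime_dvd_prime_iff_eq hp Nat.prime_three).1 (hp.dvd_of_dvd_pow hd)
          omega
      · exact hp.not_dvd_one (coprime_split_ell m ▸ Nat.dvd_gcd hpn hd)
    · exact hp.not_dvd_one ((coprime_cox m).1 ▸ Nat.dvd_gcd hd hpn)
  obtain ⟨g, hg⟩ := exists_conj_mem _ hidx (x := y ^ k) (k := 1) (by rw [pow_one, ← hk, pow_orderOf_eq_one])
  set y0 := y ^ k
  have hy01 : g * y0 * g⁻¹ ≠ 1 := fun e => hp.ne_one (by rw [← hk, conj_eq_one_iff.1 e, orderOf_one])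
  have hord : orderOf (g * y0 * g⁻¹) = p := by rw [← MulAut.conj_apply, MulEquiv.orderOf_eq, hk]
  have hC := centralizer_split h (Subgroup.mem_inf.1 (Subgroup.mem_subgroupOf.1 hg)).1 hy01
    (by rw [hord]; exact hp.odd_of_ne_two (by omega))
  have e : Subgroup.centralizer {y0} = ((H₁).subgroupOf G₁).map (MulAut.conj g⁻¹).toMonoidHom := by
    rw [← hC, ← centralizer_conj_eq, show g⁻¹ * (g * y0 * g⁻¹) * g⁻¹⁻¹ = y0 by group]
  have hcyc : IsCyclic ↥(Subgroup.centralizer {y0}) := by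
    rw [e]
    have := torus_isCyclic h
    exact isCyclic_of_surjective _ (((H₁).subgroupOf G₁).equivMapOfInjective _ (MulEquiv.injective _)).surjective
  have hcomm : ∀ a ∈ Subgroup.centralizer {y0}, ∀ b ∈ Subgroup.centralizer {y0}, a * b = b * a := fun a ha b hb => by
    let := hcyc.commGroup
    exact congrArg Subtype.val (mul_comm (⟨a, ha⟩ : ↥(Subgroup.centralizer {y0})) ⟨b, hb⟩)
  rw [centralizer_eq_of_pow (y := y) (k := k) hcomm]
  refine ⟨hcomm, hcyc, ?_, g⁻¹, e⟩
  rw [e, Subgroup.card_map_of_injective (MulEquiv.injective _),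
    Nat.card_congr (Subgroup.subgroupOfEquivOfLe inf_le_right).toEquiv, card_torus h]

theorem nSplit_ge {m : ℕ} (hm : 1 ≤ m) : 13 ≤ nSplit m ∧ 7 ≤ nEll m ∧ 703 ≤ nCox m := by
  have h27 : 3 ^ 3 ≤ 3 ^ (2 * m + 1) := Nat.pow_le_pow_right (by norm_num) (by omega)
  obtain ⟨j, hj, e1, e2, e3⟩ := arith m
  have hj3 : 3 ≤ j := by norm_num at h27; omega
  refine ⟨by omega, by omega, ?_⟩
  rw [e3]
  nlinarith

include h in
/-- the normaliser of the split torus -/
theorem card_normalizer_torus (hm : 1 ≤ m) :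
    Nat.card ↥(Subgroup.normalizer (((H₁).subgroupOf G₁ : Subgroup ↥G₁) : Set ↥G₁)) =
      2 * (3 ^ (2 * m + 1) - 1) := by
  classical
  have := h.finite
  have := h.char
  set H := (H₁).subgroupOf G₁ with hH
  set N := Subgroup.normalizer ((H : Subgroup ↥G₁) : Set ↥G₁)
  let w : ↥G₁ := ⟨wElt, wElt_mem h⟩
  have hwH : w ∉ H := fun hd => wElt_not_borel h (cG.diagonal_le_borel (Subgroup.mem_subgroupOf.1 hd).1)
  have hinv : ∀ d ∈ H, w * d * w⁻¹ = d⁻¹ := fun d hd =>
    Subtype.ext (w_inverts_torus h (Subgroup.mem_subgroupOf.1 hd))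
  have hwN : w ∈ N := Subgroup.mem_normalizer_iff.2 fun d => ⟨fun hd => by rw [hinv d hd]; exact inv_mem hd,
    fun hd => by
      have e := hinv _ hd
      have e2 : d = w⁻¹ * (w * d * w⁻¹)⁻¹⁻¹ * w := by group
      have e3 : (w * d * w⁻¹)⁻¹ = w * (w * d * w⁻¹) * w⁻¹ := e.symm
      rw [e3] at e2
      have h4 : (w * (w * d * w⁻¹) * w⁻¹)⁻¹ = w * d * w⁻¹ := by rw [← e3, inv_inv]
      have h5 : d = (w * d * w⁻¹)⁻¹ := by
        calc d = w⁻¹ * (w * d * w⁻¹) * w := by group
          _ = w⁻¹ * (w * (w * d * w⁻¹) * w⁻¹)⁻¹ * w := by rw [h4]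
          _ = (w * d * w⁻¹)⁻¹ := by group
      rw [h5]; exact inv_mem hd⟩
  have hle : H ≤ N := Subgroup.le_normalizer
  -- two cosets
  obtain ⟨s, hsH, hs1, hso⟩ : ∃ s ∈ H, s ≠ 1 ∧ Odd (orderOf s) := by
    obtain ⟨c, hc⟩ := (torus_isCyclic h).exists_generator
    have hco : orderOf c = 3 ^ (2 * m + 1) - 1 := by
      rw [orderOf_eq_card_of_forall_mem_zpowers hc, Nat.card_congr (Subgroup.subgroupOfEquivOfLe inf_le_right).toEquiv,
        card_torus h]
    obtain ⟨j, hj, e1, -, -⟩ := arith m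
    have e2 : orderOf (c ^ 2 : ↥H) = nSplit m := by
      rw [orderOf_pow, hco, show 3 ^ (2 * m + 1) - 1 = nSplit m * 2 by omega, Nat.gcd_mul_left_left,
        Nat.mul_div_cancel _ (by norm_num)]
    refine ⟨(c ^ 2 : ↥H).1, (c ^ 2).2, fun e => ?_, ?_⟩
    · have := (nSplit_ge hm).1
      rw [← e2, show (c ^ 2 : ↥H) = 1 from Subtype.ext e, orderOf_one] at this
      omega
    · rw [Subgroup.orderOf_coe, e2]; exact (odd_three m).1
  have hcover : ∀ g ∈ N, g ∈ H ∨ g * w⁻¹ ∈ H := by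
    intro g hg
    have hgs := (Subgroup.mem_normalizer_iff.1 hg s).1 hsH
    rcases twisted_bruhat h g.2 with hgB | ⟨b, hb, t, u, v, e⟩
    · left
      obtain ⟨t, u, v, d, hd, e⟩ := mem_borel_twisted h hgB
      have hU : reeU m t u v = 1 := by
        set g' : ↥G₁ := g * (⟨d, hd.2⟩ : ↥G₁)⁻¹ with hg'
        have hg'v : g'.1 = reeU m t u v := by rw [hg']; show g.1 * d⁻¹ = _; rw [e, mul_inv_cancel_right]
        have hdN : (⟨d, hd.2⟩ : ↥G₁) ∈ N := hle (Subgroup.mem_subgroupOf.2 hd)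
        have hz := (Subgroup.mem_normalizer_iff.1 (mul_mem hg (inv_mem hdN)) s).1 hsH
        -- commutator in `U¹ ∩ H¹`
        have hz' : reeU m t u v * s.1 * (reeU m t u v)⁻¹ ∈ H₁ := by
          have := Subgroup.mem_subgroupOf.1 hz
          rw [Subgroup.coe_mul, Subgroup.coe_mul, Subgroup.coe_inv, hg'v] at this
          exact this
        have hsH' := Subgroup.mem_subgroupOf.1 hsH
        have hmem : reeU m t u v * (s.1 * (reeU m t u v)⁻¹ * s.1⁻¹) ∈
            chevG2.posUnipotent K ⊓ chevG2.diagonalSubgroup K := by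
          refine Subgroup.mem_inf.2 ⟨mul_mem (reeU_mem_pos _ _ _)
            ((Subgroup.mem_normalizer_iff.1 (cG.posUnipotent_normalised hsH'.1) _).1 (inv_mem (reeU_mem_pos _ _ _))), ?_⟩
          rw [show reeU m t u v * (s.1 * (reeU m t u v)⁻¹ * s.1⁻¹) = reeU m t u v * s.1 * (reeU m t u v)⁻¹ * s.1⁻¹ by group]
          exact mul_mem hz'.1 (inv_mem hsH'.1)
        rw [cG.posUnipotent_inf_diagonal, Subgroup.mem_bot] at hmem
        have hcs : g' ∈ Subgroup.centralizer {s} := by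
          rw [Subgroup.mem_centralizer_singleton_iff]
          apply Subtype.ext
          show g'.1 * s.1 = s.1 * g'.1
          rw [hg'v]
          calc reeU m t u v * s.1 = reeU m t u v * (s.1 * (reeU m t u v)⁻¹ * s.1⁻¹) * (s.1 * reeU m t u v) := by group
            _ = _ := by rw [hmem, one_mul]
        rw [centralizer_split h hsH'.1 hs1 hso, Subgroup.mem_subgroupOf, hg'v] at hcs
        have : reeU m t u v ∈ chevG2.posUnipotent K ⊓ chevG2.diagonalSubgroup K :=
          Subgroup.mem_inf.2 ⟨reeU_mem_pos _ _ _, hcs.1⟩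
        rwa [cG.posUnipotent_inf_diagonal, Subgroup.mem_bot] at this
      exact Subgroup.mem_subgroupOf.2 (by rw [e, hU, one_mul]; exact hd)
    · right
      have hsH' := Subgroup.mem_subgroupOf.1 hsH
      have hgs' := Subgroup.mem_subgroupOf.1 hgs
      rw [Subgroup.coe_mul, Subgroup.coe_mul, Subgroup.coe_inv] at hgs'
      set s' := g.1 * s.1 * g.1⁻¹ with hs'
      have hs2 : wElt * s.1 * wElt⁻¹ = s.1⁻¹ := w_inverts_torus h hsH'
      have hconj : s.1⁻¹ * reeU m t u v * s.1 ∈ chevG2.posUnipotent K ⊓ G₁ := by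
        have := borel_normalises h (b := s.1⁻¹) (g := reeU m t u v)
          (Subgroup.mem_inf.2 ⟨inv_mem (cG.diagonal_le_borel hsH'.1), inv_mem s.2⟩)
          ((mem_unipotent_twisted h _).2 ⟨_, _, _, rfl⟩)
        rwa [inv_inv] at this
      obtain ⟨t', u', v', e'⟩ := (mem_unipotent_twisted h _).1 hconj
      have hsB : s.1 ∈ chevG2.borelSubgroup K ⊓ G₁ := ⟨cG.diagonal_le_borel hsH'.1, s.2⟩
      have hb1 : b * s.1⁻¹ ∈ chevG2.borelSubgroup K ⊓ G₁ := mul_mem hb (inv_mem hsB)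
      have hb2 : s' * b ∈ chevG2.borelSubgroup K ⊓ G₁ := mul_mem ⟨cG.diagonal_le_borel hgs'.1, hgs'.2⟩ hb
      have e3 : b * s.1⁻¹ * wElt * reeU m t' u' v' = s' * b * wElt * reeU m t u v := by
        rw [← e', hs']
        calc b * s.1⁻¹ * wElt * (s.1⁻¹ * reeU m t u v * s.1)
            = b * (wElt * s.1 * wElt⁻¹) * wElt * (s.1⁻¹ * reeU m t u v * s.1) := by rw [hs2]
          _ = b * wElt * reeU m t u v * s.1 := by group
          _ = g.1 * s.1 * g.1⁻¹ * g.1 := by rw [← e]; group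
          _ = _ := by rw [e]; group
      obtain ⟨-, et, eu, ev⟩ := big_cell_unique h hb1 hb2 e3
      rw [et, eu, ev] at e'
      have hU : reeU m t u v = 1 := by
        have hcs : (⟨reeU m t u v, reeU_mem _ _ _⟩ : ↥G₁) ∈ Subgroup.centralizer {s} := by
          rw [Subgroup.mem_centralizer_singleton_iff]
          apply Subtype.ext
          show reeU m t u v * s.1 = s.1 * reeU m t u v
          nth_rewrite 2 [← e']
          group
        rw [centralizer_split h hsH'.1 hs1 hso, Subgroup.mem_subgroupOf] at hcs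
        have : reeU m t u v ∈ chevG2.posUnipotent K ⊓ chevG2.diagonalSubgroup K :=
          Subgroup.mem_inf.2 ⟨reeU_mem_pos _ _ _, hcs.1⟩
        rwa [cG.posUnipotent_inf_diagonal, Subgroup.mem_bot] at this
      -- `g w⁻¹` lies in the Borel subgroup and normalises the torus
      have hbv : (g * w⁻¹).1 = b := by
        show g.1 * wElt⁻¹ = b
        rw [e, hU, mul_one, mul_inv_cancel_right]
      obtain ⟨t0, u0, v0, d, hd, e0⟩ := mem_borel_twisted h hb
      set g' : ↥G₁ := g * w⁻¹ * (⟨d, hd.2⟩ : ↥G₁)⁻¹ with hg'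
      have hg'v : g'.1 = reeU m t0 u0 v0 := by
        show (g * w⁻¹).1 * d⁻¹ = _
        rw [hbv, e0, mul_inv_cancel_right]
      have hdN : (⟨d, hd.2⟩ : ↥G₁) ∈ N := hle (Subgroup.mem_subgroupOf.2 hd)
      have hz := Subgroup.mem_subgroupOf.1
        ((Subgroup.mem_normalizer_iff.1 (mul_mem (mul_mem hg (inv_mem hwN)) (inv_mem hdN)) s).1 hsH)
      rw [Subgroup.coe_mul, Subgroup.coe_mul, Subgroup.coe_inv, hg'v] at hz
      have hmem : reeU m t0 u0 v0 * (s.1 * (reeU m t0 u0 v0)⁻¹ * s.1⁻¹) ∈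
          chevG2.posUnipotent K ⊓ chevG2.diagonalSubgroup K := by
        refine Subgroup.mem_inf.2 ⟨mul_mem (reeU_mem_pos _ _ _)
          ((Subgroup.mem_normalizer_iff.1 (cG.posUnipotent_normalised hsH'.1) _).1 (inv_mem (reeU_mem_pos _ _ _))), ?_⟩
        rw [show reeU m t0 u0 v0 * (s.1 * (reeU m t0 u0 v0)⁻¹ * s.1⁻¹) =
          reeU m t0 u0 v0 * s.1 * (reeU m t0 u0 v0)⁻¹ * s.1⁻¹ by group]
        exact mul_mem hz.1 (inv_mem hsH'.1)
      rw [cG.posUnipotent_inf_diagonal, Subgroup.mem_bot] at hmem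
      have hcs : g' ∈ Subgroup.centralizer {s} := by
        rw [Subgroup.mem_centralizer_singleton_iff]
        apply Subtype.ext
        show g'.1 * s.1 = s.1 * g'.1
        rw [hg'v]
        calc reeU m t0 u0 v0 * s.1 = reeU m t0 u0 v0 * (s.1 * (reeU m t0 u0 v0)⁻¹ * s.1⁻¹) * (s.1 * reeU m t0 u0 v0) := by group
          _ = _ := by rw [hmem, one_mul]
      rw [centralizer_split h hsH'.1 hs1 hso] at hcs
      have := mul_mem hcs (Subgroup.mem_subgroupOf.2 hd : (⟨d, hd.2⟩ : ↥G₁) ∈ H)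
      rwa [hg', inv_mul_cancel_right] at this
  let F : Bool × ↥H → ↥N := fun p => ⟨if p.1 then p.2.1 * w else p.2.1,
    by split_ifs; exacts [mul_mem (hle p.2.2) hwN, hle p.2.2]⟩
  have hF : Function.Bijective F := by
    constructor
    · rintro ⟨a, x⟩ ⟨a', x'⟩ e
      have e' := congrArg Subtype.val e
      cases a <;> cases a' <;> simp only [F, Bool.false_eq_true, if_false, if_true] at e'
      · exact Prod.ext rfl (Subtype.ext e')
      · exact absurd ((eq_inv_mul_of_mul_eq e'.symm) ▸ mul_mem (inv_mem x'.2) x.2) hwH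
      · exact absurd ((eq_inv_mul_of_mul_eq e') ▸ mul_mem (inv_mem x.2) x'.2) hwH
      · exact Prod.ext rfl (Subtype.ext (mul_right_cancel e'))
    · rintro ⟨g, hg⟩
      rcases hcover g hg with hc | hc
      · exact ⟨(false, ⟨g, hc⟩), rfl⟩
      · exact ⟨(true, ⟨g * w⁻¹, hc⟩), Subtype.ext (inv_mul_cancel_right g w)⟩
  rw [← Nat.card_eq_of_bijective F hF, Nat.card_prod, Nat.card_congr (Subgroup.subgroupOfEquivOfLe inf_le_right).toEquiv,
    card_torus h]
  simp

include h in
/-- the data of the split torus -/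
theorem split_data (hm : 1 ≤ m) {y : ↥G₁} (hy1 : y ≠ 1) (hy : y ^ nSplit m = 1) {A : Subgroup ↥G₁}
    (hA : ∀ x, x ∈ A ↔ x ∈ Subgroup.centralizer {y} ∧ x ^ nSplit m = 1) :
    IsCyclic ↥A ∧ Nat.card ↥A = nSplit m ∧
      Nat.card ↥(Subgroup.normalizer (A : Set ↥G₁)) = 2 * (3 ^ (2 * m + 1) - 1) := by
  have := h.finite
  obtain ⟨hc, hcyc, hcard, g, hg⟩ := split_centralizer h hy1 hy
  have hcA := isCyclic_of_comm h A (fun a ha b hb => hc a ((hA a).1 ha).1 b ((hA b).1 hb).1) (fun r hr hd =>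
    prime_gt_three (odd_three m).1 (three_not_dvd m).1 hr (prime_dvd_of_exponent h (fun x hx => ((hA x).1 hx).2) hr hd))
  refine ⟨hcA, ?_, ?_⟩
  · let := hcyc.commGroup
    have e : A = ((powMonoidHom (nSplit m) : ↥(Subgroup.centralizer {y}) →* ↥(Subgroup.centralizer {y})).ker).map
        (Subgroup.centralizer {y}).subtype := by
      ext x
      rw [hA, Subgroup.mem_map]
      constructor
      · rintro ⟨h1, h2⟩
        exact ⟨⟨x, h1⟩, MonoidHom.mem_ker.2 (Subtype.ext h2), rfl⟩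
      · rintro ⟨z, hz, rfl⟩
        exact ⟨z.2, congrArg Subtype.val (MonoidHom.mem_ker.1 hz)⟩
    rw [e, Subgroup.card_map_of_injective (Subgroup.subtype_injective _), IsCyclic.card_powMonoidHom_ker, hcard]
    obtain ⟨j, hj, e1, -, -⟩ := arith m
    exact Nat.gcd_eq_right (Dvd.intro 2 (by omega))
  · rw [(normalizer_torus (fun y h1 h2 => (split_centralizer h h1 h2).1) hy1 hy hA hcA).2.1, hg,
      ← Subgroup.map_equiv_normalizer_eq, Subgroup.card_map_of_injective (MulEquiv.injective _), card_normalizer_torus h hm]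

end Cfsg.Agent.Suzuki.Ree
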