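import Mathlib.GroupTheory.SpecificGroups.Alternating
import Mathlib.GroupTheory.SpecificGroups.Dihedral

/-! # A permutation model of the triple covers of `A₆` and `A₇`

Five elements of order 3 and one central element of order 3 acting on 45 points, over the
3-cycles `(0 1 i)`. -/

set_option autoImplicit false
set_option maxRecDepth 20000

namespace Cfsg.Agent.Suzuki.Triple

/-- Point tables of the five generators and the central element. -/
def tbl : List (List ℕ) :=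
  [[1, 9, 12, 41, 20, 15, 24, 10, 26, 0, 14, 31, 32, 36, 7, 43, 4, 38, 37, 44, 16, 6, 28, 22, 21, 42, 39, 18, 23, 11, 3, 29, 2, 25, 13, 19, 34, 27, 40, 8, 17, 30, 33, 5, 35],
   [11, 2, 3, 1, 16, 10, 19, 13, 6, 30, 27, 12, 0, 18, 43, 37, 20, 44, 7, 8, 4, 17, 23, 28, 39, 33, 35, 5, 22, 41, 31, 9, 29, 42, 15, 40, 14, 34, 24, 38, 26, 32, 25, 36, 21],
   [9, 0, 31, 4, 11, 22, 40, 14, 39, 1, 7, 3, 20, 5, 10, 34, 2, 21, 28, 33, 30, 44, 13, 27, 25, 35, 8, 36, 43, 32, 12, 16, 41, 38, 37, 24, 23, 15, 19, 26, 42, 29, 6, 18, 17],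
   [15, 20, 32, 13, 5, 6, 4, 17, 41, 24, 28, 22, 2, 42, 31, 16, 0, 23, 27, 35, 21, 1, 40, 7, 43, 8, 33, 37, 29, 10, 39, 38, 12, 34, 26, 44, 30, 18, 14, 36, 11, 25, 3, 9, 19],
   [18, 21, 25, 30, 37, 43, 0, 19, 12, 4, 29, 7, 13, 8, 22, 5, 24, 40, 6, 11, 1, 20, 44, 31, 27, 36, 34, 16, 10, 28, 41, 35, 39, 26, 33, 23, 2, 9, 17, 42, 38, 3, 32, 15, 14],
   [7, 10, 27, 5, 22, 40, 11, 8, 0, 14, 26, 13, 18, 6, 39, 17, 23, 41, 19, 12, 28, 29, 42, 25, 31, 16, 1, 35, 33, 34, 43, 36, 37, 20, 21, 2, 24, 44, 30, 9, 3, 15, 4, 38, 32]]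

/-- The maps given by the tables. -/
def tf (k : Fin 6) (j : Fin 45) : Fin 45 := Fin.ofNat 45 ((tbl.getD k.val []).getD j.val 0)

theorem tf_cube : ∀ k j, tf k (tf k (tf k j)) = j := by decide +kernel

/-- The permutations given by the tables. -/
def tp (k : Fin 6) : Equiv.Perm (Fin 45) :=
  ⟨tf k, fun j => tf k (tf k j), tf_cube k, tf_cube k⟩

/-- The central element. -/
def tz : Equiv.Perm (Fin 45) := tp 5

/-- The generators. -/
def tX (i : Fin 5) : Equiv.Perm (Fin 45) := tp i.castSucc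

/-- The exponents of the central element in the squares of products. -/
def texp (i j : Fin 5) : ℕ :=
  ([[0, 0, 0, 0, 0], [0, 0, 0, 1, 2], [0, 0, 0, 2, 1], [0, 1, 2, 0, 0], [0, 2, 1, 0, 0]].getD i.val []).getD j.val 0

theorem tX_rel : (∀ i, tX i * tX i * tX i = 1) ∧
    ∀ i j, i ≠ j → tX i * tX j * (tX i * tX j) = tz ^ texp i j := by
  decide +kernel

theorem tz_facts : tz * tz * tz = 1 ∧ tz ≠ 1 ∧ ∀ i, tz * tX i = tX i * tz := by decide +kernel

/-- The cycle `(0 1 i+2)`. -/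
def cyc (n : ℕ) (i : Fin n) : Equiv.Perm (Fin (n + 2)) :=
  Equiv.swap 0 1 * Equiv.swap 1 (i.succ.succ)

/-- Words for the products of a transposition with `(0 1)`, six points. -/
def words6 : List (List (Fin 4)) :=
  [[], [0], [1], [2], [3], [0, 0], [1, 1], [2, 2], [3, 3], [0, 1, 1, 0], [0, 2, 2, 0], [0, 3, 3, 0], [1, 2, 2, 1], [1, 3, 3, 1], [2, 3, 3, 2]]

/-- Words for the products of a transposition with `(0 1)`, seven points. -/
def words7 : List (List (Fin 5)) :=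
  [[], [0], [1], [2], [3], [4], [0, 0], [1, 1], [2, 2], [3, 3], [4, 4], [0, 1, 1, 0], [0, 2, 2, 0], [0, 3, 3, 0], [0, 4, 4, 0], [1, 2, 2, 1], [1, 3, 3, 1], [1, 4, 4, 1], [2, 3, 3, 2], [2, 4, 4, 2], [3, 4, 4, 3]]

theorem words6_ok : ∀ a b : Fin 6, a ≠ b →
    Equiv.swap a b * Equiv.swap 0 1 ∈ words6.map (fun w => (w.map (cyc 4)).prod) := by
  decide +kernel

theorem words7_ok : ∀ a b : Fin 7, a ≠ b →
    Equiv.swap a b * Equiv.swap 0 1 ∈ words7.map (fun w => (w.map (cyc 5)).prod) := by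
  decide +kernel

end Cfsg.Agent.Suzuki.Triple
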