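import Mathlib

/-!
Algebraic lemmas for Suzuki two-groups: fields from regular actions, alternating equivariant forms.
-/

set_option autoImplicit false

universe u

namespace Cfsg.Agent.Suzuki.TwoGroup

/-- a commutative group of additive bijections, regular on the non-zero vectors, gives a field -/
theorem exists_field_of_regular {T : Type u} [AddCommGroup T] [Finite T] {K : Type*} [CommGroup K]
    (act : K → T → T) (hadd : ∀ k a b, act k (a + b) = act k a + act k b)
    (hmul : ∀ k l a, act (k * l) a = act k (act l a)) (hone : ∀ a, act 1 a = a)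
    (u0 : T) (hu0 : u0 ≠ 0) (hreg : ∀ a : T, a ≠ 0 → ∃! k : K, act k u0 = a) :
    ∃ (F : Type) (_ : Field F) (_ : Fintype F) (ψ : F ≃+ T) (κ : Fˣ ≃* K), ψ 1 = u0 ∧
      ∀ (k : Fˣ) (a : F), ψ ((k : F) * a) = act (κ k) (ψ a) := by
  classical
  have hact0 : ∀ k, act k 0 = 0 := fun k => by
    have := hadd k 0 0
    rw [add_zero] at this
    exact left_eq_add.1 this
  have hnz : ∀ k, act k u0 ≠ 0 := fun k e => hu0 (by
    have := congrArg (act k⁻¹) e
    rwa [← hmul, inv_mul_cancel, hone, hact0] at this)
  choose kf hkf hku using fun (a : T) (ha : a ≠ 0) => hreg a ha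
  let m : T → T → T := fun a b => if ha : a = 0 then 0 else act (kf a ha) b
  have m0 : ∀ b, m 0 b = 0 := fun b => dif_pos rfl
  have mne : ∀ a b (ha : a ≠ 0), m a b = act (kf a ha) b := fun a b ha => dif_neg ha
  have mr0 : ∀ a, m a 0 = 0 := fun a => by
    by_cases ha : a = 0
    · rw [ha, m0]
    · rw [mne a 0 ha, hact0]
  have mk : ∀ (k : K) (b : T), m (act k u0) b = act k b := fun k b => by
    rw [mne _ b (hnz k), show kf (act k u0) (hnz k) = k from (hku _ _ k rfl).symm]
  have mcomm : ∀ a b, m a b = m b a := fun a b => by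
    by_cases ha : a = 0
    · rw [ha, m0, mr0]
    by_cases hb : b = 0
    · rw [hb, m0, mr0]
    obtain ⟨k, rfl⟩ : ∃ k, act k u0 = a := ⟨_, hkf a ha⟩
    obtain ⟨l, rfl⟩ : ∃ l, act l u0 = b := ⟨_, hkf b hb⟩
    rw [mk, mk, ← hmul, ← hmul, mul_comm]
  have massoc : ∀ a b c, m (m a b) c = m a (m b c) := fun a b c => by
    by_cases ha : a = 0
    · rw [ha, m0, m0, m0]
    by_cases hb : b = 0
    · rw [hb, mr0, m0, mr0]
    obtain ⟨k, rfl⟩ : ∃ k, act k u0 = a := ⟨_, hkf a ha⟩
    obtain ⟨l, rfl⟩ : ∃ l, act l u0 = b := ⟨_, hkf b hb⟩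
    rw [mk, mk, mk, ← hmul, mk, hmul]
  have mone : ∀ a, m u0 a = a := fun a => by
    conv_lhs => rw [← hone u0]
    rw [mk, hone]
  have mdist : ∀ a b c, m a (b + c) = m a b + m a c := fun a b c => by
    by_cases ha : a = 0
    · rw [ha, m0, m0, m0, add_zero]
    · rw [mne _ _ ha, mne _ _ ha, mne _ _ ha, hadd]
  letI R : CommRing T :=
    { (inferInstance : AddCommGroup T) with
      mul := m
      one := u0
      mul_assoc := massoc
      one_mul := mone
      mul_one := fun a => (mcomm a u0).trans (mone a)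
      left_distrib := mdist
      right_distrib := fun a b c => by
        show m (a + b) c = m a c + m b c
        rw [mcomm, mdist, mcomm c a, mcomm c b]
      mul_comm := mcomm
      zero_mul := m0
      mul_zero := mr0 }
  have hF : IsField T :=
    { exists_pair_ne := ⟨u0, 0, hu0⟩
      mul_comm := mcomm
      mul_inv_cancel := fun {a} ha => ⟨act (kf a ha)⁻¹ u0, by
        show m a _ = u0
        rw [mne _ _ ha, ← hmul, mul_inv_cancel, hone]⟩ }
  letI := hF.toField
  let W : Type := {i : ℕ // i < Nat.card T}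
  let e : T ≃ W := (Finite.equivFin T).trans Fin.equivSubtype
  letI FF : Field W := e.symm.field
  letI : Fintype W := Fintype.ofEquiv (Fin (Nat.card T)) Fin.equivSubtype
  let r : W ≃+* T := e.symm.ringEquiv
  refine ⟨W, FF, inferInstance, r.toAddEquiv,
    MulEquiv.ofBijective (MonoidHom.mk' (fun k : (W)ˣ => kf (r k) (r.map_ne_zero_iff.2 k.ne_zero)) ?_)
      ⟨?_, ?_⟩, map_one r, fun k a => ?_⟩
  · intro k l
    refine (hku _ _ _ ?_).symm
    show act _ u0 = r (((k * l : (W)ˣ) : W))
    rw [hmul, hkf, Units.val_mul, map_mul]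
    exact (mne _ _ _).symm
  · intro k l e'
    have h1 := hkf (r k) (r.map_ne_zero_iff.2 k.ne_zero)
    rw [show kf (r k) (r.map_ne_zero_iff.2 k.ne_zero) = kf (r l) (r.map_ne_zero_iff.2 l.ne_zero) from e', hkf] at h1
    exact Units.ext (r.injective h1.symm)
  · intro k
    refine ⟨Units.mk0 (r.symm (act k u0)) (r.symm.map_ne_zero_iff.2 (hnz k)), ?_⟩
    refine (hku _ _ k ?_).symm
    show act k u0 = r (r.symm (act k u0))
    rw [r.apply_symm_apply]
  · show r ((k : W) * a) = act (kf (r k) _) (r a)
    rw [map_mul]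
    exact mne _ _ _

/-- an alternating biadditive map commuting with all scalars is zero in characteristic two -/
theorem alt_equivariant_zero {F : Type*} [Field F] [Finite F] [CharP F 2] (g : F → F → F)
    (hl : ∀ a c b, g (a + c) b = g a b + g c b) (hr : ∀ a b d, g a (b + d) = g a b + g a d)
    (halt : ∀ a, g a a = 0) (hk : ∀ k : F, k ≠ 0 → ∀ a b, g (k * a) (k * b) = k * g a b) (a b : F) :
    g a b = 0 := by
  have h0 : ∀ b, g 0 b = 0 := fun b => by
    have := hl 0 0 b
    rw [add_zero] at this
    exact left_eq_add.1 this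
  have hg : ∀ a b, a ≠ 0 → g a b = a * g 1 (b / a) := fun a b ha => by
    rw [← hk a ha, mul_one, mul_div_cancel₀ _ ha]
  have h1 : g 1 1 = 0 := halt 1
  have hh : ∀ y, g 1 y = 0 := by
    intro y
    obtain ⟨x, rfl⟩ : ∃ x, x ^ 2 = y := by
      obtain ⟨x, hx⟩ := FiniteField.isSquare_of_char_two (ringChar.eq F 2) y
      exact ⟨x, by rw [hx, pow_two]⟩
    by_cases hx : x = 0
    · subst hx
      have := hr 1 0 0
      rw [add_zero] at this
      simpa using left_eq_add.1 this
    by_cases hx1 : x + 1 = 0
    · rw [show x = 1 from CharTwo.add_eq_zero.1 hx1, one_pow, h1]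
    have e := hl x 1 (x * (x + 1))
    rw [hg _ _ hx1, hg _ _ hx, mul_div_assoc, div_self hx1, mul_one, mul_div_cancel_left₀ _ hx, hr, h1, add_zero,
      mul_add, mul_one, hr, ← pow_two] at e
    linear_combination -e
  by_cases ha : a = 0
  · rw [ha, h0]
  · rw [hg a b ha, hh, mul_zero]

/-- an automorphism for which `x φ(x)` is injective has odd order -/
theorem odd_order_of_injective {F : Type*} [Field F] [Finite F] [CharP F 2] (φ : F ≃+* F)
    (hinj : Function.Injective fun x : F => x * φ x) : Odd (orderOf φ) := by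
  classical
  have : Finite (F ≃+* F) := Finite.of_injective (fun σ => (σ : F → F)) DFunLike.coe_injective
  rw [← Nat.not_even_iff_odd]
  intro hev
  set d := orderOf φ with hd
  have hd0 : 0 < d := orderOf_pos φ
  have hsum : ∀ f : ℕ → F, f d = f 0 → ∑ i ∈ Finset.range d, f (i + 1) = ∑ i ∈ Finset.range d, f i := by
    intro f hf
    have h1 := Finset.sum_range_succ' f d
    rw [Finset.sum_range_succ, hf] at h1
    exact (add_right_cancel h1).symm
  let act : ℕ → F → F := fun i x => (φ ^ i) x
  have hact : ∀ i x, φ (act i x) = act (i + 1) x := fun i x => by simp only [act, pow_succ']; rfl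
  have hper : ∀ x, act d x = act 0 x := fun x => by simp only [act, hd, pow_orderOf_eq_one, pow_zero]
  obtain ⟨θ, hθ⟩ : ∃ θ, ∑ i ∈ Finset.range d, act i θ ≠ 0 := by
    by_contra hc
    push Not at hc
    have hli := (linearIndependent_monoidHom F F).comp
      (fun i : Fin d => ((φ ^ (i : ℕ)).toRingHom.toMonoidHom : F →* F)) (fun i j e => Fin.ext (by
        have e' : φ ^ (i : ℕ) = φ ^ (j : ℕ) := RingEquiv.ext fun x => DFunLike.congr_fun e x
        exact pow_injOn_Iio_orderOf (hd ▸ i.2 : (i : ℕ) < orderOf φ) (hd ▸ j.2 : (j : ℕ) < orderOf φ) e'))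
    have := Fintype.linearIndependent_iff.1 hli (fun _ => 1) (funext fun x => by
      simp only [Function.comp_apply, one_smul, Finset.sum_apply, Pi.zero_apply]
      rw [← hc x, ← Fin.sum_univ_eq_sum_range (fun i => act i x)]
      rfl) ⟨0, hd0⟩
    exact one_ne_zero this
  set T := ∑ i ∈ Finset.range d, act i θ with hT
  have hTfix : φ T = T := by
    rw [hT, map_sum]
    simp only [hact]
    exact hsum (fun i => act i θ) (hper θ)
  have h2 : (2 : F) = 0 := CharTwo.two_eq_zero
  set y := ∑ i ∈ Finset.range d, ((i : F) * act i θ) with hy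
  have hcast : ((d : ℕ) : F) = 0 := by
    obtain ⟨j, hj⟩ := hev
    rw [hj, Nat.cast_add, CharTwo.add_self_eq_zero]
  have hyfix : φ y + y = T := by
    have h3 : φ y + T = y := by
      rw [hy, hT, map_sum, ← hsum (fun i => act i θ) (hper θ),
        ← hsum (fun i => (i : F) * act i θ) (by simp only [hcast, Nat.cast_zero, zero_mul]), ← Finset.sum_add_distrib]
      refine Finset.sum_congr rfl fun i _ => ?_
      simp only [map_mul, map_natCast, hact, Nat.cast_add, Nat.cast_one]
      ring
    linear_combination h3 + (y - T) * h2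
  set w := y / T with hw
  have hwfix : φ w = w + 1 := by
    rw [hw, map_div₀, hTfix]
    field_simp
    linear_combination hyfix - y * h2
  have hw0 : w ≠ 0 := fun e => one_ne_zero (by rw [e, map_zero, zero_add] at hwfix; exact hwfix.symm)
  have hw1 : w + 1 ≠ 0 := fun e => hw0 (φ.injective (by rw [hwfix, e, map_zero]))
  have hone : (w + 1) / w * φ ((w + 1) / w) = 1 * φ 1 := by
    rw [map_div₀, map_add, map_one, hwfix, show w + 1 + 1 = w by linear_combination h2]
    field_simp
  have := hinj hone
  rw [div_eq_one_iff_eq hw0] at this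
  exact one_ne_zero (by linear_combination this : (1 : F) = 0)

end Cfsg.Agent.Suzuki.TwoGroup
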