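import Cfsg.Agent.Suzuki.TwoGroupField
import Cfsg.Prelude.Def_LieRecognition

/-!
Suzuki two-groups: the involutions form the centre, which is elementary abelian.
-/

set_option autoImplicit false

universe u

namespace Cfsg.Agent.Suzuki.TwoGroup

/-- a two-group whose involutions are central and are permuted regularly by the multiplicative group of a field -/
structure Data (P : Type u) [Group P] (F : Type) [Field F] where
  pg : IsPGroup 2 P
  e : F → P
  e_add : ∀ a b, e (a + b) = e a * e b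
  e_inj : Function.Injective e
  e_central : ∀ a p, e a * p = p * e a
  range : ∀ x : P, x * x = 1 → ∃ a, e a = x
  μ : Fˣ →* MulAut P
  μ_e : ∀ (k : Fˣ) a, μ k (e a) = e ((k : F) * a)

namespace Data

variable {P : Type u} [Group P] {F : Type} [Field F] (d : Data P F)

theorem e_zero : d.e 0 = 1 := by
  have := d.e_add 0 0
  rw [add_zero] at this
  exact left_eq_mul.1 this

theorem e_ne {a : F} (ha : a ≠ 0) : d.e a ≠ 1 := fun e => ha (d.e_inj (e.trans d.e_zero.symm))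

theorem e_sq [CharP F 2] (a : F) : d.e a * d.e a = 1 := by
  rw [← d.e_add, CharTwo.add_self_eq_zero, d.e_zero]

/-- coordinate of an involution -/
noncomputable def co (x : P) : F := Function.invFun d.e x

theorem co_e (a : F) : d.co (d.e a) = a := Function.leftInverse_invFun d.e_inj a

theorem e_co {x : P} (hx : x * x = 1) : d.e (d.co x) = x := Function.invFun_eq (d.range x hx)

include d in
theorem sq_central {x : P} (hx : x * x = 1) (p : P) : p * x = x * p := by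
  rw [← d.e_co hx, d.e_central]

theorem co_mul {x y : P} (hx : x * x = 1) (hy : y * y = 1) : d.co (x * y) = d.co x + d.co y := by
  conv_lhs => rw [← d.e_co hx, ← d.e_co hy, ← d.e_add, d.co_e]

theorem co_one : d.co 1 = 0 := by rw [← d.e_zero, d.co_e]

theorem eq_one_of_co {x : P} (hx : x * x = 1) (h : d.co x = 0) : x = 1 := by
  rw [← d.e_co hx, h, d.e_zero]

theorem co_μ (k : Fˣ) {x : P} (hx : x * x = 1) : d.co (d.μ k x) = (k : F) * d.co x := by
  conv_lhs => rw [← d.e_co hx, d.μ_e, d.co_e]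

theorem exists_μ {a : F} (ha : a ≠ 0) {x : P} (hx : x * x = 1) (hx1 : x ≠ 1) :
    ∃ k : Fˣ, d.μ k x = d.e a := by
  have h0 : d.co x ≠ 0 := fun h => hx1 (d.eq_one_of_co hx h)
  refine ⟨Units.mk0 (a / d.co x) (div_ne_zero ha h0), ?_⟩
  calc d.μ _ x = d.μ _ (d.e (d.co x)) := by rw [d.e_co hx]
    _ = d.e a := by rw [d.μ_e, Units.val_mk0, div_mul_cancel₀ a h0]

/-- commutative invariant subgroups of exponent `2 ^ e` with a non-trivial top power, acted on almost trivially -/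
structure Ok (A : Subgroup P) (e : ℕ) : Prop where
  comm : ∀ a ∈ A, ∀ b ∈ A, a * b = b * a
  expo : ∀ a ∈ A, a ^ 2 ^ e = 1
  top : ∃ b ∈ A, b ^ 2 ^ (e - 1) ≠ 1
  inv : ∀ k, ∀ a ∈ A, d.μ k a ∈ A
  act : ∀ a ∈ A, ∀ p : P, ∃ u ∈ A, p * a * p⁻¹ * a⁻¹ = u ^ 4

variable {d} {A : Subgroup P} {e : ℕ}

theorem Ok.e_pos (h : d.Ok A e) : 1 ≤ e := by
  obtain ⟨b, hb, hb1⟩ := h.top
  by_contra he
  exact hb1 (by rw [show e - 1 = e by omega]; exact h.expo b hb)

theorem Ok.top_sq (h : d.Ok A e) {a : P} (ha : a ∈ A) : a ^ 2 ^ (e - 1) * a ^ 2 ^ (e - 1) = 1 := by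
  rw [← pow_add, show 2 ^ (e - 1) + 2 ^ (e - 1) = 2 ^ e by
    obtain ⟨j, rfl⟩ := Nat.exists_eq_succ_of_ne_zero (by have := h.e_pos; omega : e ≠ 0)
    rw [Nat.succ_sub_one, pow_succ]; ring]
  exact h.expo a ha

theorem Ok.top_surj (h : d.Ok A e) (a : F) : ∃ b ∈ A, b ^ 2 ^ (e - 1) = d.e a := by
  by_cases ha : a = 0
  · exact ⟨1, one_mem _, by rw [one_pow, ha, d.e_zero]⟩
  obtain ⟨b, hb, hb1⟩ := h.top
  obtain ⟨k, hk⟩ := d.exists_μ ha (h.top_sq hb) hb1
  exact ⟨d.μ k b, h.inv k b hb, by rw [← map_pow, hk]⟩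

theorem Ok.e_mem (h : d.Ok A e) (a : F) : d.e a ∈ A := by
  obtain ⟨b, hb, e'⟩ := h.top_surj a
  rw [← e']
  exact pow_mem hb _

theorem Ok.homocyclic (h : d.Ok A e) : ∀ k, k ≤ e → ∀ a ∈ A, a ^ 2 ^ k = 1 → ∃ b ∈ A, a = b ^ 2 ^ (e - k) := by
  intro k
  induction k with
  | zero => intro _ a _ ha; exact ⟨1, one_mem _, by simpa using ha⟩
  | succ k ih =>
    intro hk a ha ha1
    have hsq : a ^ 2 ^ k * a ^ 2 ^ k = 1 := by
      rw [← pow_add, ← two_mul, ← pow_succ', ha1]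
    obtain ⟨b, hb, hbe⟩ := h.top_surj (d.co (a ^ 2 ^ k))
    rw [d.e_co hsq] at hbe
    have h1 : (a * (b ^ 2 ^ (e - (k + 1)))⁻¹) ^ 2 ^ k = 1 := by
      have hc : Commute a (b ^ 2 ^ (e - (k + 1)))⁻¹ := h.comm _ ha _ (inv_mem (pow_mem hb _))
      rw [hc.mul_pow, inv_pow, ← pow_mul, ← pow_add, show e - (k + 1) + k = e - 1 by omega, hbe, mul_inv_cancel]
    obtain ⟨c, hc, hce⟩ := ih (by omega) _ (mul_mem ha (inv_mem (pow_mem hb _))) h1
    refine ⟨c ^ 2 * b, mul_mem (pow_mem hc _) hb, ?_⟩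
    have hcb : Commute (c ^ 2) b := h.comm _ (pow_mem hc _) _ hb
    rw [hcb.mul_pow, ← pow_mul, ← pow_succ', show e - (k + 1) + 1 = e - k by omega, ← hce, inv_mul_cancel_right]

theorem Ok.sqrt (h : d.Ok A e) (he : 2 ≤ e) {c u : P} (hc : c ∈ A) (hu : u ∈ A) (hcu : c ^ 2 = u ^ 4) :
    ∃ v ∈ A, c = v ^ 2 := by
  have hcm : Commute c (u ^ 2)⁻¹ := h.comm _ hc _ (inv_mem (pow_mem hu _))
  obtain ⟨b, hb, hbe⟩ := h.homocyclic 1 (by omega) (c * (u ^ 2)⁻¹) (mul_mem hc (inv_mem (pow_mem hu _))) (by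
    rw [pow_one, hcm.mul_pow, hcu, inv_pow, ← pow_mul, mul_inv_cancel])
  refine ⟨b ^ 2 ^ (e - 2) * u, mul_mem (pow_mem hb _) hu, ?_⟩
  have hcm' : Commute (b ^ 2 ^ (e - 2)) u := h.comm _ (pow_mem hb _) _ hu
  rw [hcm'.mul_pow, ← pow_mul, ← pow_succ, show e - 2 + 1 = e - 1 by omega, ← hbe, inv_mul_cancel_right]

theorem Ok.conj_mem (h : d.Ok A e) {a : P} (ha : a ∈ A) (p : P) : p * a * p⁻¹ ∈ A := by
  obtain ⟨u, hu, e'⟩ := h.act a ha p
  rw [show p * a * p⁻¹ = p * a * p⁻¹ * a⁻¹ * a by group, e']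
  exact mul_mem (pow_mem hu _) ha

/-- the next layer -/
def Ok.next (h : d.Ok A e) : Subgroup P where
  carrier := {x | x * x ∈ A ∧ ∀ p, p * x * p⁻¹ * x⁻¹ ∈ A}
  one_mem' := ⟨by simp, fun p => by simp⟩
  mul_mem' := by
    rintro x y ⟨hx, hx'⟩ ⟨hy, hy'⟩
    refine ⟨?_, fun p => ?_⟩
    · rw [show x * y * (x * y) = x * (y * x * y⁻¹ * x⁻¹) * x⁻¹ * (x * x) * (y * y) by group]
      exact mul_mem (mul_mem (h.conj_mem (hx' y) x) hx) hy
    · rw [show p * (x * y) * p⁻¹ * (x * y)⁻¹ = (p * x * p⁻¹ * x⁻¹) * (x * (p * y * p⁻¹ * y⁻¹) * x⁻¹) by group]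
      exact mul_mem (hx' p) (h.conj_mem (hy' p) x)
  inv_mem' := by
    rintro x ⟨hx, hx'⟩
    refine ⟨?_, fun p => ?_⟩
    · rw [← mul_inv_rev]; exact inv_mem hx
    · rw [show p * x⁻¹ * p⁻¹ * (x⁻¹)⁻¹ = x⁻¹ * (p * x * p⁻¹ * x⁻¹)⁻¹ * (x⁻¹)⁻¹ by group]
      exact h.conj_mem (inv_mem (hx' p)) _

theorem Ok.mem_next (h : d.Ok A e) {x : P} :
    x ∈ h.next ↔ x * x ∈ A ∧ ∀ p, p * x * p⁻¹ * x⁻¹ ∈ A := Iff.rfl

theorem Ok.le_next (h : d.Ok A e) : A ≤ h.next := fun a ha =>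
  ⟨mul_mem ha ha, fun p => mul_mem (h.conj_mem ha p) (inv_mem ha)⟩

theorem Ok.next_inv (h : d.Ok A e) (k : Fˣ) {x : P} (hx : x ∈ h.next) : d.μ k x ∈ h.next := by
  refine ⟨?_, fun p => ?_⟩
  · rw [← map_mul]; exact h.inv k _ hx.1
  · obtain ⟨q, rfl⟩ := (d.μ k).surjective p
    rw [← map_inv, ← map_inv, ← map_mul, ← map_mul, ← map_mul]
    exact h.inv k _ (hx.2 q)

theorem exists_next_not_mem [Finite P] (h : d.Ok A e) (hne : A ≠ ⊤) : ∃ x ∈ h.next, x ∉ A := by
  have : A.Normal := ⟨fun a ha g => h.conj_mem ha g⟩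
  have : Nontrivial (P ⧸ A) := QuotientGroup.nontrivial_iff.2 hne
  have hq : IsPGroup 2 (P ⧸ A) := d.pg.to_quotient A
  have := Fact.mk Nat.prime_two
  have hz := hq.center_nontrivial
  obtain ⟨z, hz2⟩ : ∃ z : Subgroup.center (P ⧸ A), orderOf z = 2 := by
    refine exists_prime_orderOf_dvd_card' 2 ?_
    obtain ⟨j, hj⟩ := IsPGroup.iff_card.1 (hq.to_subgroup (Subgroup.center (P ⧸ A)))
    rw [hj]
    refine dvd_pow_self 2 ?_
    rintro rfl
    have h1 := Finite.one_lt_card (α := Subgroup.center (P ⧸ A))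
    rw [hj] at h1
    simp at h1
  obtain ⟨x, hx⟩ := QuotientGroup.mk_surjective z.1
  refine ⟨x, ⟨?_, fun p => ?_⟩, fun hxA => ?_⟩
  · rw [← QuotientGroup.eq_one_iff, QuotientGroup.mk_mul, hx, ← Subgroup.coe_mul, ← pow_two, ← hz2,
      pow_orderOf_eq_one, Subgroup.coe_one]
  · rw [← QuotientGroup.eq_one_iff, QuotientGroup.mk_mul, QuotientGroup.mk_mul, QuotientGroup.mk_mul,
      QuotientGroup.mk_inv, QuotientGroup.mk_inv, hx, Subgroup.mem_center_iff.1 z.2, mul_inv_cancel_right, mul_inv_cancel]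
  · have : z.1 = 1 := by rw [← hx, QuotientGroup.eq_one_iff]; exact hxA
    have : z = 1 := Subtype.ext this
    rw [this, orderOf_one] at hz2
    omega

/-- `x a x⁻¹ a⁻¹` -/
def dl (x a : P) : P := x * a * x⁻¹ * a⁻¹

theorem dl_mul_right (h : d.Ok A e) (x : P) {a b : P} (ha : a ∈ A) (hb : b ∈ A) :
    dl x (a * b) = dl x a * dl x b := by
  have hu : dl x a ∈ A := mul_mem (h.conj_mem ha x) (inv_mem ha)
  have hv : dl x b ∈ A := mul_mem (h.conj_mem hb x) (inv_mem hb)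
  rw [show dl x (a * b) = (x * a * x⁻¹) * (dl x b * a⁻¹) by simp only [dl]; group,
    h.comm _ hv _ (inv_mem ha), ← mul_assoc]
  rfl

theorem dl_pow_right (h : d.Ok A e) (x : P) {a : P} (ha : a ∈ A) : ∀ n : ℕ, dl x (a ^ n) = dl x a ^ n
  | 0 => by simp [dl]
  | n + 1 => by rw [pow_succ, dl_mul_right h x (pow_mem ha n) ha, dl_pow_right h x ha n, pow_succ]

theorem dl_mul_left (h : d.Ok A e) (x y : P) {a : P} (ha : a ∈ A) :
    dl (x * y) a = dl x (dl y a) * dl y a * dl x a := by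
  simp only [dl]
  group

theorem dl_map (k : Fˣ) (x a : P) : d.μ k (dl x a) = dl (d.μ k x) (d.μ k a) := by
  simp only [dl, map_mul, map_inv]

theorem dl_mem (h : d.Ok A e) (x : P) {a : P} (ha : a ∈ A) : dl x a ∈ A :=
  mul_mem (h.conj_mem ha x) (inv_mem ha)

theorem comm_mem_sq (h : d.Ok A e) (he : 2 ≤ e) {x y : P} (hx : x ∈ h.next) :
    ∃ v ∈ A, dl y x = v ^ 2 := by
  have hc : dl y x ∈ A := hx.2 y
  obtain ⟨u, hu, e1⟩ := h.act (x * x) hx.1 y
  obtain ⟨v, hv, e2⟩ := h.act (dl y x) hc x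
  have e3 : dl y (x * x) = dl y x * (dl x (dl y x) * dl y x) := by simp only [dl]; group
  have e4 : dl y x ^ 2 = u ^ 4 * (v ^ 4)⁻¹ := by
    rw [pow_two, eq_mul_inv_iff_mul_eq, mul_assoc, ← h.comm (v ^ 4) (pow_mem hv _) _ hc]
    rw [show y * (x * x) * y⁻¹ * (x * x)⁻¹ = dl y (x * x) from rfl, e3] at e1
    rw [show x * dl y x * x⁻¹ * (dl y x)⁻¹ = dl x (dl y x) from rfl] at e2
    rw [← e2]
    exact e1
  refine h.sqrt he hc (mul_mem hu (inv_mem hv)) ?_
  have huv : Commute u v⁻¹ := h.comm u hu v⁻¹ (inv_mem hv)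
  rw [e4, huv.mul_pow, inv_pow]

/-- the squares of the next layer modulo lower powers -/
def sv (e : ℕ) (x : P) : P := (x * x) ^ 2 ^ (e - 1)

theorem sv_sq (h : d.Ok A e) {x : P} (hx : x ∈ h.next) : sv e x * sv e x = 1 := h.top_sq hx.1

theorem sv_mul (h : d.Ok A e) (he : 2 ≤ e) {x y : P} (hx : x ∈ h.next) (hy : y ∈ h.next) :
    sv e (x * y) = sv e x * sv e y := by
  obtain ⟨v, hv, hve⟩ := comm_mem_sq h he hx (y := y)
  obtain ⟨v', hv', hve'⟩ := h.act (dl y x) (hx.2 y) x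
  have e1 : x * y * (x * y) = (x * (dl y x) * x⁻¹) * ((x * x) * (y * y)) := by simp only [dl]; group
  have e2 : x * dl y x * x⁻¹ = v' ^ 4 * v ^ 2 := by rw [← hve', ← hve, inv_mul_cancel_right]
  have hA : ∀ w ∈ A, (w ^ 2) ^ 2 ^ (e - 1) = 1 := fun w hw => by
    rw [← pow_mul, ← pow_succ', show e - 1 + 1 = e by omega]; exact h.expo w hw
  have m1 : v' ^ 4 ∈ A := pow_mem hv' _
  have m2 : v ^ 2 ∈ A := pow_mem hv _
  have c1 : Commute (v' ^ 4 * v ^ 2) (x * x * (y * y)) :=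
    h.comm _ (mul_mem m1 m2) _ (mul_mem hx.1 hy.1)
  have c2 : Commute (v' ^ 4) (v ^ 2) := h.comm _ m1 _ m2
  have c3 : Commute (x * x) (y * y) := h.comm _ hx.1 _ hy.1
  simp only [sv]
  rw [e1, e2, c1.mul_pow, c2.mul_pow, c3.mul_pow, show v' ^ 4 = (v' ^ 2) ^ 2 by rw [← pow_mul],
    hA _ (pow_mem hv' _), hA _ hv, one_mul, one_mul]

theorem sq_descend [CharP F 2] (h : d.Ok A e) : ∀ n k, 1 ≤ k → e ≤ k + n → ∀ x ∈ h.next,
    ∀ u ∈ A, x * x = u ^ 2 ^ k → x ∈ A := by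
  intro n
  induction n with
  | zero =>
    intro k _ hek x hx u hu hxu
    have h1 : x * x = 1 := by
      rw [hxu, ← Nat.add_sub_cancel' (show e ≤ k by omega), pow_add, pow_mul, h.expo u hu, one_pow]
    rw [← d.e_co h1]
    exact h.e_mem _
  | succ n ih =>
    intro k hk hek x hx u hu hxu
    set b := u ^ 2 ^ (k - 1) with hb
    have hbA : b ∈ A := pow_mem hu _
    have hb2 : b * b = x * x := by
      rw [hxu, hb, ← pow_add, ← two_mul, ← pow_succ', Nat.sub_add_cancel hk]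
    obtain ⟨v, hv, hve⟩ := h.act u⁻¹ (inv_mem hu) x⁻¹
    have e1 : dl x⁻¹ b⁻¹ = v ^ 2 ^ (k + 1) := by
      rw [hb, ← inv_pow, dl_pow_right h _ (inv_mem hu), show dl x⁻¹ u⁻¹ = v ^ 4 from hve, ← pow_mul]
      congr 1
      rw [show k + 1 = k - 1 + 2 by omega, pow_add]
      ring
    have e2 : x * b⁻¹ * (x * b⁻¹) = v ^ 2 ^ (k + 1) := by
      rw [← e1, show x * b⁻¹ * (x * b⁻¹) = x * x * (dl x⁻¹ b⁻¹ * b⁻¹) * b⁻¹ by simp only [dl]; group,
        h.comm _ (dl_mem h _ (inv_mem hbA)) _ (inv_mem hbA), ← hb2,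
        show b * b * (b⁻¹ * dl x⁻¹ b⁻¹) * b⁻¹ = b * dl x⁻¹ b⁻¹ * b⁻¹ by group,
        h.comm _ hbA _ (dl_mem h _ (inv_mem hbA)), mul_inv_cancel_right]
    have := ih (k + 1) (by omega) (by omega) _ (mul_mem hx (inv_mem (h.le_next hbA))) v hv e2
    simpa using mul_mem this hbA

theorem sv_eq_one [CharP F 2] (h : d.Ok A e) (he : 2 ≤ e) {x : P} (hx : x ∈ h.next) (h1 : sv e x = 1) :
    x ∈ A := by
  obtain ⟨b, hb, hbe⟩ := h.homocyclic (e - 1) (by omega) (x * x) hx.1 h1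
  exact sq_descend h e 1 le_rfl (by omega) x hx b hb (by rw [hbe, show e - (e - 1) = 1 by omega])

theorem sv_map (k : Fˣ) (x : P) : sv e (d.μ k x) = d.μ k (sv e x) := by
  simp only [sv, map_pow, map_mul]

theorem sv_surj [Finite P] [CharP F 2] (h : d.Ok A e) (he : 2 ≤ e) (hne : A ≠ ⊤) (a : F) :
    ∃ x ∈ h.next, sv e x = d.e a := by
  by_cases ha : a = 0
  · exact ⟨1, one_mem _, by simp [sv, ha, d.e_zero]⟩
  obtain ⟨x, hx, hxA⟩ := exists_next_not_mem h hne
  have hx1 : sv e x ≠ 1 := fun e' => hxA (sv_eq_one h he hx e')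
  obtain ⟨k, hk⟩ := d.exists_μ ha (sv_sq h hx) hx1
  exact ⟨d.μ k x, h.next_inv k hx, by rw [sv_map, hk]⟩

theorem Ok.step [Finite P] [Finite F] [CharP F 2] (h : d.Ok A e) (he : 2 ≤ e) (hne : A ≠ ⊤) :
    ∃ X : Subgroup P, d.Ok X (e + 1) := by
  classical
  choose xs hxs hxse using sv_surj h he hne
  choose bs hbs hbse using h.top_surj
  have hsame : ∀ {x y}, x ∈ h.next → y ∈ h.next → sv e x = sv e y → ∃ a ∈ A, x = y * a := by
    intro x y hx hy e'
    refine ⟨y⁻¹ * x, sv_eq_one h he (mul_mem (inv_mem hy) hx) ?_, by group⟩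
    rw [sv_mul h he (inv_mem hy) hx, e', ← sv_mul h he (inv_mem hy) hy, inv_mul_cancel]
    simp [sv]
  -- kill the action of the layer
  have key : ∀ t, 2 ≤ t → t ≤ e → ∀ x ∈ h.next, ∀ a ∈ A, ∃ u ∈ A, dl x a = u ^ 2 ^ t := by
    intro t ht
    induction t, ht using Nat.le_induction with
    | base => intro _ x _ a ha; exact h.act a ha x
    | succ t ht ih =>
      intro hte x hx a ha
      have ih := ih (by omega)
      set N := 2 ^ (e - 1 - t) with hN
      have hpowt : ∀ w ∈ A, (w ^ 2 ^ t) ^ N * (w ^ 2 ^ t) ^ N = 1 := fun w hw => by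
        rw [← pow_mul, hN, ← pow_add 2, show t + (e - 1 - t) = e - 1 by omega]
        exact h.top_sq hw
      have hD2 : ∀ x ∈ h.next, ∀ a ∈ A, dl x a ^ N * dl x a ^ N = 1 := fun x hx a ha => by
        obtain ⟨u, hu, e'⟩ := ih x hx a ha
        rw [e']; exact hpowt u hu
      have hA0 : ∀ x ∈ h.next, ∀ w ∈ A, dl x (w ^ 2) ^ N = 1 := fun x hx w hw => by
        obtain ⟨u, hu, e'⟩ := ih x hx w hw
        rw [dl_pow_right h x hw, e', ← pow_mul, ← pow_mul, hN, ← pow_succ', ← pow_add,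
          show t + (e - 1 - t + 1) = e by omega]
        exact h.expo u hu
      have hDmulr : ∀ x ∈ h.next, ∀ a ∈ A, ∀ b ∈ A, dl x (a * b) ^ N = dl x a ^ N * dl x b ^ N :=
        fun x hx a ha b hb => by
          have hc : Commute (dl x a) (dl x b) := h.comm _ (dl_mem h x ha) _ (dl_mem h x hb)
          rw [dl_mul_right h x ha hb, hc.mul_pow]
      have hDcongr : ∀ x ∈ h.next, ∀ a ∈ A, ∀ b ∈ A, a ^ 2 ^ (e - 1) = b ^ 2 ^ (e - 1) → dl x a ^ N = dl x b ^ N := by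
        intro x hx a ha b hb e'
        have hc : Commute a b⁻¹ := h.comm _ ha _ (inv_mem hb)
        obtain ⟨w, hw, hwe⟩ := h.homocyclic (e - 1) (by omega) (a * b⁻¹) (mul_mem ha (inv_mem hb)) (by
          rw [hc.mul_pow, inv_pow, e', mul_inv_cancel])
        rw [show a = (a * b⁻¹) * b by group, hDmulr x hx _ (mul_mem ha (inv_mem hb)) b hb, hwe,
          show e - (e - 1) = 1 by omega, pow_one, hA0 x hx w hw, one_mul]
      have hDmull : ∀ x ∈ h.next, ∀ y ∈ h.next, ∀ a ∈ A, dl (x * y) a ^ N = dl x a ^ N * dl y a ^ N := by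
        intro x hx y hy a ha
        obtain ⟨u, hu, e'⟩ := ih y hy a ha
        have e1 : dl x (dl y a) ^ N = 1 := by
          rw [e', show u ^ 2 ^ t = (u ^ 2 ^ (t - 1)) ^ 2 by
            rw [← pow_mul, ← pow_succ, show t - 1 + 1 = t by omega]]
          exact hA0 x hx _ (pow_mem hu _)
        have c1 : Commute (dl x (dl y a) * dl y a) (dl x a) :=
          h.comm _ (mul_mem (dl_mem h _ (dl_mem h _ ha)) (dl_mem h _ ha)) _ (dl_mem h _ ha)
        have c2 : Commute (dl x (dl y a)) (dl y a) := h.comm _ (dl_mem h _ (dl_mem h _ ha)) _ (dl_mem h _ ha)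
        have c3 : Commute (dl y a ^ N) (dl x a ^ N) :=
          h.comm _ (pow_mem (dl_mem h _ ha) _) _ (pow_mem (dl_mem h _ ha) _)
        rw [dl_mul_left h x y ha, c1.mul_pow, c2.mul_pow, e1, one_mul, c3.eq]
      have hDxs : ∀ x ∈ h.next, ∀ y ∈ h.next, ∀ a ∈ A, sv e x = sv e y → dl x a = dl y a := by
        intro x hx y hy a ha e'
        obtain ⟨c, hc, rfl⟩ := hsame hx hy e'
        rw [dl_mul_left h y c ha, show dl c a = 1 by
          simp only [dl]; rw [h.comm _ hc _ ha, mul_inv_cancel_right, mul_inv_cancel]]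
        simp [dl]
      have hg := alt_equivariant_zero (fun p q => d.co (dl (xs p) (bs q) ^ N)) ?_ ?_ ?_ ?_
      · have hfin : dl x a ^ N = 1 := by
          have := hg (d.co (sv e x)) (d.co (a ^ 2 ^ (e - 1)))
          rw [hDxs (xs _) (hxs _) x hx _ (hbs _) (by rw [hxse, d.e_co (sv_sq h hx)]),
            hDcongr x hx _ (hbs _) a ha (by rw [hbse, d.e_co (h.top_sq ha)])] at this
          exact d.eq_one_of_co (hD2 x hx a ha) this
        obtain ⟨u, hu, e'⟩ := ih x hx a ha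
        have : u ^ 2 ^ (e - 1) = 1 := by
          rw [e', ← pow_mul, hN, ← pow_add, show t + (e - 1 - t) = e - 1 by omega] at hfin
          exact hfin
        obtain ⟨w, hw, hwe⟩ := h.homocyclic (e - 1) (by omega) u hu this
        refine ⟨w, hw, ?_⟩
        rw [e', hwe, show e - (e - 1) = 1 by omega, ← pow_mul, pow_one, ← pow_succ']
      · intro p p' q
        rw [hDxs (xs (p + p')) (hxs _) (xs p * xs p') (mul_mem (hxs _) (hxs _)) _ (hbs _)
          (by rw [sv_mul h he (hxs _) (hxs _), hxse, hxse, hxse, d.e_add]),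
          hDmull _ (hxs _) _ (hxs _) _ (hbs _), d.co_mul (hD2 _ (hxs _) _ (hbs _)) (hD2 _ (hxs _) _ (hbs _))]
      · intro p q q'
        have hc : Commute (bs q) (bs q') := h.comm _ (hbs _) _ (hbs _)
        rw [hDcongr _ (hxs _) (bs (q + q')) (hbs _) (bs q * bs q') (mul_mem (hbs _) (hbs _))
          (by rw [hc.mul_pow, hbse, hbse, hbse, d.e_add]),
          hDmulr _ (hxs _) _ (hbs _) _ (hbs _), d.co_mul (hD2 _ (hxs _) _ (hbs _)) (hD2 _ (hxs _) _ (hbs _))]
      · intro p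
        rw [hDcongr _ (hxs _) (bs p) (hbs _) (xs p * xs p) (hxs p).1 (by rw [hbse]; exact (hxse p).symm),
          show dl (xs p) (xs p * xs p) = 1 by simp only [dl]; group, one_pow, d.co_one]
      · intro k hk p q
        let k' : Fˣ := Units.mk0 k hk
        have e1 : d.μ k' (dl (xs p) (bs q) ^ N) = dl (xs (k * p)) (bs (k * q)) ^ N := by
          rw [map_pow, dl_map, ← hDxs (xs (k * p)) (hxs _) _ (h.next_inv k' (hxs p)) _ (h.inv k' _ (hbs q))
            (by rw [sv_map, hxse, hxse, d.μ_e, Units.val_mk0])]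
          exact hDcongr _ (hxs _) _ (h.inv k' _ (hbs q)) _ (hbs _)
            (by rw [← map_pow, hbse, hbse, d.μ_e, Units.val_mk0])
        rw [← e1, d.co_μ k' (hD2 _ (hxs _) _ (hbs _)), Units.val_mk0]
  have hXA : ∀ x ∈ h.next, ∀ a ∈ A, dl x a = 1 := fun x hx a ha => by
    obtain ⟨u, hu, e'⟩ := key e he le_rfl x hx a ha
    rw [e', h.expo u hu]
  have hXA' : ∀ x ∈ h.next, ∀ a ∈ A, x * a = a * x := fun x hx a ha => by
    have := hXA x hx a ha
    simp only [dl] at this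
    exact mul_inv_eq_iff_eq_mul.1 (mul_inv_eq_one.1 this)
  -- the layer is commutative
  have hc2 : ∀ x ∈ h.next, ∀ y ∈ h.next, dl y x * dl y x = 1 := by
    intro x hx y hy
    have e1 := hXA y hy (x * x) hx.1
    rw [show dl y (x * x) = dl y x * (dl x (dl y x) * dl y x) by simp only [dl]; group, hXA x hx (dl y x) (hx.2 y), one_mul] at e1
    exact e1
  have hcl : ∀ x ∈ h.next, ∀ y ∈ h.next, ∀ z ∈ h.next, dl z (x * y) = dl z x * dl z y := by
    intro x hx y hy z hz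
    rw [show dl z (x * y) = dl z x * (x * dl z y * x⁻¹) by simp only [dl]; group,
      hXA' x hx (dl z y) (hy.2 z), mul_inv_cancel_right]
  have hinvd : ∀ x ∈ h.next, ∀ y ∈ h.next, dl x y = dl y x := by
    intro x hx y hy
    rw [show dl x y = (dl y x)⁻¹ by simp only [dl]; group]
    exact inv_eq_of_mul_eq_one_right (hc2 x hx y hy)
  have hA1 : ∀ z ∈ h.next, ∀ a ∈ A, dl z a = 1 := hXA
  have hD : ∀ z ∈ h.next, ∀ x ∈ h.next, ∀ y ∈ h.next, sv e x = sv e y → dl z x = dl z y := by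
    intro z hz x hx y hy e'
    obtain ⟨c, hc, rfl⟩ := hsame hx hy e'
    rw [hcl y hy c (h.le_next hc) z hz, hA1 z hz c hc, mul_one]
  have hg := alt_equivariant_zero (fun p q => d.co (dl (xs p) (xs q))) ?_ ?_ ?_ ?_
  · have hcomm : ∀ x ∈ h.next, ∀ y ∈ h.next, x * y = y * x := by
      intro x hx y hy
      have := hg (d.co (sv e x)) (d.co (sv e y))
      rw [hD _ (hxs _) _ (hxs _) y hy (by rw [hxse, d.e_co (sv_sq h hy)]), ← hinvd y hy _ (hxs _),
        hD y hy _ (hxs _) x hx (by rw [hxse, d.e_co (sv_sq h hx)])] at this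
      have e1 := d.eq_one_of_co (hc2 x hx y hy) this
      simp only [dl] at e1
      exact (mul_inv_eq_iff_eq_mul.1 (mul_inv_eq_one.1 e1)).symm
    refine ⟨h.next, hcomm, fun x hx => ?_, ?_, h.next_inv, fun x hx p => ?_⟩
    · rw [pow_succ', pow_mul, pow_two]
      exact h.expo _ hx.1
    · obtain ⟨x, hx, hxe⟩ := sv_surj h he hne 1
      refine ⟨x, hx, fun e' => d.e_ne one_ne_zero ?_⟩
      rw [← hxe, sv, ← pow_two, ← pow_mul, ← pow_succ', show e - 1 + 1 = e + 1 - 1 by omega]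
      exact e'
    · have hd : dl p x ∈ A := hx.2 p
      obtain ⟨u, hu, e1⟩ := h.act (x * x) hx.1 p
      have e2 : dl p x ^ 2 = u ^ 4 := by
        rw [← e1, show p * (x * x) * p⁻¹ * (x * x)⁻¹ = dl p x * (x * dl p x * x⁻¹) by simp only [dl]; group,
          hXA' x hx (dl p x) hd, mul_inv_cancel_right, pow_two]
      obtain ⟨v, hv, hve⟩ := h.sqrt he hd hu e2
      obtain ⟨w, hw, hwe⟩ : ∃ w ∈ h.next, v = w * w := by
        obtain ⟨y, hy, hye⟩ := sv_surj h he hne (d.co (v ^ 2 ^ (e - 1)))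
        rw [d.e_co (h.top_sq hv), sv] at hye
        have hcc : Commute v (y * y)⁻¹ := h.comm _ hv _ (inv_mem hy.1)
        obtain ⟨b, hb, hbe⟩ := h.homocyclic (e - 1) (by omega) (v * (y * y)⁻¹) (mul_mem hv (inv_mem hy.1)) (by
          rw [hcc.mul_pow, inv_pow, hye, mul_inv_cancel])
        refine ⟨b * y, mul_mem (h.le_next hb) hy, ?_⟩
        rw [show b * y * (b * y) = b * (y * b) * y by group, hXA' y hy b hb,
          show b * (b * y) * y = b * b * (y * y) by group, ← pow_two b, show b ^ 2 = v * (y * y)⁻¹ by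
            rw [hbe, show e - (e - 1) = 1 by omega, pow_one], inv_mul_cancel_right]
      refine ⟨w, hw, ?_⟩
      show dl p x = w ^ 4
      rw [hve, hwe, ← pow_two, ← pow_mul]
  · intro p p' q
    rw [hinvd _ (hxs _) _ (hxs _), hD _ (hxs q) (xs (p + p')) (hxs _) (xs p * xs p') (mul_mem (hxs _) (hxs _))
      (by rw [sv_mul h he (hxs _) (hxs _), hxse, hxse, hxse, d.e_add]), hcl _ (hxs _) _ (hxs _) _ (hxs _),
      d.co_mul (hc2 _ (hxs _) _ (hxs _)) (hc2 _ (hxs _) _ (hxs _)), hinvd _ (hxs q) _ (hxs p), hinvd _ (hxs q) _ (hxs p')]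
  · intro p q q'
    rw [hD _ (hxs p) (xs (q + q')) (hxs _) (xs q * xs q') (mul_mem (hxs _) (hxs _))
      (by rw [sv_mul h he (hxs _) (hxs _), hxse, hxse, hxse, d.e_add]), hcl _ (hxs _) _ (hxs _) _ (hxs _),
      d.co_mul (hc2 _ (hxs _) _ (hxs _)) (hc2 _ (hxs _) _ (hxs _))]
  · intro p
    rw [show dl (xs p) (xs p) = 1 by simp only [dl]; group, d.co_one]
  · intro k hk p q
    let k' : Fˣ := Units.mk0 k hk
    have m1 := h.next_inv k' (hxs p)
    have m2 := h.next_inv k' (hxs q)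
    have e1 : d.μ k' (dl (xs p) (xs q)) = dl (xs (k * p)) (xs (k * q)) := by
      rw [dl_map, hD _ m1 _ m2 (xs (k * q)) (hxs _) (by rw [sv_map, hxse, hxse, d.μ_e, Units.val_mk0]),
        hinvd _ m1 _ (hxs _), hD _ (hxs (k * q)) _ m1 (xs (k * p)) (hxs _)
          (by rw [sv_map, hxse, hxse, d.μ_e, Units.val_mk0]), hinvd _ (hxs (k * q)) _ (hxs _)]
    rw [← e1, d.co_μ k' (hc2 _ (hxs _) _ (hxs _)), Units.val_mk0]

variable (d)

include d in
theorem center_inv (k : Fˣ) {z : P} (hz : z ∈ Subgroup.center P) : d.μ k z ∈ Subgroup.center P := by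
  refine Subgroup.mem_center_iff.2 fun p => ?_
  obtain ⟨q, rfl⟩ := (d.μ k).surjective p
  rw [← map_mul, ← map_mul, Subgroup.mem_center_iff.1 hz q]

include d in
/-- the centre has exponent two -/
theorem center_sq [Finite P] [Finite F] [CharP F 2] (hnc : ∃ x y : P, x * y ≠ y * x) {z : P}
    (hz : z ∈ Subgroup.center P) : z * z = 1 := by
  classical
  by_contra hzz
  have hex : ∃ e, ∀ a ∈ Subgroup.center P, a ^ 2 ^ e = 1 := by
    obtain ⟨n, hn⟩ := IsPGroup.iff_card.1 d.pg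
    exact ⟨n, fun a _ => by rw [← hn]; exact pow_card_eq_one'⟩
  set e := Nat.find hex with he
  have he2 : 2 ≤ e := by
    by_contra hlt
    have := Nat.find_spec hex z hz
    rw [← he] at this
    rcases (show e = 0 ∨ e = 1 by omega) with h0 | h0 <;> rw [h0] at this
    · rw [pow_zero, pow_one] at this; exact hzz (by rw [this, one_mul])
    · rw [pow_one, pow_two] at this; exact hzz this
  have hA : d.Ok (Subgroup.center P) e := by
    refine ⟨fun a ha b _ => (Subgroup.mem_center_iff.1 ha b).symm, Nat.find_spec hex, ?_, fun k a ha => d.center_inv k ha,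
      fun a ha p => ⟨1, one_mem _, by rw [one_pow, Subgroup.mem_center_iff.1 ha p, mul_inv_cancel_right, mul_inv_cancel]⟩⟩
    by_contra hc
    push Not at hc
    exact Nat.find_min hex (show e - 1 < e by omega) hc
  have hgrow : ∀ j, ∃ A : Subgroup P, d.Ok A (e + j) := by
    intro j
    induction j with
    | zero => exact ⟨_, hA⟩
    | succ j ih =>
      obtain ⟨A, hA⟩ := ih
      refine hA.step (by omega) fun htop => ?_
      obtain ⟨x, y, hxy⟩ := hnc
      exact hxy (hA.comm x (htop ▸ Subgroup.mem_top x) y (htop ▸ Subgroup.mem_top y))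
  obtain ⟨A, hA'⟩ := hgrow (Nat.card P)
  obtain ⟨b, hb, hb1⟩ := hA'.top
  obtain ⟨n, hn⟩ := IsPGroup.iff_card.1 d.pg
  refine hb1 ?_
  have hnlt : n ≤ e + Nat.card P - 1 := by
    have := Nat.lt_two_pow_self (n := n)
    omega
  rw [← Nat.add_sub_cancel' hnlt, pow_add, pow_mul, ← hn, pow_card_eq_one', one_pow]

end Data

end Cfsg.Agent.Suzuki.TwoGroup
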