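import Cfsg.Agent.Suzuki.TwoGroupHigman
import Cfsg.Agent.Suzuki.FieldAutSpan

/-!
Suzuki two-groups whose order is the square of the order of the centre are of type A.
-/

set_option autoImplicit false

universe u

namespace Cfsg.Agent.Suzuki.TwoGroup

/-- every Suzuki two-group carries the data -/
theorem exists_data {P : Type u} [Group P] (hP : Cfsg.IsSuzukiTwoGroup P) :
    ∃ (F : Type) (_ : Field F) (_ : Fintype F) (_ : CharP F 2), Nonempty (Data P F) := by
  classical
  obtain ⟨hfin, hpg, ⟨x, y, hxy⟩, -, K, hcyc, hreg⟩ := hP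
  have := Fact.mk Nat.prime_two
  have hnt : Nontrivial P := ⟨x, 1, fun e => hxy (by rw [e, one_mul, mul_one])⟩
  have hz := hpg.center_nontrivial
  obtain ⟨z, hz2⟩ : ∃ z : Subgroup.center P, orderOf z = 2 := by
    refine exists_prime_orderOf_dvd_card' 2 ?_
    obtain ⟨j, hj⟩ := IsPGroup.iff_card.1 (hpg.to_subgroup (Subgroup.center P))
    rw [hj]
    refine dvd_pow_self 2 ?_
    rintro rfl
    have h1 := Finite.one_lt_card (α := Subgroup.center P)
    rw [hj] at h1
    simp at h1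
  have hz1 : z.1 ≠ 1 := fun e => by
    rw [show z = 1 from Subtype.ext e, orderOf_one] at hz2
    omega
  have hzz : z.1 * z.1 = 1 := by
    rw [← Subgroup.coe_mul, ← pow_two, ← hz2, pow_orderOf_eq_one, Subgroup.coe_one]
  have hcent : ∀ x : P, x * x = 1 → ∀ p, x * p = p * x := by
    intro x hx p
    by_cases hx1 : x = 1
    · rw [hx1, one_mul, mul_one]
    obtain ⟨k, hk, -⟩ := hreg z.1 x hz1 hzz hx1 hx
    obtain ⟨q, rfl⟩ := (k.1 : MulAut P).surjective p
    rw [← hk, ← map_mul, ← map_mul, Subgroup.mem_center_iff.1 z.2 q]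
  let Om : Subgroup P :=
    { carrier := {x | x * x = 1}
      one_mem' := one_mul 1
      mul_mem' := fun {a b} ha hb => by
        show a * b * (a * b) = 1
        rw [show a * b * (a * b) = a * (b * a) * b by group, ← hcent a ha b, show a * (a * b) * b = a * a * (b * b) by group,
          show a * a = 1 from ha, show b * b = 1 from hb, one_mul]
      inv_mem' := fun {a} ha => by
        show a⁻¹ * a⁻¹ = 1
        rw [← mul_inv_rev, show a * a = 1 from ha, inv_one] }
  let : CommGroup ↥Om := { (inferInstance : Group ↥Om) with mul_comm := fun a b => Subtype.ext (hcent a.1 a.2 b.1) }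
  let : CommGroup ↥K := IsCyclic.commGroup
  let act : ↥K → Additive ↥Om → Additive ↥Om := fun k a =>
    Additive.ofMul ⟨(k : MulAut P) a.toMul.1, by
      show _ * _ = 1
      rw [← map_mul, show a.toMul.1 * a.toMul.1 = 1 from a.toMul.2, map_one]⟩
  have hne : ∀ {a : Additive ↥Om}, a ≠ 0 → a.toMul.1 ≠ 1 := fun {a} ha e => ha (Subtype.ext e)
  obtain ⟨F, fF, fintF, ψ, κ, -, hψ⟩ := exists_field_of_regular act
    (fun k a b => Subtype.ext (map_mul (k : MulAut P) a.toMul.1 b.toMul.1)) (fun k l a => rfl) (fun a => rfl)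
    (Additive.ofMul ⟨z.1, hzz⟩) (fun e => hz1 (congrArg (fun t => t.toMul.1) e)) (fun a ha => by
      obtain ⟨k, hk, hu⟩ := hreg z.1 a.toMul.1 hz1 hzz (hne ha) a.toMul.2
      exact ⟨k, Subtype.ext hk, fun l hl => hu l (congrArg (fun t => t.toMul.1) hl)⟩)
  have h2 : (1 : F) + 1 = 0 := ψ.injective (by
    rw [map_add, map_zero]
    exact Subtype.ext (show (ψ 1).toMul.1 * (ψ 1).toMul.1 = 1 from (ψ 1).toMul.2))
  refine ⟨F, fF, fintF, CharTwo.of_one_ne_zero_of_two_eq_zero one_ne_zero (one_add_one_eq_two.symm.trans h2), ⟨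
    { pg := hpg
      e := fun a => (ψ a).toMul.1
      e_add := fun a b => by rw [map_add]; rfl
      e_inj := fun a b e => ψ.injective (Subtype.ext e)
      e_central := fun a p => hcent _ (ψ a).toMul.2 p
      range := fun x hx => ⟨ψ.symm (Additive.ofMul ⟨x, hx⟩), by rw [AddEquiv.apply_symm_apply]; rfl⟩
      μ := K.subtype.comp κ.toMonoidHom
      μ_e := fun k a => by rw [hψ]; rfl }⟩⟩

section Ext

variable {V : Type*} [AddGroup V] {P : Type*} [Group P] {Q : Type*} [Group Q]

/-- two extensions of elementary abelian groups with the same squaring map are isomorphic -/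
theorem exists_iso_of_sq [Finite P] [Finite Q] {Z : Type*} [AddGroup Z]
    (π : P → V) (hπ : ∀ p q, π (p * q) = π p + π q) (ι : Z → P) (hι : ∀ a b, ι (a + b) = ι a * ι b)
    (hιc : ∀ a p, ι a * p = p * ι a) (hker : ∀ p, π p = 0 ↔ ∃ a, ι a = p) (hsurj : Function.Surjective π)
    (π' : Q → V) (hπ' : ∀ p q, π' (p * q) = π' p + π' q) (ι' : Z → Q) (hι' : ∀ a b, ι' (a + b) = ι' a * ι' b)
    (hιc' : ∀ a p, ι' a * p = p * ι' a) (hker' : ∀ p, π' p = 0 ↔ ∃ a, ι' a = p) (hsurj' : Function.Surjective π')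
    (hιi : Function.Injective ι) (hιi' : Function.Injective ι')
    (hsq : ∀ p q, π p = π' q → ∃ a, ι a = p * p ∧ ι' a = q * q) : Nonempty (P ≃* Q) := by
  classical
  have hπ1 : π 1 = 0 := by
    have := hπ 1 1; rw [mul_one] at this; exact left_eq_add.1 this
  have hπ1' : π' 1 = 0 := by
    have := hπ' 1 1; rw [mul_one] at this; exact left_eq_add.1 this
  let W : Subgroup (P × Q) :=
    { carrier := {w | π w.1 = π' w.2}
      one_mem' := by show π 1 = π' 1; rw [hπ1, hπ1']
      mul_mem' := fun {a b} ha hb => by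
        show π (a.1 * b.1) = π' (a.2 * b.2)
        rw [hπ, hπ', show π a.1 = π' a.2 from ha, show π b.1 = π' b.2 from hb]
      inv_mem' := fun {a} ha => by
        have e1 : π a.1⁻¹ = - π a.1 := eq_neg_of_add_eq_zero_left (by rw [← hπ, inv_mul_cancel, hπ1])
        have e2 : π' a.2⁻¹ = - π' a.2 := eq_neg_of_add_eq_zero_left (by rw [← hπ', inv_mul_cancel, hπ1'])
        show π a.1⁻¹ = π' a.2⁻¹
        rw [e1, e2, show π a.1 = π' a.2 from ha] }
  let good : Subgroup (P × Q) → Prop := fun C =>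
    C ≤ W ∧ (∀ a, (ι a, ι' a) ∈ C) ∧ ∀ w ∈ C, π w.1 = 0 → ∃ a, (ι a, ι' a) = w
  have hι0 : ι 0 = 1 := by have := hι 0 0; rw [add_zero] at this; exact left_eq_mul.1 this
  have hι0' : ι' 0 = 1 := by have := hι' 0 0; rw [add_zero] at this; exact left_eq_mul.1 this
  let D : Subgroup (P × Q) :=
    { carrier := {w | ∃ a, (ι a, ι' a) = w}
      one_mem' := ⟨0, by rw [hι0, hι0']; rfl⟩
      mul_mem' := by
        rintro _ _ ⟨a, rfl⟩ ⟨b, rfl⟩
        exact ⟨a + b, by rw [hι, hι']; rfl⟩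
      inv_mem' := by
        rintro _ ⟨a, rfl⟩
        refine ⟨-a, eq_inv_of_mul_eq_one_left ?_⟩
        rw [Prod.mk_mul_mk, ← hι, ← hι', neg_add_cancel, hι0, hι0']
        rfl }
  have hD : good D := by
    refine ⟨?_, fun a => ⟨a, rfl⟩, fun w hw _ => hw⟩
    rintro _ ⟨a, rfl⟩
    show π (ι a) = π' (ι' a)
    rw [(hker _).2 ⟨a, rfl⟩, (hker' _).2 ⟨a, rfl⟩]
  obtain ⟨C, hC, hmax⟩ := Set.Finite.exists_maximal (s := {C | good C}) (Set.toFinite _) ⟨D, hD⟩
  obtain ⟨hCW, hCD, hC0⟩ := hC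
  have hWsq : ∀ w ∈ W, w * w ∈ C := fun w hw => by
    obtain ⟨a, e1, e2⟩ := hsq w.1 w.2 hw
    rw [show w * w = (ι a, ι' a) from Prod.ext e1.symm e2.symm]
    exact hCD a
  have hWcomm : ∀ w ∈ W, ∀ c ∈ C, w * c * w⁻¹ ∈ C := fun w hw c hc => by
    rw [show w * c * w⁻¹ = (w * c * (w * c)) * c⁻¹ * ((w * w))⁻¹ by
      have hcent : ∀ v, ∀ d ∈ W, v * (d * d) = d * d * v := fun v d hd => by
        obtain ⟨a, e1, e2⟩ := hsq d.1 d.2 hd
        rw [show d * d = (ι a, ι' a) from Prod.ext e1.symm e2.symm]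
        exact Prod.ext (hιc a v.1).symm (hιc' a v.2).symm
      rw [eq_comm, mul_inv_eq_iff_eq_mul]
      calc w * c * (w * c) * c⁻¹ = w * c * w := by group
        _ = w * c * w⁻¹ * (w * w) := by group]
    exact mul_mem (mul_mem (hWsq _ (mul_mem hw (hCW hc))) (inv_mem hc)) (inv_mem (hWsq w hw))
  have hfull : ∀ v, ∃ w ∈ C, π w.1 = v := by
    intro v
    by_contra hv
    obtain ⟨p, hp⟩ := hsurj v
    obtain ⟨q, hq⟩ := hsurj' v
    set w : P × Q := (p, q) with hw
    have hwW : w ∈ W := show π p = π' q by rw [hp, hq]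
    let C' : Subgroup (P × Q) :=
      { carrier := {u | u ∈ C ∨ u * w⁻¹ ∈ C}
        one_mem' := Or.inl (one_mem C)
        mul_mem' := by
          rintro a b (ha | ha) (hb | hb)
          · exact Or.inl (mul_mem ha hb)
          · exact Or.inr (by rw [mul_assoc]; exact mul_mem ha hb)
          · refine Or.inr ?_
            rw [show a * b * w⁻¹ = a * w⁻¹ * (w * b * w⁻¹) by group]
            exact mul_mem ha (hWcomm w hwW b hb)
          · refine Or.inl ?_
            rw [show a * b = a * w⁻¹ * (w * (b * w⁻¹) * w⁻¹) * (w * w) by group]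
            exact mul_mem (mul_mem ha (hWcomm w hwW _ hb)) (hWsq w hwW)
        inv_mem' := by
          rintro a (ha | ha)
          · exact Or.inl (inv_mem ha)
          · refine Or.inr ?_
            rw [show a⁻¹ * w⁻¹ = w⁻¹ * (a * w⁻¹)⁻¹ * w⁻¹⁻¹ * (w * w)⁻¹ by group]
            exact mul_mem (hWcomm _ (inv_mem hwW) _ (inv_mem ha)) (inv_mem (hWsq w hwW)) }
    have hgood : good C' := by
      refine ⟨?_, fun a => Or.inl (hCD a), ?_⟩
      · rintro u (hu | hu)
        · exact hCW hu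
        · simpa using mul_mem (hCW hu) hwW
      · rintro u (hu | hu) hu0
        · exact hC0 u hu hu0
        · exfalso
          refine hv ⟨_, inv_mem hu, ?_⟩
          rw [mul_inv_rev, inv_inv, Prod.fst_mul, hπ, hp, Prod.fst_inv]
          rw [show π u.1⁻¹ = 0 by rw [← neg_zero, ← hu0]; exact eq_neg_of_add_eq_zero_left (by rw [← hπ, inv_mul_cancel, hπ1]),
            add_zero]
    have := hmax hgood (fun u hu => Or.inl hu) (Or.inr (by rw [mul_inv_cancel]; exact one_mem C) : w ∈ C')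
    exact hv ⟨w, this, hp⟩
  have key : ∀ p, ∃ q, (p, q) ∈ C := fun p => by
    obtain ⟨w, hw, hwp⟩ := hfull (π p)
    obtain ⟨a, ha⟩ := (hker (w.1⁻¹ * p)).1 (by
      rw [hπ, ← hwp, ← hπ, inv_mul_cancel, hπ1])
    exact ⟨w.2 * ι' a, by rw [show (p, w.2 * ι' a) = w * (ι a, ι' a) by rw [ha]; ext <;> simp]; exact mul_mem hw (hCD a)⟩
  have key' : ∀ q, ∃ p, (p, q) ∈ C := fun q => by
    obtain ⟨w, hw, hwp⟩ := hfull (π' q)
    rw [show π w.1 = π' w.2 from hCW hw] at hwp
    obtain ⟨a, ha⟩ := (hker' (w.2⁻¹ * q)).1 (by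
      rw [hπ', ← hwp, ← hπ', inv_mul_cancel, hπ1'])
    exact ⟨w.1 * ι a, by rw [show (w.1 * ι a, q) = w * (ι a, ι' a) by rw [ha]; ext <;> simp]; exact mul_mem hw (hCD a)⟩
  choose f hf using key
  choose g hg using key'
  have uq : ∀ p q q', (p, q) ∈ C → (p, q') ∈ C → q = q' := fun p q q' h1 h2 => by
    obtain ⟨a, ha⟩ := hC0 _ (mul_mem (inv_mem h1) h2) (by simp [hπ1])
    obtain ⟨e1, e2⟩ := Prod.ext_iff.1 ha
    simp only [Prod.fst_mul, Prod.fst_inv, inv_mul_cancel, Prod.snd_mul, Prod.snd_inv] at e1 e2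
    rw [← hι0] at e1
    rw [hιi e1, hι0'] at e2
    exact inv_mul_eq_one.1 e2.symm
  have uq' : ∀ p p' q, (p, q) ∈ C → (p', q) ∈ C → p = p' := fun p p' q h1 h2 => by
    have hu : π ((p, q)⁻¹ * (p', q)).1 = 0 := by
      rw [show π _ = π' _ from hCW (mul_mem (inv_mem h1) h2)]
      simp [hπ1']
    obtain ⟨a, ha⟩ := hC0 _ (mul_mem (inv_mem h1) h2) hu
    obtain ⟨e1, e2⟩ := Prod.ext_iff.1 ha
    simp only [Prod.fst_mul, Prod.fst_inv, inv_mul_cancel, Prod.snd_mul, Prod.snd_inv] at e1 e2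
    rw [← hι0'] at e2
    rw [hιi' e2, hι0] at e1
    exact inv_mul_eq_one.1 e1.symm
  exact ⟨{ toFun := f, invFun := g
           left_inv := fun p => uq' _ _ _ (hg (f p)) (hf p)
           right_inv := fun q => uq _ _ _ (hf (g q)) (hg q)
           map_mul' := fun p p' => uq _ _ _ (hf (p * p')) (mul_mem (hf p) (hf p')) }⟩

end Ext

/-- the element `(x, y)` of the group of type A -/
def mA (F : Type*) [Field F] (φ : F →+* F) (x y : F) : GL (Fin 3) F where
  val := !![1, 0, 0; x, 1, 0; y, φ x, 1]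
  inv := !![1, 0, 0; -x, 1, 0; -y + φ x * x, -φ x, 1]
  val_inv := by
    ext i j
    fin_cases i <;> fin_cases j <;> simp [Matrix.mul_apply, Fin.sum_univ_three] <;> ring
  inv_val := by
    ext i j
    fin_cases i <;> fin_cases j <;> simp [Matrix.mul_apply, Fin.sum_univ_three]

theorem mA_mul {F : Type*} [Field F] (φ : F →+* F) (x y x' y' : F) :
    mA F φ x y * mA F φ x' y' = mA F φ (x + x') (y + y' + φ x * x') := by
  apply Units.ext
  ext i j
  fin_cases i <;> fin_cases j <;> simp [mA, Matrix.mul_apply, Fin.sum_univ_three] <;> ring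

theorem mA_inj {F : Type*} [Field F] {φ : F →+* F} {x y x' y' : F} (e : mA F φ x y = mA F φ x' y') :
    x = x' ∧ y = y' :=
  ⟨congrArg (fun g : GL (Fin 3) F => g.1 1 0) e, congrArg (fun g : GL (Fin 3) F => g.1 2 0) e⟩

theorem mem_suzukiTypeA {F : Type*} [Field F] {φ : F →+* F} {g : GL (Fin 3) F} :
    g ∈ Cfsg.suzukiTypeA F φ ↔ ∃ x y, g = mA F φ x y := by
  constructor
  · intro hg
    induction hg using Subgroup.closure_induction with
    | mem g hg => obtain ⟨x, y, e⟩ := hg; exact ⟨x, y, Units.ext e⟩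
    | one =>
      refine ⟨0, 0, Units.ext ?_⟩
      show (1 : Matrix (Fin 3) (Fin 3) F) = !![1, 0, 0; 0, 1, 0; 0, φ 0, 1]
      ext i j
      fin_cases i <;> fin_cases j <;> simp
    | mul a b _ _ ha hb =>
      obtain ⟨x, y, rfl⟩ := ha
      obtain ⟨x', y', rfl⟩ := hb
      exact ⟨_, _, mA_mul φ x y x' y'⟩
    | inv a _ ha =>
      obtain ⟨x, y, rfl⟩ := ha
      refine ⟨-x, -y + φ x * x, inv_eq_of_mul_eq_one_right ?_⟩
      rw [mA_mul]
      apply Units.ext
      show !![1, 0, 0; x + -x, 1, 0; y + (-y + φ x * x) + φ x * -x, φ (x + -x), 1] = (1 : Matrix (Fin 3) (Fin 3) F)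
      ext i j
      fin_cases i <;> fin_cases j <;> simp
  · rintro ⟨x, y, rfl⟩
    exact Subgroup.subset_closure ⟨x, y, rfl⟩

namespace Data

variable {P : Type u} [Group P] {F : Type} [Field F] (d : Data P F)

include d in
theorem center_card [Finite P] [Finite F] [CharP F 2] (hnc : ∃ x y : P, x * y ≠ y * x) :
    Nat.card (Subgroup.center P) = Nat.card F :=
  (Nat.card_congr (Equiv.ofBijective (fun a => (⟨d.e a, Subgroup.mem_center_iff.2 fun p => (d.e_central a p).symm⟩ :
      Subgroup.center P))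
    ⟨fun a b e => d.e_inj (congrArg Subtype.val e), fun z => by
      obtain ⟨a, ha⟩ := d.range z.1 (d.center_sq hnc z.2)
      exact ⟨a, Subtype.ext ha⟩⟩)).symm

include d in
/-- type A -/
theorem typeA [Finite P] [Fintype F] [CharP F 2] (hnc : ∃ x y : P, x * y ≠ y * x)
    (hcard : Nat.card P = Nat.card (Subgroup.center P) ^ 2) :
    ∃ (F' : Type) (_ : Field F') (_ : Fintype F') (φ : F' ≃+* F'), Fintype.card F' = Nat.card (Subgroup.center P) ∧
      φ ≠ RingEquiv.refl F' ∧ Odd (orderOf φ) ∧ Nonempty (P ≃* Cfsg.suzukiTypeA F' (φ : F' →+* F')) := by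
  classical
  set Z := Subgroup.center P with hZ
  have hq : Nat.card Z = Nat.card F := d.center_card hnc
  have hVcard : Nat.card (P ⧸ Z) = Nat.card F := by
    have h1 := Subgroup.card_eq_card_quotient_mul_card_subgroup Z
    rw [hcard, pow_two] at h1
    rw [← hq]
    exact (Nat.eq_of_mul_eq_mul_right Nat.card_pos h1).symm
  have hZne : Z ≠ ⊤ := fun e => by
    obtain ⟨x, y, hxy⟩ := hnc
    exact hxy (Subgroup.mem_center_iff.1 (e ▸ Subgroup.mem_top x : x ∈ Z) y).symm
  have hA : d.Ok Z 1 := by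
    refine ⟨fun a ha b _ => (Subgroup.mem_center_iff.1 ha b).symm, fun a ha => by rw [pow_one, pow_two]; exact d.center_sq hnc ha,
      ⟨d.e 1, Subgroup.mem_center_iff.2 fun p => (d.e_central 1 p).symm, by simpa using d.e_ne one_ne_zero⟩,
      fun k a ha => d.center_inv k ha,
      fun a ha p => ⟨1, one_mem _, by rw [one_pow, Subgroup.mem_center_iff.1 ha p, mul_inv_cancel_right, mul_inv_cancel]⟩⟩
  obtain ⟨x, hx, hxZ⟩ := exists_next_not_mem hA hZne
  have hxx : x * x * (x * x) = 1 := d.center_sq hnc hx.1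
  have hxne : x * x ≠ 1 := fun e => hxZ (by rw [← d.e_co e]; exact hA.e_mem _)
  obtain ⟨k0, hk0⟩ := d.exists_μ one_ne_zero hxx hxne
  set x0 := d.μ k0 x with hx0
  have hx0n : x0 ∈ hA.next := hA.next_inv k0 hx
  have hx0sq : x0 * x0 = d.e 1 := by rw [hx0, ← map_mul, hk0]
  have hsqmul : ∀ (a z : P), z ∈ Z → a * z * (a * z) = a * a := fun a z hz => by
    rw [show a * z * (a * z) = a * (z * a) * z by group, ← Subgroup.mem_center_iff.1 hz a,
      show a * (a * z) * z = a * a * (z * z) by group, d.center_sq hnc hz, mul_one]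
  have hμsq : ∀ k : Fˣ, d.μ k x0 * d.μ k x0 = d.e k := fun k => by rw [← map_mul, hx0sq, d.μ_e, mul_one]
  let ι : Option Fˣ → P ⧸ Z := fun o => o.elim 1 (fun k => ((d.μ k x0 : P) : P ⧸ Z))
  have hιinj : Function.Injective ι := by
    have h1 : ∀ k : Fˣ, ((d.μ k x0 : P) : P ⧸ Z) ≠ 1 := fun k e => by
      have := d.center_sq hnc ((QuotientGroup.eq_one_iff _).1 e)
      rw [hμsq] at this
      exact d.e_ne k.ne_zero this
    rintro (_ | k) (_ | l) e
    · rfl
    · exact absurd e.symm (h1 l)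
    · exact absurd e (h1 k)
    · have hz := QuotientGroup.eq.1 (show ((d.μ k x0 : P) : P ⧸ Z) = ((d.μ l x0 : P) : P ⧸ Z) from e)
      have := hsqmul (d.μ k x0) _ hz
      rw [mul_inv_cancel_left, hμsq, hμsq] at this
      rw [Units.ext (d.e_inj this)]
  have hcardO : Nat.card (Option Fˣ) = Nat.card F := by
    rw [Finite.card_option, Nat.card_units, Nat.sub_add_cancel Nat.card_pos]
  have hιbij : Function.Bijective ι := (Nat.bijective_iff_injective_and_card ι).2 ⟨hιinj, hcardO.trans hVcard.symm⟩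
  have hlayer : ∀ p : P, p ∈ hA.next := fun p => by
    obtain ⟨o, ho⟩ := hιbij.2 (p : P ⧸ Z)
    rcases o with _ | k
    · exact hA.le_next ((QuotientGroup.eq_one_iff p).1 ho.symm)
    · have hz : (d.μ k x0)⁻¹ * p ∈ Z := QuotientGroup.eq.1 ho
      rw [show p = d.μ k x0 * ((d.μ k x0)⁻¹ * p) by group]
      exact mul_mem (hA.next_inv k hx0n) (hA.le_next hz)
  have hcomZ : ∀ p q : P, p * q * p⁻¹ * q⁻¹ ∈ Z := fun p q => (hlayer q).2 p
  have hsqZ : ∀ p : P, p * p ∈ Z := fun p => (hlayer p).1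
  let iV : CommGroup (P ⧸ Z) := { (inferInstance : Group (P ⧸ Z)) with
    mul_comm := fun a b => by
      obtain ⟨p, rfl⟩ := QuotientGroup.mk_surjective a
      obtain ⟨q, rfl⟩ := QuotientGroup.mk_surjective b
      have := (QuotientGroup.eq_one_iff _).2 (hcomZ p q)
      rw [QuotientGroup.mk_mul, QuotientGroup.mk_mul, QuotientGroup.mk_mul, QuotientGroup.mk_inv, QuotientGroup.mk_inv] at this
      exact mul_inv_eq_iff_eq_mul.1 (mul_inv_eq_one.1 this) }
  let am : Fˣ → P ⧸ Z →* P ⧸ Z := fun k => QuotientGroup.map Z Z (d.μ k).toMonoidHom fun z hz => d.center_inv k hz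
  obtain ⟨G, fG, fintG, ψ, κ, hψ1, hψ⟩ := exists_field_of_regular (T := Additive (P ⧸ Z))
    (fun k a => Additive.ofMul (am k a.toMul)) (fun k a b => by
      show Additive.ofMul (am k (a.toMul * b.toMul)) = _
      rw [map_mul]; rfl)
    (fun k l a => by
      obtain ⟨p, hp⟩ := QuotientGroup.mk_surjective a.toMul
      show Additive.ofMul (am (k * l) a.toMul) = Additive.ofMul (am k (am l a.toMul))
      rw [← hp]
      show Additive.ofMul ((d.μ (k * l) p : P) : P ⧸ Z) = Additive.ofMul ((d.μ k (d.μ l p) : P) : P ⧸ Z)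
      rw [map_mul]; rfl)
    (fun a => by
      obtain ⟨p, hp⟩ := QuotientGroup.mk_surjective a.toMul
      show Additive.ofMul (am 1 a.toMul) = a
      rw [← hp]
      show Additive.ofMul ((d.μ 1 p : P) : P ⧸ Z) = a
      rw [map_one, MulAut.one_apply, hp]
      rfl)
    (Additive.ofMul ((x0 : P) : P ⧸ Z))
    (fun e => hιbij.1.ne (show some (1 : Fˣ) ≠ none by simp) (by simpa [ι] using congrArg Additive.toMul e))
    (fun a ha => by
      obtain ⟨o, ho⟩ := hιbij.2 a.toMul
      rcases o with _ | k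
      · exact absurd (congrArg Additive.ofMul ho.symm) ha
      · refine ⟨k, congrArg Additive.ofMul ho, fun l hl => ?_⟩
        exact Option.some_injective _ (hιbij.1 ((congrArg Additive.toMul hl).trans ho.symm)))
  have hGF : Fintype.card F = Fintype.card G := by
    rw [← Nat.card_eq_fintype_card, ← Nat.card_eq_fintype_card, Nat.card_congr ψ.toEquiv]
    exact hVcard.symm
  let eFG : F ≃+* G := FiniteField.ringEquivOfCardEq hGF
  let pr : P → F := fun p => eFG.symm (ψ.symm (Additive.ofMul (p : P ⧸ Z)))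
  let S : P → F := fun p => d.co (p * p)
  have hpr_mul : ∀ p q, pr (p * q) = pr p + pr q := fun p q => by
    simp only [pr, QuotientGroup.mk_mul, ofMul_mul, map_add]
  have hpr0 : ∀ p, pr p = 0 ↔ p ∈ Z := fun p => by
    simp only [pr, map_eq_zero_iff _ eFG.symm.injective, map_eq_zero_iff _ ψ.symm.injective, ofMul_eq_zero,
      QuotientGroup.eq_one_iff]
  have hpr_surj : Function.Surjective pr := fun a => by
    obtain ⟨p, hp⟩ := QuotientGroup.mk_surjective (ψ (eFG a)).toMul
    exact ⟨p, by simp [pr, hp]⟩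
  have hScongr : ∀ p q : P, pr p = pr q → S p = S q := fun p q e => by
    have h0 : pr (p⁻¹ * q) = 0 := by
      have h1 := hpr_mul p (p⁻¹ * q)
      rw [mul_inv_cancel_left, e] at h1
      exact left_eq_add.1 h1
    simp only [S]
    rw [show q = p * (p⁻¹ * q) by group, hsqmul p _ ((hpr0 _).1 h0)]
  choose lf hlf using hpr_surj
  let q : F → F := fun a => S (lf a)
  let w : Fˣ → Fˣ := fun k => κ (Units.map eFG.toRingHom.toMonoidHom k)
  have hqmul : ∀ (k : Fˣ) a, q (k * a) = (w k : F) * q a := by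
    intro k a
    have e1 : pr (d.μ (w k) (lf a)) = (k : F) * a := by
      apply eFG.injective
      apply ψ.injective
      simp only [pr, RingEquiv.apply_symm_apply, AddEquiv.apply_symm_apply]
      rw [map_mul, show eFG (k : F) = ((Units.map eFG.toRingHom.toMonoidHom k : Gˣ) : G) from rfl, hψ]
      show _ = Additive.ofMul (am (w k) (ψ (eFG a)).toMul)
      have := congrArg (fun t => ψ (eFG t)) (hlf a)
      simp only [pr, RingEquiv.apply_symm_apply, AddEquiv.apply_symm_apply] at this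
      rw [← this]
      rfl
    show S (lf (k * a)) = (w k : F) * S (lf a)
    rw [hScongr (lf (k * a)) (d.μ (w k) (lf a)) ((hlf _).trans e1.symm)]
    simp only [S]
    rw [← map_mul, d.co_μ (w k) (d.center_sq hnc (hsqZ _))]
  have hq1 : q 1 = 1 := by
    have e1 : pr x0 = 1 := by
      apply eFG.injective
      apply ψ.injective
      simp only [pr, RingEquiv.apply_symm_apply, AddEquiv.apply_symm_apply, map_one, hψ1]
    show S (lf 1) = 1
    rw [hScongr _ _ ((hlf 1).trans e1.symm)]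
    simp only [S, hx0sq, d.co_e]
  have hwq : ∀ k : Fˣ, (w k : F) = q k := fun k => by
    have := hqmul k 1
    rw [mul_one, hq1, mul_one] at this
    exact this.symm
  have hq0 : q 0 = 0 := by
    show S (lf 0) = 0
    simp only [S, d.center_sq hnc ((hpr0 _).1 (hlf 0)), d.co_one]
  have hqinj : Function.Injective q := by
    have hwinj : Function.Injective w := κ.injective.comp (Units.map_injective eFG.injective)
    intro a b e
    by_cases ha : a = 0
    · subst ha
      by_contra hb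
      rw [hq0, ← Units.val_mk0 (Ne.symm hb), ← hwq] at e
      exact (w _).ne_zero e.symm
    by_cases hb : b = 0
    · subst hb
      rw [hq0, ← Units.val_mk0 ha, ← hwq] at e
      exact absurd e (w _).ne_zero
    rw [← Units.val_mk0 ha, ← Units.val_mk0 hb, ← hwq, ← hwq] at e
    exact congrArg Units.val (hwinj (Units.ext e))
  -- the commutator form
  let cf : P → P → F := fun p p' => d.co (p' * p * p'⁻¹ * p⁻¹)
  have hcf2 : ∀ p p' : P, p' * p * p'⁻¹ * p⁻¹ * (p' * p * p'⁻¹ * p⁻¹) = 1 := fun p p' => d.center_sq hnc (hcomZ p' p)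
  have hcf_left : ∀ p p1 p', cf (p * p1) p' = cf p p' + cf p1 p' := fun p p1 p' => by
    simp only [cf]
    rw [show p' * (p * p1) * p'⁻¹ * (p * p1)⁻¹ = p' * p * p'⁻¹ * p⁻¹ * (p * (p' * p1 * p'⁻¹ * p1⁻¹) * p⁻¹) by group,
      Subgroup.mem_center_iff.1 (hcomZ p' p1) p, mul_inv_cancel_right, d.co_mul (hcf2 _ _) (hcf2 _ _)]
  have hcf_right : ∀ p p' p1, cf p (p' * p1) = cf p p' + cf p p1 := fun p p' p1 => by
    simp only [cf]
    rw [show p' * p1 * p * (p' * p1)⁻¹ * p⁻¹ = p' * (p1 * p * p1⁻¹ * p⁻¹) * p'⁻¹ * (p' * p * p'⁻¹ * p⁻¹) by group,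
      Subgroup.mem_center_iff.1 (hcomZ p1 p) p', mul_inv_cancel_right, d.co_mul (hcf2 _ _) (hcf2 _ _), add_comm]
  have hS_mul : ∀ p p', S (p * p') = S p + S p' + cf p p' := fun p p' => by
    simp only [S, cf]
    rw [show p * p' * (p * p') = p * (p' * p * p'⁻¹ * p⁻¹) * p⁻¹ * ((p * p) * (p' * p')) by group,
      Subgroup.mem_center_iff.1 (hcomZ p' p) p, mul_inv_cancel_right, d.co_mul (hcf2 _ _)
        (d.center_sq hnc (mul_mem (hsqZ p) (hsqZ p'))),
      d.co_mul (d.center_sq hnc (hsqZ p)) (d.center_sq hnc (hsqZ p'))]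
    ring
  have hBdef : ∀ p p', cf p p' = q (pr p + pr p') + q (pr p) + q (pr p') := fun p p' => by
    have e1 : q (pr p + pr p') = S (p * p') := hScongr _ _ (by rw [hlf, hpr_mul])
    have e2 : q (pr p) = S p := hScongr _ _ (hlf _)
    have e3 : q (pr p') = S p' := hScongr _ _ (hlf _)
    rw [e1, e2, e3, hS_mul]
    linear_combination -(S p + S p') * (CharTwo.two_eq_zero : (2 : F) = 0)
  let B : F →+ F →+ F := AddMonoidHom.mk' (fun a => AddMonoidHom.mk' (fun b => q (a + b) + q a + q b) (fun b b' => by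
      have := hcf_right (lf a) (lf b) (lf b')
      rw [hBdef, hBdef, hBdef, hpr_mul, hlf, hlf, hlf] at this
      exact this))
    (fun a a' => AddMonoidHom.ext fun b => by
      have := hcf_left (lf a) (lf a') (lf b)
      rw [hBdef, hBdef, hBdef, hpr_mul, hlf, hlf, hlf] at this
      exact this)
  have : Finite (F ≃+* F) := Finite.of_injective (fun σ => (σ : F → F)) DFunLike.coe_injective
  let := Fintype.ofFinite (F ≃+* F)
  obtain ⟨c, hc⟩ := Cfsg.Agent.Suzuki.exists_biadditive_coeff B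
  have hBk : ∀ (k : Fˣ) a b, B (k * a) (k * b) = q k * B a b := fun k a b => by
    show q (k * a + k * b) + q (k * a) + q (k * b) = q k * (q (a + b) + q a + q b)
    rw [← mul_add, hqmul, hqmul, hqmul, hwq]
    ring
  obtain ⟨s, hs⟩ : ∃ s, c s ≠ 0 := by
    by_contra hc0
    push Not at hc0
    obtain ⟨u, v, huv⟩ := hnc
    refine huv ?_
    have e1 : cf v u = 0 := by
      rw [hBdef, show q (pr v + pr u) + q (pr v) + q (pr u) = B (pr v) (pr u) from rfl, hc]
      simp [hc0]
    exact mul_inv_eq_iff_eq_mul.1 (mul_inv_eq_one.1 (d.eq_one_of_co (hcf2 v u) e1))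
  have hcoef : ∀ k : Fˣ, q k = s.1 k * s.2 k := by
    intro k
    have e1 : ∀ a b, ∑ σ : F ≃+* F, (∑ τ : F ≃+* F, c (σ, τ) * (σ k * τ k - q k) * τ b) * σ a = 0 := by
      intro a b
      have := hBk k a b
      rw [hc, hc, Finset.mul_sum, ← sub_eq_zero, ← Finset.sum_sub_distrib, Fintype.sum_prod_type] at this
      refine Eq.trans ?_ this
      refine Finset.sum_congr rfl fun σ _ => ?_
      rw [Finset.sum_mul]
      refine Finset.sum_congr rfl fun τ _ => ?_
      simp only [map_mul]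
      ring
    have e2 : ∀ b, (fun σ : F ≃+* F => ∑ τ : F ≃+* F, c (σ, τ) * (σ k * τ k - q k) * τ b) = 0 := fun b =>
      Cfsg.Agent.Suzuki.coeff_unique fun a => by simpa using e1 a b
    have e3 : (fun τ : F ≃+* F => c (s.1, τ) * (s.1 k * τ k - q k)) = 0 :=
      Cfsg.Agent.Suzuki.coeff_unique fun b => by simpa using congrFun (e2 b) s.1
    have e4 := congrFun e3 s.2
    simp only [Pi.zero_apply, mul_eq_zero, hs, false_or] at e4
    exact (sub_eq_zero.1 e4).symm
  have hqall : ∀ a, q a = s.1 a * s.2 a := fun a => by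
    by_cases ha : a = 0
    · rw [ha, hq0, map_zero, zero_mul]
    · exact hcoef (Units.mk0 a ha)
  let φ : F ≃+* F := s.1.symm.trans s.2
  have hqφ : ∀ a, q a = s.1 a * φ (s.1 a) := fun a => by simp [φ, hqall]
  refine ⟨F, inferInstance, inferInstance, φ, by rw [← Nat.card_eq_fintype_card, hq], fun e => ?_, ?_, ?_⟩
  · obtain ⟨u, v, huv⟩ := hnc
    refine huv ?_
    have e1 : cf v u = 0 := by
      rw [hBdef, hqφ, hqφ, hqφ, e]
      simp only [RingEquiv.refl_apply, map_add]
      linear_combination (s.1 (pr v) * s.1 (pr v) + s.1 (pr u) * s.1 (pr u) + s.1 (pr v) * s.1 (pr u)) *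
        (CharTwo.two_eq_zero : (2 : F) = 0)
    exact mul_inv_eq_iff_eq_mul.1 (mul_inv_eq_one.1 (d.eq_one_of_co (hcf2 v u) e1))
  · refine odd_order_of_injective φ fun a b e => ?_
    have h1 := hqφ (s.1.symm a)
    have h2 := hqφ (s.1.symm b)
    rw [RingEquiv.apply_symm_apply] at h1 h2
    exact s.1.symm.injective (hqinj (h1.trans (e.trans h2.symm)))
  · let φ' : F →+* F := (φ : F →+* F)
    let ιA : F → Cfsg.suzukiTypeA F φ' := fun a => ⟨mA F φ' 0 a, mem_suzukiTypeA.2 ⟨0, a, rfl⟩⟩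
    let prA : Cfsg.suzukiTypeA F φ' → F := fun g => g.1.1 1 0
    have : Finite (Cfsg.suzukiTypeA F φ') := inferInstance
    have hzA : ∀ g : Cfsg.suzukiTypeA F φ', ∃ x y, g.1 = mA F φ' x y := fun g => mem_suzukiTypeA.1 g.2
    refine exists_iso_of_sq (fun p => s.1 (pr p)) (fun p p' => by rw [hpr_mul, map_add]) d.e d.e_add d.e_central
      (fun p => ?_) (fun a => ⟨lf (s.1.symm a), by simp only [hlf, RingEquiv.apply_symm_apply]⟩) prA ?_ ιA ?_ ?_ ?_ ?_ d.e_inj ?_ ?_
    · rw [map_eq_zero_iff _ s.1.injective, hpr0]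
      exact ⟨fun hp => d.range p (d.center_sq hnc hp), by rintro ⟨a, rfl⟩; exact hA.e_mem a⟩
    · intro g g'
      obtain ⟨a, b, e1⟩ := hzA g
      obtain ⟨a', b', e2⟩ := hzA g'
      show (g.1 * g'.1).1 1 0 = g.1.1 1 0 + g'.1.1 1 0
      rw [e1, e2, mA_mul]
      rfl
    · intro a b
      apply Subtype.ext
      show mA F φ' 0 (a + b) = mA F φ' 0 a * mA F φ' 0 b
      simp [mA_mul]
    · intro a g
      obtain ⟨x, y, e1⟩ := hzA g
      apply Subtype.ext
      show mA F φ' 0 a * g.1 = g.1 * mA F φ' 0 a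
      rw [e1, mA_mul, mA_mul]
      simp [add_comm]
    · intro g
      obtain ⟨x, y, e1⟩ := hzA g
      constructor
      · intro hg
        refine ⟨y, Subtype.ext ?_⟩
        rw [e1, show x = 0 by
          have : g.1.1 1 0 = 0 := hg
          rw [e1] at this
          exact this]
      · rintro ⟨a, rfl⟩
        rfl
    · intro a
      exact ⟨⟨mA F φ' a 0, mem_suzukiTypeA.2 ⟨a, 0, rfl⟩⟩, rfl⟩
    · intro a b e
      exact (mA_inj (congrArg Subtype.val e)).2
    · intro p g e
      obtain ⟨x, y, e1⟩ := hzA g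
      have hx' : s.1 (pr p) = x := e.trans (by show g.1.1 1 0 = x; rw [e1]; rfl)
      refine ⟨S p, d.e_co (d.center_sq hnc (hsqZ p)), Subtype.ext ?_⟩
      show mA F φ' 0 (S p) = g.1 * g.1
      rw [e1, mA_mul, CharTwo.add_self_eq_zero, CharTwo.add_self_eq_zero, zero_add]
      congr 1
      rw [← hScongr (lf (pr p)) p (hlf _)]
      show q (pr p) = φ x * x
      rw [hqφ, hx', mul_comm]

end Data

end Cfsg.Agent.Suzuki.TwoGroup
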